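import Groth.Agent.ExtShX.DualStalk
import Groth.Agent.Horrocks.Dim
import Groth.Agent.SerrePn.Local
import Groth.Agent.CohFinite.Serre
import Groth.Agent.CurveRR.Curve

/-!
Dimension of the local rings of projective space along an equidimensional closed subscheme.
-/

set_option autoImplicit false
set_option linter.style.haveILetI false
set_option backward.isDefEq.respectTransparency false

universe u

open CategoryTheory AlgebraicGeometry TopologicalSpace

namespace Groth.Agent.ExtShX

variable {k : Type u} [Field k] {n : ℕ}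

theorem twist_rankOne (a : ℤ) : FlatMod.IsFinLocFreeOfRank 1 (Twist.twistProjSpace n k a) :=
  CurveRR.isFinLocFreeOfRank_one (CohFinite.isInvertible_twist n k a)

theorem twist_finLocFree (a : ℤ) : FlatMod.IsFinLocFree (Twist.twistProjSpace n k a) := fun x => by
  obtain ⟨U, hxU, e⟩ := twist_rankOne (k := k) (n := n) a x
  exact ⟨U, 1, hxU, e⟩

theorem components_projSpace : ∀ Z : Set (CohB1.ProjSpace n k), Z ∈ irreducibleComponents (CohB1.ProjSpace n k) →
    topologicalKrullDim ↥Z = (n : WithBot ℕ∞) := fun Z hZ => by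
  haveI := Horrocks.isIntegral_projSpace (k := k) (n := n)
  rw [irreducibleComponents_eq_singleton, Set.mem_singleton_iff] at hZ
  subst hZ
  rw [← S10829.result k n]
  exact IsHomeomorph.topologicalKrullDim_eq _ (Homeomorph.Set.univ (CohB1.ProjSpace n k)).isHomeomorph

variable {X : Scheme.{u}} (ι : X ⟶ CohB1.ProjSpace n k) [IsClosedImmersion ι] (r : ℕ)
  (heq : ∀ Z : Set ↥X, Z ∈ irreducibleComponents ↥X → topologicalKrullDim ↥Z = (r : WithBot ℕ∞))

include heq in
/-- The codimension bound. -/
theorem le_dim_stalk (x : X) (d : ℕ) (hd : ringKrullDim ((CohB1.ProjSpace n k).presheaf.stalk (ι x)) = d) : n - r ≤ d := by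
  haveI : LocallyOfFiniteType (CohB1.ProjSpace n k ↘ Spec (CommRingCat.of k)) :=
    (ProjMor.isProper_toSpec n k).toLocallyOfFiniteType
  obtain ⟨a, d', ha, hd', hn⟩ := exists_dims_field (CohB1.ProjSpace n k ↘ Spec (CommRingCat.of k)) n components_projSpace (ι x)
  rw [hd, Nat.cast_inj] at hd'
  have hsub : closure ({ι x} : Set (CohB1.ProjSpace n k)) ⊆ ι '' irreducibleComponent x :=
    closure_minimal (Set.singleton_subset_iff.2 ⟨x, mem_irreducibleComponent, rfl⟩)
      ((Scheme.Hom.isClosedEmbedding ι).isClosedMap _ isClosed_irreducibleComponent)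
  have hr' := (Scheme.Hom.isClosedEmbedding ι).isEmbedding.comp (Topology.IsEmbedding.subtypeVal (p := (· ∈ irreducibleComponent x)))
  have h1 := (Topology.IsEmbedding.inclusion (show closure ({ι x} : Set (CohB1.ProjSpace n k)) ⊆
      Set.range (ι ∘ (Subtype.val : irreducibleComponent x → X)) by
    rw [Set.range_comp, Subtype.range_coe]; exact hsub)).isInducing.topologicalKrullDim_le
  rw [← IsHomeomorph.topologicalKrullDim_eq _ hr'.toHomeomorph.isHomeomorph, ha,
    heq _ (irreducibleComponent_mem_irreducibleComponents x), Nat.cast_le] at h1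
  omega

include heq in
/-- The strict bound off the generic points. -/
theorem lt_dim_stalk (x : X) (hx : closure ({x} : Set X) ∉ irreducibleComponents ↥X) (d : ℕ)
    (hd : ringKrullDim ((CohB1.ProjSpace n k).presheaf.stalk (ι x)) = d) : n - r + 1 ≤ d := by
  obtain ⟨ξ, hξ⟩ := QuasiSober.sober (isIrreducible_irreducibleComponent (x := x)) isClosed_irreducibleComponent
  have hne : ξ ≠ x := fun h => hx (by
    subst h
    rw [hξ.def]
    exact irreducibleComponent_mem_irreducibleComponents _)
  have hsp : ι ξ ⤳ ι x := (hξ.specializes mem_irreducibleComponent).map ι.continuous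
  have hlt : ι x < ι ξ := lt_iff_le_not_ge.2 ⟨Scheme.le_iff_specializes.2 hsp, fun h =>
    hne ((Scheme.Hom.isClosedEmbedding ι).injective (hsp.antisymm (Scheme.le_iff_specializes.1 h)).eq)⟩
  haveI := SerrePn.isRegularLocalRing_stalk k n (ι ξ)
  obtain ⟨d', hd'⟩ := SerreReg.exists_dim ((CohB1.ProjSpace n k).presheaf.stalk (ι ξ))
  have h1 := le_dim_stalk ι r heq ξ d' hd'
  rw [ringKrullDim_stalk_eq_coheight] at hd hd'
  have h2 := Order.coheight_add_one_le hlt
  have hd2 : Order.coheight (ι x) = (d : ℕ∞) := WithBot.coe_inj.1 hd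
  have hd3 : Order.coheight (ι ξ) = (d' : ℕ∞) := WithBot.coe_inj.1 hd'
  rw [hd2, hd3] at h2
  norm_cast at h2
  omega

include heq in
/-- The dimension at a generic point. -/
theorem dim_stalk_component (x : X) (hx : closure ({x} : Set X) ∈ irreducibleComponents ↥X) :
    ∃ a d : ℕ, a = r ∧ ringKrullDim ((CohB1.ProjSpace n k).presheaf.stalk (ι x)) = (d : WithBot ℕ∞) ∧ a + d = n := by
  haveI : LocallyOfFiniteType (CohB1.ProjSpace n k ↘ Spec (CommRingCat.of k)) :=
    (ProjMor.isProper_toSpec n k).toLocallyOfFiniteType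
  obtain ⟨a, d, ha, hd, hn⟩ := exists_dims_field (CohB1.ProjSpace n k ↘ Spec (CommRingCat.of k)) n components_projSpace (ι x)
  refine ⟨a, d, ?_, hd, hn⟩
  have hr' := (Scheme.Hom.isClosedEmbedding ι).isEmbedding.comp (Topology.IsEmbedding.subtypeVal (p := (· ∈ closure ({x} : Set X))))
  have h1 := IsHomeomorph.topologicalKrullDim_eq _ hr'.toHomeomorph.isHomeomorph
  have h2 : Set.range (ι ∘ (Subtype.val : closure ({x} : Set X) → X)) = closure ({ι x} : Set (CohB1.ProjSpace n k)) := by
    rw [Set.range_comp, Subtype.range_coe, ← (Scheme.Hom.isClosedEmbedding ι).closure_image_eq, Set.image_singleton]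
  have h3 := IsHomeomorph.topologicalKrullDim_eq _ (Homeomorph.setCongr h2).isHomeomorph
  rw [ha, ← h1, heq _ hx, Nat.cast_inj] at h3
  exact h3.symm

end Groth.Agent.ExtShX
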