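import Groth.Agent.CmpSite.Shift
import Mathlib.CategoryTheory.Abelian.Injective.Ext
import Mathlib.CategoryTheory.Adjunction.Additive

/-!
For an exact left adjoint `G ⊣ T`, if `RʲT(N) = 0` for `j < c` then `Extᶜ(G -, N)` is represented by `RᶜT(N)`.
-/

set_option autoImplicit false
set_option linter.style.haveILetI false
set_option linter.unusedSectionVars false
set_option backward.isDefEq.respectTransparency false
set_option backward.isDefEq.respectTransparency.types false

universe w v v' u u'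

open CategoryTheory Category Limits HomologicalComplex Abelian
open Groth.Agent.CmpSite

noncomputable section

namespace Groth.Agent.ExtShX

variable {A : Type u} [Category.{v} A] [Abelian A]

lemma injective_cycles (K : CochainComplex A ℕ) (hK : ∀ i, Injective (K.X i)) (c : ℕ)
    (hex : ∀ j, j < c → IsZero (K.homology j)) : ∀ j, j < c → Injective (K.cycles j) := by
  intro j
  induction j with
  | zero =>
    intro hj
    haveI := K.isIso_homologyπ _ 0 rfl (K.shape _ _ (by simp))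
    have hz : IsZero (K.cycles 0) := (hex 0 hj).of_iso (asIso (K.homologyπ 0))
    exact ⟨fun g f _ => ⟨0, hz.eq_of_tgt _ _⟩⟩
  | succ j ih =>
    intro hj
    haveI := ih (by omega)
    haveI := hK j
    have hS := cyclesSeq_shortExact K j
    obtain ⟨r, hr⟩ := Injective.factors (𝟙 _) (cyclesSeq K j).f
    let sp := ShortComplex.Splitting.ofExactOfRetraction _ hS.exact r hr hS.epi_g
    haveI : Injective (bd K j) :=
      ⟨fun {X Y} g f _ => ⟨Injective.factorThru (g ≫ sp.s) f ≫ toBd K j, by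
        rw [Injective.comp_factorThru_assoc, assoc]
        exact (congrArg (g ≫ ·) sp.s_g).trans (comp_id g)⟩⟩
    haveI : Epi (kernel.ι (K.homologyπ (j + 1))) :=
      (homologySeq_shortExact K j).exact.epi_f ((hex (j + 1) hj).eq_of_tgt _ _)
    haveI := isIso_of_mono_of_epi (kernel.ι (K.homologyπ (j + 1)))
    exact Injective.of_iso (asIso (kernel.ι (K.homologyπ (j + 1)))) inferInstance

lemma exists_sections (K : CochainComplex A ℕ) (hK : ∀ i, Injective (K.X i)) (j : ℕ)
    (hex : ∀ i, i < j + 1 → IsZero (K.homology i)) :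
    ∃ (s : bd K j ⟶ K.X j) (σ : K.homology (j + 1) ⟶ K.cycles (j + 1)) (r : K.cycles (j + 1) ⟶ bd K j),
      s ≫ toBd K j = 𝟙 _ ∧ σ ≫ K.homologyπ (j + 1) = 𝟙 _ ∧
        r ≫ kernel.ι (K.homologyπ (j + 1)) + K.homologyπ (j + 1) ≫ σ = 𝟙 _ := by
  haveI := injective_cycles K hK (j + 1) hex j (Nat.lt_succ_self j)
  haveI := hK j
  have hS := cyclesSeq_shortExact K j
  obtain ⟨r₀, hr₀⟩ := Injective.factors (𝟙 _) (cyclesSeq K j).f
  let sp := ShortComplex.Splitting.ofExactOfRetraction _ hS.exact r₀ hr₀ hS.epi_g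
  haveI : Injective (bd K j) :=
    ⟨fun {X Y} g f _ => ⟨Injective.factorThru (g ≫ sp.s) f ≫ toBd K j, by
      rw [Injective.comp_factorThru_assoc, assoc]
      exact (congrArg (g ≫ ·) sp.s_g).trans (comp_id g)⟩⟩
  have hT := homologySeq_shortExact K j
  haveI : Mono (homologySeq K j).f := hT.mono_f
  obtain ⟨r, hr⟩ := Injective.factors (J := bd K j) (𝟙 _) (homologySeq K j).f
  let sq := ShortComplex.Splitting.ofExactOfRetraction _ hT.exact r hr hT.epi_g
  exact ⟨sp.s, sq.s, sq.r, sp.s_g, sq.s_g, sq.id⟩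

variable {B : Type u'} [Category.{v'} B] [Abelian B] [HasExt.{w} B] [EnoughInjectives B]

/-- The representing object. -/
theorem exists_rep (G : A ⥤ B) (T : B ⥤ A) (adj : G ⊣ T) [T.Additive] [G.Additive] [PreservesFiniteLimits T]
    (hT : ∀ I : B, Injective I → Injective (T.obj I)) (N : B) (c : ℕ)
    (hz : ∀ j, j < c → IsZero ((T.rightDerived j).obj N)) :
    ∃ Φ : ∀ F : A, (F ⟶ (T.rightDerived c).obj N) →+ Ext.{w} (G.obj F) N c,
      (∀ F, Function.Bijective (Φ F)) ∧
        ∀ {F F' : A} (p : F ⟶ F') (φ : F' ⟶ (T.rightDerived c).obj N),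
          Φ F (p ≫ φ) = (Ext.mk₀ (G.map p)).comp (Φ F' φ) (zero_add c) := by
  rcases c with _ | j
  · let i := (T.rightDerivedZeroIsoSelf).app N
    refine ⟨fun F => AddMonoidHom.mk' (fun φ => Ext.mk₀ ((adj.homEquiv F N).symm (φ ≫ i.hom)))
      fun a b => ?_, fun F => ?_, fun {F F'} p φ => ?_⟩
    · rw [Preadditive.add_comp, ← adj.homAddEquiv_symm_apply, map_add, Ext.mk₀_add]
      rfl
    · exact (Ext.mk₀_bijective _ _).comp ((adj.homEquiv F N).symm.bijective.comp
        (i.homToEquiv (Z := F)).bijective)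
    · show Ext.mk₀ _ = (Ext.mk₀ _).comp (Ext.mk₀ _) _
      rw [Ext.mk₀_comp_mk₀, assoc, adj.homEquiv_naturality_left_symm]
  let R := injectiveResolution N
  let K : CochainComplex A ℕ := (T.mapHomologicalComplex _).obj R.cocomplex
  have hex : ∀ i, i < j + 1 → IsZero (K.homology i) := fun i hi =>
    (hz i hi).of_iso (R.isoRightDerivedObj T i).symm
  obtain ⟨s, σ, r, hs, hσ, hid⟩ := exists_sections K (fun i => hT _ (R.injective i)) j hex
  let e := R.isoRightDerivedObj T (j + 1)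
  let a : ∀ F : A, (F ⟶ (T.rightDerived (j + 1)).obj N) → (F ⟶ T.obj (R.cocomplex.X (j + 1))) := fun F φ =>
    φ ≫ e.hom ≫ σ ≫ K.iCycles (j + 1)
  have hcl : ∀ (F : A) (φ : F ⟶ (T.rightDerived (j + 1)).obj N),
      (adj.homEquiv F _).symm (a F φ) ≫ R.cocomplex.d (j + 1) (j + 1 + 1) = 0 := fun F φ => by
    rw [← adj.homEquiv_naturality_right_symm]
    have h0 : a F φ ≫ T.map (R.cocomplex.d (j + 1) (j + 1 + 1)) = 0 := by
      show (φ ≫ e.hom ≫ σ ≫ K.iCycles (j + 1)) ≫ K.d (j + 1) (j + 1 + 1) = 0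
      simp
    rw [h0, ← adj.homAddEquiv_symm_apply, map_zero]
  refine ⟨fun F => AddMonoidHom.mk' (fun φ => R.extMk ((adj.homEquiv F _).symm (a F φ)) (j + 1 + 1) rfl (hcl F φ))
    fun x y => ?_, fun F => ⟨(injective_iff_map_eq_zero _).2 fun φ hφ => ?_, fun α => ?_⟩, fun {F F'} p φ => ?_⟩
  · rw [R.add_extMk]
    congr 1
    simp only [a, Preadditive.add_comp, ← adj.homAddEquiv_symm_apply, map_add]
  · obtain ⟨g, hg⟩ := (R.extMk_eq_zero_iff _ _ rfl (hcl F φ) j rfl).1 hφ
    have hg' : adj.homEquiv F _ g ≫ K.toCycles j (j + 1) = φ ≫ e.hom ≫ σ := by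
      rw [← cancel_mono (K.iCycles (j + 1)), assoc, K.toCycles_i]
      show adj.homEquiv F _ g ≫ T.map (R.cocomplex.d j (j + 1)) = _
      rw [← adj.homEquiv_naturality_right, hg, Equiv.apply_symm_apply, assoc, assoc]
    have h2 := congrArg (· ≫ K.homologyπ (j + 1)) hg'
    simp only [assoc, K.toCycles_comp_homologyπ, comp_zero, hσ] at h2
    rw [← cancel_mono e.hom, zero_comp]
    exact (h2.trans (congrArg (φ ≫ ·) (comp_id e.hom))).symm
  · obtain ⟨f, hf, rfl⟩ := R.extMk_surjective α (j + 1 + 1) rfl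
    have hf' : adj.homEquiv F _ f ≫ K.d (j + 1) (j + 1 + 1) = 0 := by
      show adj.homEquiv F _ f ≫ T.map (R.cocomplex.d (j + 1) (j + 1 + 1)) = 0
      rw [← adj.homEquiv_naturality_right, hf, ← adj.homAddEquiv_apply, map_zero]
    let z : F ⟶ K.cycles (j + 1) := K.liftCycles (adj.homEquiv F _ f) (j + 1 + 1) (by simp) hf'
    refine ⟨z ≫ K.homologyπ (j + 1) ≫ e.inv, ?_⟩
    show R.extMk _ _ rfl (hcl F _) = R.extMk f _ rfl hf
    rw [← sub_eq_zero, R.sub_extMk]
    refine (R.extMk_eq_zero_iff _ _ rfl _ j rfl).2 ⟨(adj.homEquiv F _).symm (-(z ≫ r ≫ s)), ?_⟩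
    apply (adj.homEquiv F _).injective
    rw [adj.homEquiv_naturality_right, Equiv.apply_symm_apply]
    show (-(z ≫ r ≫ s)) ≫ K.d j (j + 1) = _
    rw [← adj.homAddEquiv_apply, map_sub]
    show _ = adj.homEquiv F _ ((adj.homEquiv F _).symm (a F _)) - _
    rw [Equiv.apply_symm_apply]
    let w : F ⟶ K.X (j + 1) := adj.homEquiv F (R.cocomplex.X (j + 1)) f
    show _ = ((z ≫ K.homologyπ (j + 1) ≫ e.inv) ≫ e.hom ≫ σ ≫ K.iCycles (j + 1)) - w
    have hz' : w = z ≫ K.iCycles (j + 1) := (K.liftCycles_i _ _ _ _).symm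
    have hd : s ≫ K.d j (j + 1) = kernel.ι (K.homologyπ (j + 1)) ≫ K.iCycles (j + 1) := by
      conv_rhs => rw [← id_comp (kernel.ι _), ← hs]
      rw [assoc, assoc, kernel.lift_ι_assoc, K.toCycles_i]
    rw [hz', Preadditive.neg_comp, assoc, assoc, hd, assoc, assoc, Iso.inv_hom_id_assoc]
    conv_rhs => arg 2; rw [← id_comp (K.iCycles (j + 1)), ← hid]
    simp only [Preadditive.add_comp, Preadditive.comp_add, assoc]
    abel
  · show R.extMk _ _ rfl (hcl F _) = (Ext.mk₀ (G.map p)).comp (R.extMk _ _ rfl (hcl F' φ)) _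
    rw [R.mk₀_comp_extMk]
    congr 1
    rw [← adj.homEquiv_naturality_left_symm]
    simp only [a, assoc]

end Groth.Agent.ExtShX
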