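import Groth.Agent.ExtShX.PnVanish
import Groth.Agent.RefStalk.Refl
import Groth.Agent.W7Hull.LiftHom

/-!
On projective space the vanishing of `ℰxt^q(F, E)` for finite locally free `E` follows from `E = ω`.
-/

set_option autoImplicit false
set_option linter.style.haveILetI false
set_option linter.unusedSectionVars false
set_option backward.isDefEq.respectTransparency false
set_option backward.isDefEq.respectTransparency.types false

universe u

open CategoryTheory CategoryTheory.Limits AlgebraicGeometry TopologicalSpace Opposite Abelian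
open Groth.Agent.SerrePn

noncomputable section

namespace Groth.Agent.ExtShX

variable {X : Scheme.{u}}

/-- `M ⊗ D = D ⊗ M`, naturally in `M`. -/
def commNat (D : X.Modules) : tens D ≅ (DCoh.tensorBi (X := X)).obj D :=
  NatIso.ofComponents (fun M => TMul.commIso M D) fun {M N} φ => by
    refine TMul.hom_ext fun U m d => ?_
    show (TMul.commHom N D).app U ((CohFinite.tmap φ D).app U (TMul.tm m d)) =
      (((DCoh.tensorBi (X := X)).obj D).map φ).app U ((TMul.commHom M D).app U (TMul.tm m d))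
    rw [CohFinite.tmap_tm, TMul.commHom_tm, TMul.commHom_tm]
    exact (W7Hull.map_tm D φ d m).symm

/-- `ℋom(D, -)` commutes with the Ext sheaves for finite locally free `D`. -/
theorem nonempty_homLocFree (D : X.Modules) (hD : FlatMod.IsFinLocFree D) (F N : X.Modules) (q : ℕ) :
    Nonempty ((R F q).obj ((DCoh.sheafHom D).obj N) ≅ (DCoh.sheafHom D).obj ((R F q).obj N)) := by
  haveI := W7Hull.preservesFiniteColimits_sheafHom D hD
  haveI : (DCoh.sheafHom D).PreservesHomology := Functor.preservesHomologyOfExact _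
  haveI : PreservesFiniteLimits ((KFlat.schB X).flip.obj D) :=
    (((((KFlat.schB X).flip.obj D).exact_tfae.out 1 3 rfl rfl).1
      ((KFlat.isFlat_iff_flatObj D).1 (DerPerf.isFlat_of_isFinLocFree hD)))).1
  haveI : PreservesFiniteLimits ((ModSite.tensorBi X.sheaf).flip.obj D) :=
    ‹PreservesFiniteLimits ((KFlat.schB X).flip.obj D)›
  haveI : PreservesFiniteLimits ((DCoh.tensorBi (X := X)).obj D) :=
    preservesFiniteLimits_of_natIso ((KFlat.braid X.sheaf).app D).symm
  haveI : (DCoh.sheafHom D).PreservesInjectiveObjects :=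
    ⟨fun {I} hI => @Injective.injective_of_adjoint _ _ _ _ _ _ inferInstance (DCoh.sheafHomAdj D) I hI⟩
  let a := (DCoh.sheafHomAdj D).ofNatIsoLeft (commNat D).symm
  let adj₁ := (DCoh.sheafHomAdj F).comp a
  let adj₂ := a.comp (DCoh.sheafHomAdj F)
  let e : DCoh.sheafHom D ⋙ DCoh.sheafHom F ≅ DCoh.sheafHom F ⋙ DCoh.sheafHom D :=
    adj₁.rightAdjointUniq (adj₂.ofNatIsoLeft (assocNat F D).symm)
  obtain ⟨j⟩ := GrothSS.nonempty_rightDerived_comp_exact (DCoh.sheafHom F) (DCoh.sheafHom D) q N
  exact ⟨((DerExt.rightDerivedCompIso (DCoh.sheafHom D) (DCoh.sheafHom F) q).app N).symm ≪≫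
    (GrothSS.rightDerivedMapIso e q).app N ≪≫ j⟩

variable {k : Type u} [Field k] {n : ℕ}

/-- A finite locally free module is a sheaf Hom into `ω`. -/
theorem exists_homOm (E : (CohB1.ProjSpace n k).Modules) (hE : FlatMod.IsFinLocFree E) :
    ∃ D : (CohB1.ProjSpace n k).Modules, FlatMod.IsFinLocFree D ∧
      Nonempty ((DCoh.sheafHom D).obj (om k n) ≅ E) := by
  haveI := CohFinite.isNoetherian_projSpace n k
  have hc : Coh.IsCoh E := ⟨LocFree.isQCoh_of_isFinLocFree hE, LocFree.isFT_of_isFinLocFree hE⟩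
  have hd : FlatMod.IsFinLocFree (RefHull.dual E) :=
    W7Hull.isFinLocFree_homSh hE (ResDesc.isFinLocFree_structureModule _)
  have hr : RefHull.IsReflexive E := (RefStalk.isReflexive_iff hc).2 fun x => by
    haveI := LocFree.free_stalk_of_isFinLocFree hE x
    obtain ⟨_, ⟨U, hU, rfl⟩, hx, -⟩ := (CohB1.ProjSpace n k).isBasis_affineOpens.exists_subset_of_mem_open
      (Set.mem_univ x) isOpen_univ
    haveI := LocFree.finitePresentation_sections hE hU
    haveI := LocFree.finite_stalk hU hc.1 hx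
    show Module.IsReflexive _ _
    infer_instance
  haveI : IsIso (RefHull.bidualMap E) := hr
  obtain ⟨θ⟩ := exists_theta k n ((n : ℤ) + 1) (-((n : ℤ) + 1)) (by ring)
  obtain ⟨θ'⟩ := exists_theta k n (-((n : ℤ) + 1)) ((n : ℤ) + 1) (by ring)
  obtain ⟨e⟩ := nonempty_homSwap θ θ' (RefHull.dual E) (om k n)
  refine ⟨CohB1.tensorMod (RefHull.dual E) (Om k n (-((n : ℤ) + 1))),
    ResDesc.isFinLocFree_tensorMod hd (ResDesc.isFinLocFree_of_isInvertible (CohFinite.isInvertible_twist n k _)),
    ⟨(W7Hull.sheafHomIso _).app (om k n) ≪≫ e ≪≫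
      (RefFun.homFunctor (RefHull.dual E)).mapIso θ' ≪≫ (asIso (RefHull.bidualMap E)).symm⟩⟩

theorem isZero_R_locFree (F E : (CohB1.ProjSpace n k).Modules) (hE : FlatMod.IsFinLocFree E) (q : ℕ)
    (h : IsZero ((R F q).obj (om k n))) : IsZero ((R F q).obj E) := by
  obtain ⟨D, hD, ⟨e⟩⟩ := exists_homOm E hE
  obtain ⟨i⟩ := nonempty_homLocFree D hD F (om k n) q
  exact ((DCoh.sheafHom D).map_isZero h).of_iso (((R F q).mapIso e).symm ≪≫ i)

end Groth.Agent.ExtShX
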