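import Groth.Agent.SerrePn.Twists
import Mathlib.Algebra.Homology.DerivedCategory.Ext.Map

/-!
The Yoneda pairing `Extᶜ(M, N) × H^q(M) → H^{q+c}(N)`, and duality through it.
-/

set_option autoImplicit false
set_option linter.style.haveILetI false
set_option linter.unusedSectionVars false
set_option backward.isDefEq.respectTransparency false
set_option backward.isDefEq.respectTransparency.types false

universe u

open CategoryTheory CategoryTheory.Limits AlgebraicGeometry TopologicalSpace Opposite Abelian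
open Groth.Agent.SerrePn

noncomputable section

namespace Groth.Agent.ExtShX

variable (k : Type u) [Field k] {X : Scheme.{u}} [X.Over (Spec (CommRingCat.of k))] [HasExt.{u} X.Modules]

/-- The underlying class of abelian sheaves. -/
abbrev abExt {M N : X.Modules} {c : ℕ} (x : Ext M N c) :
    Ext.{u} ((CohQC.toAbF X).obj M) ((CohQC.toAbF X).obj N) c :=
  x.mapExactFunctor (CohQC.toAbF X)

/-- Cup product with a class. -/
def cup {M N : X.Modules} {c : ℕ} (x : Ext M N c) (q d : ℕ) (h : q + c = d) :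
    Coh.HH X M q →ₗ[k] Coh.HH X N d where
  toFun z := Ext.comp (show Ext _ ((CohQC.toAbF X).obj M) q from z) (abExt x) h
  map_add' z w := Ext.add_comp _ _ _ _
  map_smul' a z := by
    have hz : ∀ (P : X.Modules) (j : ℕ) (w : Coh.HH X P j),
        a • w = CohFinite.hhMap k (a • 𝟙 P) j w := fun P j w => by
      rw [hhMap_smul, LinearMap.smul_apply, CohFinite.hhMap_id]
    have key : (Ext.mk₀ (a • 𝟙 M)).comp x (zero_add c) = x.comp (Ext.mk₀ (a • 𝟙 N)) (add_zero c) := by
      rw [Ext.mk₀_smul, Ext.smul_comp, Ext.mk₀_id_comp, Ext.mk₀_smul, Ext.comp_smul, Ext.comp_mk₀_id]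
    have key' : (Ext.mk₀ ((CohQC.toAbF X).map (a • 𝟙 M))).comp (abExt x) (zero_add c) =
        (abExt x).comp (Ext.mk₀ ((CohQC.toAbF X).map (a • 𝟙 N))) (add_zero c) := by
      rw [← Ext.mapExactFunctor_mk₀, ← Ext.mapExactFunctor_mk₀, ← Ext.mapExactFunctor_comp,
        ← Ext.mapExactFunctor_comp, key]
    rw [RingHom.id_apply, hz, hz]
    show ((show Ext _ ((CohQC.toAbF X).obj M) q from z).comp
        (Ext.mk₀ ((CohQC.toAbF X).map (a • 𝟙 M))) (add_zero q)).comp (abExt x) h =
      (Ext.comp (show Ext _ ((CohQC.toAbF X).obj M) q from z) (abExt x) h).comp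
        (Ext.mk₀ ((CohQC.toAbF X).map (a • 𝟙 N))) (add_zero d)
    rw [Ext.comp_assoc _ _ _ (add_zero q) (zero_add c) (by omega), key',
      Ext.comp_assoc _ _ _ h (add_zero c) (by omega)]

lemma cup_apply {M N : X.Modules} {c : ℕ} (x : Ext M N c) (q d : ℕ) (h : q + c = d) (z : Coh.HH X M q) :
    cup k x q d h z = Ext.comp (show Ext _ ((CohQC.toAbF X).obj M) q from z) (abExt x) h := rfl

lemma cup_mk₀ {M N : X.Modules} (φ : M ⟶ N) (q : ℕ) (z : Coh.HH X M q) :
    cup k (Ext.mk₀ φ) q q (add_zero q) z = CohFinite.hhMap k φ q z := by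
  rw [cup_apply, abExt, Ext.mapExactFunctor_mk₀]
  rfl

lemma cup_pre {M' M N : X.Modules} {c : ℕ} (p : M' ⟶ M) (x : Ext M N c) (q d : ℕ) (h : q + c = d)
    (z : Coh.HH X M' q) :
    cup k ((Ext.mk₀ p).comp x (zero_add c)) q d h z = cup k x q d h (CohFinite.hhMap k p q z) := by
  rw [cup_apply, cup_apply, abExt, Ext.mapExactFunctor_comp, Ext.mapExactFunctor_mk₀,
    ← Ext.comp_assoc _ _ _ (add_zero q) (zero_add c) (by omega)]
  rfl

lemma cup_δ {S : ShortComplex X.Modules} (hS : S.ShortExact) {N : X.Modules} {c c' : ℕ} (hc : 1 + c = c')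
    (x : Ext S.X₁ N c) (q d : ℕ) (h : q + c' = d) (z : Coh.HH X S.X₃ q) :
    cup k (hS.extClass.comp x hc) q d h z = cup k x (q + 1) d (by omega) (CohFinite.hhδ k hS q z) := by
  rw [cup_apply, cup_apply, abExt, Ext.mapExactFunctor_comp, Ext.mapExactFunctor_extClass,
    ← Ext.comp_assoc _ _ _ rfl hc (by omega)]
  rfl

variable {n : ℕ} {W : X.Modules} (t : Coh.HH X W n →ₗ[k] k)

/-- The pairing against a trace. -/
def pairT (F : X.Modules) (c q : ℕ) (h : q + c = n) : Ext F W c →+ Module.Dual k (Coh.HH X F q) :=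
  AddMonoidHom.mk' (fun x => t.comp (cup k x q n h)) fun x y => LinearMap.ext fun z => by
    show t (cup k (x + y) q n h z) = t (cup k x q n h z) + t (cup k y q n h z)
    rw [← map_add, cup_apply, cup_apply, cup_apply, abExt, Ext.mapExactFunctor_add, Ext.comp_add]

lemma pairT_pre {F' F : X.Modules} (p : F' ⟶ F) (c q : ℕ) (h : q + c = n) (x : Ext F W c)
    (z : Coh.HH X F' q) :
    pairT k t F' c q h ((Ext.mk₀ p).comp x (zero_add c)) z = pairT k t F c q h x (CohFinite.hhMap k p q z) :=
  congrArg t (cup_pre k p x q n h z)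

variable (C : X.Modules → Prop) (n₀ : ℕ)
  (h0 : ∀ F, C F → Function.Bijective (pairT k t F 0 n (add_zero n)))
  (hres : ∀ F, C F → ∃ S : ShortComplex X.Modules, S.ShortExact ∧ S.X₃ = F ∧ C S.X₁ ∧ C S.X₂ ∧
      (∀ j, n₀ ≤ j → j < n → Subsingleton (Coh.HH X S.X₂ j)) ∧ ∀ i, Subsingleton (Ext S.X₂ W (i + 1)))

include h0 hres in
/-- Duality through the pairing, in the range where the covers have no cohomology. -/
theorem pairT_bijective (c : ℕ) : ∀ (q : ℕ) (h : q + c = n), n₀ ≤ q → ∀ F, C F →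
    Function.Bijective (pairT k t F c q h) := by
  induction c with
  | zero =>
    intro q h _ F hF
    obtain rfl : q = n := by omega
    exact h0 F hF
  | succ c ih =>
    intro q h hq F hF
    obtain ⟨S, hS, rfl, h₁, h₂, hH, hE⟩ := hres F hF
    have hδi : Function.Injective (CohFinite.hhδ k hS q) := hhδ_injective k hS q (hH q hq (by omega))
    have key : ∀ (x : Ext S.X₁ W c) (hc : 1 + c = c + 1), pairT k t S.X₃ (c + 1) q h (hS.extClass.comp x hc) =
        (CohFinite.hhδ k hS q).dualMap (pairT k t S.X₁ c (q + 1) (by omega) x) := fun x hc =>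
      LinearMap.ext fun z => congrArg t (cup_δ k hS hc x q n h z)
    rcases c with _ | c
    · obtain rfl : q + 1 = n := by omega
      have hs : Function.Surjective (pairT k t S.X₃ 1 q h) := fun ψ => by
        obtain ⟨ξ, hξ⟩ := LinearMap.dualMap_surjective_of_injective hδi ψ
        obtain ⟨x, rfl⟩ := (h0 _ h₁).2 ξ
        exact ⟨hS.extClass.comp x rfl, (key x rfl).trans hξ⟩
      refine ⟨(injective_iff_map_eq_zero _).2 fun y hy => ?_, hs⟩
      obtain ⟨φ, rfl⟩ := conn_surjective k hS W (hE 0) y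
      rw [conn_apply, key] at hy
      rw [← LinearMap.mem_ker, ker_conn, LinearMap.mem_range]
      have h' : pairT k t S.X₁ 0 (q + 1) rfl (Ext.mk₀ φ) ∈
          LinearMap.range (CohFinite.hhMap k S.f (q + 1)).dualMap := by
        rw [LinearMap.range_dualMap_eq_dualAnnihilator_ker, Submodule.mem_dualAnnihilator]
        intro x hx
        rw [ker_hhMap_f k hS q] at hx
        obtain ⟨w, rfl⟩ := hx
        exact LinearMap.congr_fun hy w
      obtain ⟨ξ, hξ⟩ := h'
      obtain ⟨ψ', rfl⟩ := (h0 _ h₂).2 ξ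
      obtain ⟨ψ, rfl⟩ := (Ext.mk₀_bijective _ _).2 ψ'
      refine ⟨ψ, (Ext.mk₀_bijective _ _).1 ((h0 _ h₁).1 (LinearMap.ext fun x => ?_))⟩
      rw [← hξ]
      show pairT k t S.X₁ 0 (q + 1) _ (Ext.mk₀ (S.f ≫ ψ)) x = _
      rw [← Ext.mk₀_comp_mk₀, pairT_pre]
      rfl
    · have hδ : Function.Bijective (CohFinite.hhδ k hS q) := ⟨hδi, fun x =>
        (CohFinite.map_f_eq_zero_iff (CohFinite.shortExact_toAb hS) q x).1
          (@Subsingleton.elim _ (hH (q + 1) (by omega) (by omega)) _ _)⟩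
      have hE' := shift_bijective k hS W (c + 1) (c + 1 + 1) (by omega) (hE c) (hE (c + 1))
      have hcomp : Function.Bijective fun x : Ext S.X₁ W (c + 1) =>
          pairT k t S.X₃ (c + 1 + 1) q h (hS.extClass.comp x (by omega)) := by
        simp only [key]
        exact (LinearEquiv.ofBijective _ hδ).dualMap.bijective.comp (ih (q + 1) (by omega) (by omega) _ h₁)
      exact (Function.Bijective.of_comp_iff _ hE').1 hcomp

end Groth.Agent.ExtShX
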