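import Groth.Agent.SerrePn.ClosedTwist

/-!
Cohomology of the direct image under a closed immersion, linearly and naturally.
-/

set_option autoImplicit false
set_option linter.style.haveILetI false
set_option linter.unusedSectionVars false
set_option backward.isDefEq.respectTransparency false

universe u

open CategoryTheory CategoryTheory.Limits AlgebraicGeometry TopologicalSpace Opposite
open Groth.Agent.CohFinite Groth.Agent.SiteCoh

noncomputable section

namespace Groth.Agent.ExtShX

theorem h_push_nat {X Y : TopCat.{u}} (f : X ⟶ Y) (n : ℕ) :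
    ∃ a : ∀ F : CohTop.Ab X, DirectAcyclic (Opens.grothendieckTopology Y) (Opens.map f) F →
      (CohTop.H F n ≃+ CohTop.H ((CohTop.push f).obj F) n),
      ∀ (F G : CohTop.Ab X) (hF : DirectAcyclic (Opens.grothendieckTopology Y) (Opens.map f) F)
        (hG : DirectAcyclic (Opens.grothendieckTopology Y) (Opens.map f) G) (φ : F ⟶ G)
        (x : CohTop.H F n),
        a G hG (Sheaf.H.map φ n x) = Sheaf.H.map ((CohTop.push f).map φ) n (a F hF x) := by
  obtain ⟨a, ha⟩ := hu_compare_class_natural (CohTop.push f) (U := (Opens.map f).obj ⊤) (U' := (⊤ : Opens Y))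
    (fun G => AddEquiv.refl _) (fun _ _ => rfl)
    (DirectAcyclic (Opens.grothendieckTopology Y) (Opens.map f))
    (fun G hG => directAcyclic_shortExact (Opens.map f) hG)
    (fun I hI q => @push_injective_acyclic _ _ f I hI ⊤ q)
    (fun G hG => directAcyclic_quotient (Opens.map f) hG) n
  let hT : IsTerminal ((Opens.map f).obj (⊤ : Opens Y)) := isTerminalTop
  refine ⟨fun F hF => ((huTerminalEquiv (Opens.grothendieckTopology X) hT F n).trans (a F hF)).trans
    (huTerminalEquiv (Opens.grothendieckTopology Y) isTerminalTop ((CohTop.push f).obj F) n).symm,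
    fun F G hF hG φ x => ?_⟩
  apply (huTerminalEquiv (Opens.grothendieckTopology Y) isTerminalTop ((CohTop.push f).obj G) n).injective
  refine Eq.trans ?_ (ProjCech.huTerminalEquiv_natural (Opens.grothendieckTopology Y) isTerminalTop
    ((CohTop.push f).map φ) n _).symm
  simp only [AddEquiv.trans_apply, AddEquiv.apply_symm_apply]
  refine (congrArg (a G hG) (ProjCech.huTerminalEquiv_natural (Opens.grothendieckTopology X) hT φ n x)).trans ?_
  exact ha F G hF hG φ _

variable (A : Type u) [CommRing A] {X Y : Scheme.{u}}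
  [X.Over (Spec (CommRingCat.of A))] [Y.Over (Spec (CommRingCat.of A))]

/-- A linear isomorphism, natural in quasi-coherent modules. -/
theorem exists_push_nat (i : X ⟶ Y) [IsClosedImmersion i]
    (hi : i ≫ (Y ↘ Spec (CommRingCat.of A)) = X ↘ Spec (CommRingCat.of A)) (n : ℕ) :
    ∃ e : ∀ M : X.Modules, Coh.IsQCoh M → (Coh.HH X M n ≃ₗ[A] Coh.HH Y ((Scheme.Modules.pushforward i).obj M) n),
      ∀ {M N : X.Modules} (hM : Coh.IsQCoh M) (hN : Coh.IsQCoh N) (φ : M ⟶ N) (x : Coh.HH X M n),
        e N hN (CohFinite.hhMap A φ n x) =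
          CohFinite.hhMap A ((Scheme.Modules.pushforward i).map φ) n (e M hM x) := by
  obtain ⟨a, ha⟩ := h_push_nat i.base n
  have hM : ∀ M : X.Modules, Coh.IsQCoh M →
      DirectAcyclic (Opens.grothendieckTopology Y) (Opens.map i.base) (Coh.toAb M) := fun M h =>
    haveI : M.IsQuasicoherent := h
    CohQC.directAcyclic_of_isAffineHom i M
  refine ⟨fun M h => { a (Coh.toAb M) (hM M h) with map_smul' := fun r x => ?_ }, fun {M N} h h' φ x => ?_⟩
  · let g := Coh.toGlobal (Y ↘ Spec (CommRingCat.of A)) r
    have hg : Coh.toGlobal (X ↘ Spec (CommRingCat.of A)) r = i.appTop g := by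
      rw [← hi]
      simp only [Coh.toGlobal, Scheme.Hom.comp_appTop]
      rfl
    change a (Coh.toAb M) (hM M h) (Sheaf.H.map (Coh.smulAb M (Coh.toGlobal (X ↘ Spec (CommRingCat.of A)) r)) n x) =
      Sheaf.H.map (Coh.smulAb ((Scheme.Modules.pushforward i).obj M) g) n (a (Coh.toAb M) (hM M h) x)
    rw [hg]
    exact (ha _ _ (hM M h) (hM M h) _ x).trans
      (congrArg (fun s => Sheaf.H.map s n (a (Coh.toAb M) (hM M h) x)) (smulAb_push i M g))
  · exact ha _ _ (hM M h) (hM N h') _ x

end Groth.Agent.ExtShX
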