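import Groth.Agent.ExtShX.Closed
import Groth.Agent.ExtShX.LocFreeSecond
import Groth.Agent.ExtShX.Pairing
import Groth.Agent.ExtShX.AdjExt
import Groth.Agent.ExtShX.PushNat
import Groth.Agent.GrothSS.ChangeRings
import Groth.Agent.QC.Pullback

/-!
`ℰxt^c(ι_*O_X, ω_P)` represents the dual of the top cohomology of a closed subscheme of codimension `c`.
-/

set_option autoImplicit false
set_option linter.style.haveILetI false
set_option linter.unusedSectionVars false
set_option backward.isDefEq.respectTransparency false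
set_option backward.isDefEq.respectTransparency.types false

universe u

open CategoryTheory CategoryTheory.Limits AlgebraicGeometry TopologicalSpace Opposite Abelian
open Groth.Agent.SerrePn

noncomputable section

namespace Groth.Agent.ExtShX

section Gen

variable {X P : Scheme.{u}}

/-- `M ⊗ O = M`, naturally. -/
def unitNat (X : Scheme.{u}) : tens (Coh.structureModule X) ≅ 𝟭 X.Modules :=
  NatIso.ofComponents (fun M => SecTwist.unitorR M) fun {M N} φ => by
    refine TMul.hom_ext fun U m l => ?_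
    show (SecTwist.unitorR N).hom.app U ((CohFinite.tmap φ (Coh.structureModule X)).app U (TMul.tm m l)) =
      φ.app U ((SecTwist.unitorR M).hom.app U (TMul.tm m l))
    rw [CohFinite.tmap_tm, ResDesc.unitorR_tm, ResDesc.unitorR_tm]
    exact (TMul.app_smul φ _ m).symm

theorem isCoh_of_push [IsLocallyNoetherian P] (i : X ⟶ P) [IsClosedImmersion i] (M : X.Modules)
    (h : Coh.IsCoh ((Scheme.Modules.pushforward i).obj M)) : Coh.IsCoh M := by
  haveI := GrothSS.isIso_counit_push i
  exact CohFinite.isCoh_of_iso ((asIso (Scheme.Modules.pullbackPushforwardAdjunction i).counit).app M)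
    (Groth.Agent.QC.isCoh_pullback i h)

variable (i : X ⟶ P) [IsClosedImmersion i]

/-- The right adjoint of a closed pushforward, its derived functors. -/
theorem exists_shriek : ∃ (T : P.Modules ⥤ X.Modules) (_ : T.Additive) (_ : PreservesFiniteLimits T)
    (_ : Scheme.Modules.pushforward i ⊣ T), (∀ I : P.Modules, Injective I → Injective (T.obj I)) ∧
      ∀ (q : ℕ) (N : P.Modules), Nonempty ((Scheme.Modules.pushforward i).obj ((T.rightDerived q).obj N) ≅
        (R ((Scheme.Modules.pushforward i).obj (Coh.structureModule X)) q).obj N) := by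
  haveI := GrothSS.preservesFiniteLimits_push i
  haveI := GrothSS.preservesFiniteColimits_push i
  haveI := GrothSS.preservesColimits_push i
  haveI : (Scheme.Modules.pushforward i).IsLeftAdjoint :=
    haveI : WellPowered.{u} (X.Modules)ᵒᵖ := CategoryTheory.Abelian.wellPowered_opposite
    isLeftAdjoint_of_preservesColimits_of_isSeparating (isSeparator_separator X.Modules) _
  let adj := Adjunction.ofIsLeftAdjoint (Scheme.Modules.pushforward i)
  let T := (Scheme.Modules.pushforward i).rightAdjoint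
  haveI : PreservesFiniteLimits T :=
    haveI : PreservesLimitsOfSize.{0, 0} T := adj.rightAdjoint_preservesLimits
    inferInstance
  haveI := preservesBinaryBiproducts_of_preservesBinaryProducts T
  haveI : T.Additive := Functor.additive_of_preservesBinaryBiproducts _
  refine ⟨T, inferInstance, inferInstance, adj, fun I hI => @Injective.injective_of_adjoint _ _ _ _ _ _
    inferInstance adj I hI, fun q N => ?_⟩
  let O' := (Scheme.Modules.pushforward i).obj (Coh.structureModule X)
  let u : (KFlat.schB X).obj (Coh.structureModule X) ≅ 𝟭 X.Modules := (commNat _).symm ≪≫ unitNat X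
  let β : Scheme.Modules.pullback i ⋙ Scheme.Modules.pushforward i ≅ (DCoh.tensorBi (X := P)).obj O' :=
    Functor.isoWhiskerLeft (Scheme.Modules.pullback i)
        ((Scheme.Modules.pushforward i).leftUnitor.symm ≪≫
          Functor.isoWhiskerRight u.symm (Scheme.Modules.pushforward i)) ≪≫
      GrothSS.pullTensorPushIso i (Coh.structureModule X) ≪≫ W7Flasque.tensorIso O'
  let α : T ⋙ Scheme.Modules.pushforward i ≅ DCoh.sheafHom O' :=
    Adjunction.rightAdjointUniq
      (((Scheme.Modules.pullbackPushforwardAdjunction i).comp adj).ofNatIsoLeft β) (DCoh.sheafHomAdj O')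
  obtain ⟨e⟩ := GrothSS.nonempty_rightDerived_comp_exact T (Scheme.Modules.pushforward i) q N
  exact ⟨e.symm ≪≫ (GrothSS.rightDerivedMapIso α q).app N⟩

end Gen

variable {k : Type u} [Field k] {N : ℕ} {X : Scheme.{u}} (f : X ⟶ CohB1.ProjSpace N k) [IsClosedImmersion f]
  [X.Over (Spec (CommRingCat.of k))]

theorem isCoh_omega {ω : X.Modules} {c : ℕ}
    (hω : Nonempty ((Scheme.Modules.pushforward f).obj ω ≅ (R (pO f) c).obj (om k N))) : Coh.IsCoh ω := by
  haveI := CohFinite.isNoetherian_projSpace N k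
  haveI : HasExt.{u} (CohB1.ProjSpace N k).Modules := hasExt_of_enoughInjectives _
  exact isCoh_of_push f ω (CohFinite.isCoh_of_iso hω.some.symm
    (isCoh_RPn _ (om k N) (isCoh_pO f) (CohFinite.isCoh_twist N k _) c))

variable [HasExt.{u} (CohB1.ProjSpace N k).Modules]

theorem pairT_Pn_bijective (c q : ℕ) (h : q + c = N) (G : (CohB1.ProjSpace N k).Modules) (hG : Coh.IsCoh G) :
    Function.Bijective (pairT k (W := om k N) (tr k N : Coh.HH (CohB1.ProjSpace N k) (om k N) N →ₗ[k] k) G c q h) := by
  refine pairT_bijective k _ Coh.IsCoh 0 (fun F hF => ?_) (fun F hF => ?_) c q h (Nat.zero_le q) G hG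
  · refine (Function.Bijective.of_comp_iff _ (Ext.mk₀_bijective F (om k N))).1 ?_
    have : ((pairT k (W := om k N) (tr k N : Coh.HH (CohB1.ProjSpace N k) (om k N) N →ₗ[k] k) F 0 N (add_zero N)) ∘
        Ext.mk₀) = pair k N F := funext fun φ => LinearMap.ext fun z => congrArg (tr k N) (cup_mk₀ k φ N z)
    rw [this]
    exact pair_bijective F hF
  · obtain ⟨S, h1, h2, h3, h4, h5, h6⟩ := exists_resolution k N F hF
    exact ⟨S, h1, h2, h3, h4, fun j _ hj => h5 j hj, h6⟩

variable (hf : f ≫ CohB1.ProjSpace.toSpec N k = X ↘ Spec (CommRingCat.of k))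

include hf in
/-- The trace of a closed subscheme. -/
theorem exists_trace_closed (r : ℕ) (hr : r ≤ N) (hdim : topologicalKrullDim ↥X ≤ (r : WithBot ℕ∞))
    (ω : X.Modules) (hω : Nonempty ((Scheme.Modules.pushforward f).obj ω ≅ (R (pO f) (N - r)).obj (om k N))) :
    ∃ t : Coh.HH X ω r →ₗ[k] k, ∀ F : X.Modules, Coh.IsCoh F → ∀ ψ : Coh.HH X F r →ₗ[k] k,
      ∃! φ : F ⟶ ω, ∀ x : Coh.HH X F r,
        ψ x = t (Sheaf.H.map ((SheafOfModules.toSheaf X.ringCatSheaf).map φ) r x) := by
  haveI := CohFinite.isNoetherian_projSpace N k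
  haveI := isLocallyNoetherian_of_immersion f
  obtain ⟨T, _, _, adj, hinj, hder⟩ := exists_shriek f
  haveI := GrothSS.preservesFiniteColimits_push f
  haveI := preservesBinaryBiproducts_of_preservesBinaryCoproducts (Scheme.Modules.pushforward f)
  haveI : (Scheme.Modules.pushforward f).Additive := Functor.additive_of_preservesBinaryBiproducts _
  have hrN : topologicalKrullDim ↥X + ((N - r : ℕ) : WithBot ℕ∞) ≤ (N : WithBot ℕ∞) := by
    refine le_trans (add_le_add hdim le_rfl) ?_
    exact_mod_cast (by omega : r + (N - r) ≤ N)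
  have hz : ∀ j, j < N - r → IsZero ((T.rightDerived j).obj (om k N)) := fun j hj => by
    refine (IsZero.iff_id_eq_zero _).2 (eq_zero_of_push f _ ?_)
    exact ((isZero_below f (N - r) hrN j hj).of_iso (hder j (om k N)).some).eq_of_src _ _
  obtain ⟨Φ, hΦ, hΦnat⟩ := exists_rep (Scheme.Modules.pushforward f) T adj hinj (om k N) (N - r) hz
  obtain ⟨g⟩ := GrothSS.nonempty_iso_of_push f (hω.some ≪≫ (hder (N - r) (om k N)).some.symm)
  obtain ⟨e, he⟩ := exists_push_nat k f hf r
  let Ψ : ∀ (F : X.Modules) (hF : Coh.IsCoh F), (F ⟶ ω) → Module.Dual k (Coh.HH X F r) := fun F hF φ =>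
    (e F hF.1).toLinearMap.dualMap (pairT k (W := om k N)
      (tr k N : Coh.HH (CohB1.ProjSpace N k) (om k N) N →ₗ[k] k) _ (N - r) r (by omega) (Φ F (φ ≫ g.hom)))
  have hΨ : ∀ F hF, Function.Bijective (Ψ F hF) := fun F hF =>
    (e F hF.1).dualMap.bijective.comp ((pairT_Pn_bijective (N - r) r (by omega) _ (isCoh_push f hF)).comp
      ((hΦ F).comp (g.homToEquiv (Z := F)).bijective))
  have hωc : Coh.IsCoh ω := isCoh_omega f hω
  refine ⟨Ψ ω hωc (𝟙 ω), fun F hF ψ => ?_⟩
  have hnat : ∀ φ : F ⟶ ω, ∀ x : Coh.HH X F r,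
      Ψ F hF φ x = Ψ ω hωc (𝟙 ω) (Sheaf.H.map ((SheafOfModules.toSheaf X.ringCatSheaf).map φ) r x) := fun φ x => by
    show _ = pairT k _ _ (N - r) r _ (Φ ω (𝟙 ω ≫ g.hom)) (e ω hωc.1 (CohFinite.hhMap k φ r x))
    rw [he hF.1 hωc.1 φ x, Category.id_comp, ← pairT_pre, ← hΦnat]
    rfl
  obtain ⟨φ, rfl⟩ := (hΨ F hF).2 ψ
  exact ⟨φ, hnat φ, fun φ' h => (hΨ F hF).1 (LinearMap.ext fun x => (hnat φ' x).trans (h x).symm)⟩

end Groth.Agent.ExtShX
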