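import Groth.Agent.ExtShX.Basic

/-!
`Extⁱ = H⁰(ℰxtⁱ)` when the Ext sheaves in degrees `≤ i` have no higher cohomology.
-/

set_option autoImplicit false
set_option linter.style.haveILetI false
set_option linter.unusedSectionVars false
set_option backward.isDefEq.respectTransparency false
set_option backward.isDefEq.respectTransparency.types false

universe u

open CategoryTheory CategoryTheory.Limits AlgebraicGeometry TopologicalSpace Opposite Abelian
open Groth.Agent.SerrePn

noncomputable section

namespace Groth.Agent.ExtShX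

variable {X : Scheme.{u}} (A : Type u) [CommRing A] [X.Over (Spec (CommRingCat.of A))]

/-- Cohomology of isomorphic modules. -/
def hhIso {M N : X.Modules} (e : M ≅ N) (q : ℕ) : Coh.HH X M q ≃ₗ[A] Coh.HH X N q :=
  LinearEquiv.ofLinearMap (CohFinite.hhMap A e.hom q) (CohFinite.hhMap A e.inv q)
    (LinearMap.ext fun x => by
      rw [LinearMap.comp_apply, ← CohFinite.hhMap_comp, e.inv_hom_id, CohFinite.hhMap_id, LinearMap.id_apply])
    (LinearMap.ext fun x => by
      rw [LinearMap.comp_apply, ← CohFinite.hhMap_comp, e.hom_inv_id, CohFinite.hhMap_id, LinearMap.id_apply])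

lemma mono_desc {C D : Type*} [Category C] [Category D] [Abelian C] [Abelian D] (G : C ⥤ D) [G.Additive]
    [PreservesFiniteLimits G] {S : ShortComplex C} (hS : S.ShortExact) (w : G.map S.f ≫ G.map S.g = 0) :
    Mono (cokernel.desc (G.map S.f) (G.map S.g) w) :=
  (hS.exact.map_of_mono_of_preservesKernel G hS.mono_f inferInstance).mono_cokernelDesc

variable (F : X.Modules)

section Pres

variable (N : X.Modules)

/-- The map `ℋom(F, I) → ℋom(F, Q)` and its image. -/
abbrev imgSeq : ShortComplex X.Modules :=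
  ShortComplex.mk ((DCoh.sheafHom F).map (injSeq N).f) (cokernel.π _) (cokernel.condition _)

/-- The image inside `ℋom(F, Q)`. -/
abbrev imgι : (imgSeq F N).X₃ ⟶ (DCoh.sheafHom F).obj (injSeq N).X₃ :=
  cokernel.desc _ ((DCoh.sheafHom F).map (injSeq N).g)
    (by rw [← Functor.map_comp, (injSeq N).zero, Functor.map_zero])

/-- The quotient of `ℋom(F, Q)`. -/
abbrev quotSeq : ShortComplex X.Modules :=
  ShortComplex.mk (imgι F N) (cokernel.π _) (cokernel.condition _)

lemma imgSeq_shortExact : (imgSeq F N).ShortExact :=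
  haveI : Mono (injSeq N).f := inferInstanceAs (Mono (Injective.ι N))
  haveI : Mono (imgSeq F N).f := inferInstanceAs (Mono ((DCoh.sheafHom F).map (injSeq N).f))
  { exact := ShortComplex.exact_cokernel _ }

lemma quotSeq_shortExact : (quotSeq F N).ShortExact :=
  haveI : Mono (imgι F N) := mono_desc (DCoh.sheafHom F) (injSeq_shortExact N) _
  { exact := ShortComplex.exact_cokernel _ }

theorem nonempty_quotIso : Nonempty ((quotSeq F N).X₃ ≅ (R F 1).obj N) := by
  obtain ⟨e⟩ := nonempty_oneIso F N
  exact ⟨(cokernelEpiComp (imgSeq F N).g (imgι F N)).symm ≪≫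
    cokernelIsoOfEq (cokernel.π_desc _ _ _) ≪≫ e.symm⟩

variable (h0 : ∀ p, Subsingleton (Coh.HH X ((R F 0).obj N) (p + 1)))

include h0 A in
lemma hh_img (p : ℕ) : Subsingleton (Coh.HH X (imgSeq F N).X₃ (p + 1)) :=
  CohFinite.subsingleton_of_shortExact (imgSeq_shortExact F N) (p + 1)
    (hh_sheafHom_injective F _ p) ((hhIso A (zeroIso F N) _).toEquiv.subsingleton_congr.1 (h0 (p + 1)))

end Pres

variable [HasExt.{u} X.Modules]

/-- `Extⁱ = H⁰(ℰxtⁱ)`. -/
theorem ext_equiv_h0 (i : ℕ) : ∀ N : X.Modules,
    (∀ q, q ≤ i → ∀ p, Subsingleton (Coh.HH X ((R F q).obj N) (p + 1))) →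
      Nonempty (Ext F N i ≃ₗ[A] Coh.HH X ((R F i).obj N) 0) := by
  induction i with
  | zero =>
    exact fun N _ => ⟨((Ext.linearEquiv₀ (R := A)).trans (LinearEquiv.ofBijective _ (homEval_bijective A F N))).trans
      (hhIso A (zeroIso F N).symm 0)⟩
  | succ i ih =>
    intro N hN
    let S := injSeq N
    have hS : S.ShortExact := injSeq_shortExact N
    obtain ⟨ec⟩ := nonempty_quotIso F N
    have hI := imgSeq_shortExact F N
    have hQ := quotSeq_shortExact F N
    rcases i with _ | i
    · let c := coconn A hS F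
      let Φ : (F ⟶ S.X₃) →ₗ[A] Coh.HH X (quotSeq F N).X₃ 0 :=
        (CohFinite.hhMap A (quotSeq F N).g 0).comp (homEval A F S.X₃)
      have hc : Function.Surjective c := fun x => by
        obtain ⟨y, rfl⟩ := Ext.covariant_sequence_exact₁ F hS x (Ext.eq_zero_of_injective _) (zero_add 1)
        obtain ⟨φ, rfl⟩ := (Ext.mk₀_bijective _ _).2 y
        exact ⟨φ, rfl⟩
      have hΦ : Function.Surjective Φ := by
        refine Function.Surjective.comp (g := CohFinite.hhMap A (quotSeq F N).g 0) (fun y => ?_)
          (homEval_bijective A F S.X₃).2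
        exact (CohFinite.δH_eq_zero_iff (CohFinite.shortExact_toAb hQ) 0 y).1
          (@Subsingleton.elim _ (hh_img A F N (hN 0 (by omega)) 0) _ _)
      have hker : LinearMap.ker c = LinearMap.ker Φ := by
        ext φ
        rw [LinearMap.mem_ker, LinearMap.mem_ker]
        show (Ext.mk₀ φ).comp hS.extClass rfl = 0 ↔
          CohFinite.hhMap A (quotSeq F N).g 0 (homEval A F S.X₃ φ) = 0
        constructor
        · intro h
          obtain ⟨x, hx⟩ := Ext.covariant_sequence_exact₃ F hS (Ext.mk₀ φ) rfl h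
          obtain ⟨ψ, rfl⟩ := (Ext.mk₀_bijective _ _).2 x
          rw [Ext.mk₀_comp_mk₀] at hx
          obtain rfl := (Ext.mk₀_bijective _ _).1 hx
          refine (CohFinite.map_g_eq_zero_iff (CohFinite.shortExact_toAb hQ) 0 _).2
            ⟨CohFinite.hhMap A (imgSeq F N).g 0 (homEval A F S.X₂ ψ), ?_⟩
          show CohFinite.hhMap A (imgι F N) 0 _ = _
          rw [← CohFinite.hhMap_comp, cokernel.π_desc]
          exact (homEval_comp A F ψ S.g).symm
        · intro h
          obtain ⟨y, hy⟩ := (CohFinite.map_g_eq_zero_iff (CohFinite.shortExact_toAb hQ) 0 _).1 h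
          obtain ⟨z, rfl⟩ := (CohFinite.δH_eq_zero_iff (CohFinite.shortExact_toAb hI) 0 y).1
            (@Subsingleton.elim _ ((hhIso A (zeroIso F N) 1).toEquiv.subsingleton_congr.1 (hN 0 (by omega) 0)) _ _)
          obtain ⟨ψ, rfl⟩ := (homEval_bijective A F S.X₂).2 z
          have hy' : CohFinite.hhMap A (imgι F N) 0 (CohFinite.hhMap A (imgSeq F N).g 0 (homEval A F S.X₂ ψ)) =
              homEval A F S.X₃ φ := hy
          rw [← CohFinite.hhMap_comp, cokernel.π_desc] at hy'
          obtain rfl := (homEval_bijective A F S.X₃).1 ((homEval_comp A F ψ S.g).trans hy')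
          rw [← Ext.mk₀_comp_mk₀, Ext.comp_assoc (Ext.mk₀ ψ) (Ext.mk₀ S.g) hS.extClass (add_zero 0) (zero_add 1)
            (by omega), hS.comp_extClass, Ext.comp_zero]
      exact ⟨(((c.quotKerEquivOfSurjective hc).symm.trans (Submodule.quotEquivOfEq _ _ hker)).trans
        (Φ.quotKerEquivOfSurjective hΦ)).trans (hhIso A ec 0)⟩
    · have h₁ : Function.Bijective (hS.extClass.postcompOfLinear A F (rfl : i + 1 + 1 = i + 1 + 1)) := by
        refine ⟨(injective_iff_map_eq_zero _).2 fun x hx => ?_, fun y => ?_⟩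
        · obtain ⟨z, rfl⟩ := Ext.covariant_sequence_exact₃ F hS x rfl hx
          rw [Ext.eq_zero_of_injective z, Ext.zero_comp]
        · exact Ext.covariant_sequence_exact₁ F hS y (Ext.eq_zero_of_injective _) rfl
      obtain ⟨e⟩ := ih S.X₃ fun q hq p => by
        rcases q with _ | q
        · refine (hhIso A (zeroIso F S.X₃) _).toEquiv.subsingleton_congr.2
            (CohFinite.subsingleton_of_shortExact_mid hQ (p + 1) (hh_img A F N (hN 0 (by omega)) p)
              ((hhIso A ec _).toEquiv.subsingleton_congr.2 (hN 1 (by omega) p)))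
        · obtain ⟨s⟩ := nonempty_shiftIso F N q
          exact (hhIso A s _).toEquiv.subsingleton_congr.1 (hN (q + 2) (by omega) p)
      obtain ⟨s⟩ := nonempty_shiftIso F N i
      exact ⟨(LinearEquiv.ofBijective _ h₁).symm.trans (e.trans (hhIso A s 0).symm)⟩

end Groth.Agent.ExtShX
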