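import Groth.Agent.ExtShX.CohLocal
import Groth.Agent.ExtShX.Global
import Groth.Agent.QC.SpecFT
import Groth.Agent.QC.Closure
import Groth.Agent.CohQC.CechVanish
import Mathlib.Algebra.Homology.DerivedCategory.Ext.MapBijective

/-!
Ext sheaves on an affine Noetherian scheme: `ℰxtⁱ(M~, N~) = Extⁱ(M, N)~`.
-/

set_option autoImplicit false
set_option linter.style.haveILetI false
set_option linter.unusedSectionVars false
set_option backward.isDefEq.respectTransparency false
set_option backward.isDefEq.respectTransparency.types false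

universe u

open CategoryTheory CategoryTheory.Limits AlgebraicGeometry TopologicalSpace Opposite Abelian
open Groth.Agent.SerrePn

noncomputable section

namespace Groth.Agent.ExtShX

/-- The Ext sheaves of a coherent and a quasi-coherent module are quasi-coherent. -/
theorem isQCoh_R {X : Scheme.{u}} [IsLocallyNoetherian X] (h : Covers X) (q : ℕ) :
    ∀ F N : X.Modules, Coh.IsCoh F → Coh.IsQCoh N → Coh.IsQCoh ((R F q).obj N) := by
  have h0 : ∀ F N : X.Modules, Coh.IsCoh F → Coh.IsQCoh N → Coh.IsQCoh ((R F 0).obj N) := fun F N hF hN =>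
    QC.isQCoh_of_iso (zeroIso F N ≪≫ (W7Hull.sheafHomIso F).app N).symm
      (QC.isQCoh_iff_isLoc.2 fun U => RefStalk.isLoc_homSh hF hN U.2)
  induction q with
  | zero => exact h0
  | succ q ih =>
    intro F N hF hN
    obtain ⟨L, p, hL, hp⟩ := h F hF
    have hLc : Coh.IsCoh L := ⟨LocFree.isQCoh_of_isFinLocFree hL, LocFree.isFT_of_isFinLocFree hL⟩
    let S : ShortComplex X.Modules := ShortComplex.mk (kernel.ι p) p (kernel.condition p)
    have hS : S.ShortExact := { exact := ShortComplex.exact_of_f_is_kernel _ (kernelIsKernel p) }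
    have hK : Coh.IsCoh S.X₁ := Groth.Agent.QC.isCoh_kernel hLc hF.1 p
    have hmid : ∀ j, IsZero ((R S.X₂ (j + 1)).obj N) := fun j => isZero_of_finLocFree L hL j N
    rcases q with _ | q
    · obtain ⟨f, ⟨e⟩⟩ := exists_firstOne hS N hmid
      exact QC.isQCoh_of_iso e.symm (QC.isQCoh_cokernel (h0 L N hLc hN) (ih _ N hK hN) f)
    · obtain ⟨e⟩ := nonempty_firstShift hS N hmid q
      exact QC.isQCoh_of_iso e.symm (ih _ N hK hN)

section HH

variable {X : Scheme.{u}} (A : Type u) [CommRing A] [X.Over (Spec (CommRingCat.of A))]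

lemma subsingleton_hh_qcoh [IsAffine X] (M : X.Modules) (hM : Coh.IsQCoh M) (p : ℕ) :
    Subsingleton (Coh.HH X M (p + 1)) := by
  haveI : M.IsQuasicoherent := hM
  have h := CohQC.hu_vanish_of_isAffineOpen M (isAffineOpen_top X) p
  exact (SiteCoh.huTerminalEquiv (Opens.grothendieckTopology X) isTerminalTop (Coh.toAb M) (p + 1)).toEquiv.subsingleton_congr.2 h

include A in
lemma subsingleton_hh_zero {M : X.Modules} (hM : IsZero M) (q : ℕ) : Subsingleton (Coh.HH X M q) := by
  refine subsingleton_of_forall_eq 0 fun x => ?_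
  have h := CohFinite.hhMap_id (A := A) M q x
  rw [show 𝟙 M = (0 : A) • 𝟙 M from hM.eq_of_src _ _, hhMap_smul, zero_smul, LinearMap.zero_apply] at h
  exact h.symm

lemma equiv₀_smul (M : X.Modules) (a : A) (x : Coh.HH X M 0) :
    Sheaf.H.equiv₀ (Coh.toAb M) (isTerminalTop : IsTerminal (⊤ : X.Opens)) (a • x) =
      (a • 𝟙 M : M ⟶ M).app ⊤ (Sheaf.H.equiv₀ (Coh.toAb M) (isTerminalTop : IsTerminal (⊤ : X.Opens)) x) := by
  rw [← h0_natural A, hhMap_smul, LinearMap.smul_apply, CohFinite.hhMap_id]

end HH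

section Spec

variable (A : Type u) [CommRing A]



lemma toGlobal_self (a : A) :
    Coh.toGlobal (Spec (CommRingCat.of A) ↘ Spec (CommRingCat.of A)) a = (Scheme.ΓSpecIso (CommRingCat.of A)).inv a := by
  have h : Spec (CommRingCat.of A) ↘ Spec (CommRingCat.of A) = 𝟙 _ := by
    rw [specOverSpec_over]
    exact Spec.map_id (CommRingCat.of A)
  rw [h]
  rfl

lemma smul_id_app_top (M : (Spec (CommRingCat.of A)).Modules) (a : A) (m : Γ(M, ⊤)) :
    (a • 𝟙 M : M ⟶ M).app ⊤ m =
      (Spec (CommRingCat.of A)).presheaf.map (homOfLE (le_top : (⊤ : (Spec (CommRingCat.of A)).Opens) ≤ ⊤)).op ((Scheme.ΓSpecIso (CommRingCat.of A)).inv a) • m := by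
  rw [KLin.smul_app_apply, toGlobal_self]
  rfl

instance tilde_linear : (tilde.functor (CommRingCat.of A)).Linear A := by
  refine (Functor.linear_iff A _).2 fun M a => ?_
  refine (tilde.adjunction.homEquiv _ _).injective ?_
  rw [Adjunction.homEquiv_apply, Adjunction.homEquiv_apply]
  ext m
  show (tilde.map (a • 𝟙 M)).app ⊤ ((tilde.toOpen M ⊤).hom m) =
    (a • 𝟙 (tilde M) : tilde M ⟶ tilde M).app ⊤ ((tilde.toOpen M ⊤).hom m)
  rw [smul_id_app_top]
  have h1 := ConcreteCategory.congr_hom (tilde.toOpen_map_app (a • 𝟙 M) (⊤ : (Spec (CommRingCat.of A)).Opens)) m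
  exact h1.trans ((tilde.toOpen M ⊤).hom.map_smul a m)

instance : PreservesFiniteLimits (tilde.functor (CommRingCat.of A)) :=
  Functor.preservesFiniteLimits_of_preservesHomology _

/-- Global sections as an `A`-module. -/
def hhGamma (M : (Spec (CommRingCat.of A)).Modules) :
    Coh.HH (Spec (CommRingCat.of A)) M 0 ≃ₗ[A] (moduleSpecΓFunctor (R := CommRingCat.of A)).obj M :=
  { Sheaf.H.equiv₀ (Coh.toAb M) (isTerminalTop : IsTerminal (⊤ : (Spec (CommRingCat.of A)).Opens)) with
    map_smul' := fun a x => (equiv₀_smul A M a x).trans (smul_id_app_top A M a _) }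

variable [IsNoetherianRing A]

lemma isCoh_tilde (M : ModuleCat.{u} A) [Module.Finite A M] :
    Coh.IsCoh (tilde (R := CommRingCat.of A) M) :=
  ⟨QC.isQCoh_tilde (R := CommRingCat.of A) M, QC.isFT_tilde (R := CommRingCat.of A) M⟩

variable [HasExt.{u} (Spec (CommRingCat.of A)).Modules]

theorem nonempty_ext_h0 (F N : (Spec (CommRingCat.of A)).Modules) (hF : Coh.IsCoh F) (hN : Coh.IsQCoh N) (i : ℕ) :
    Nonempty (Ext F N i ≃ₗ[A] Coh.HH (Spec (CommRingCat.of A)) ((R F i).obj N) 0) :=
  ext_equiv_h0 A F i N fun q _ p =>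
    subsingleton_hh_qcoh _ (isQCoh_R (covers_spec (CommRingCat.of A)) q F N hF hN) p

lemma subsingleton_ext_free (n : ℕ) (N : ModuleCat.{u} A) (i : ℕ) :
    Subsingleton (Ext ((tilde.functor (CommRingCat.of A)).obj (ModuleCat.of A (Fin n → A)))
      ((tilde.functor (CommRingCat.of A)).obj N) (i + 1)) := by
  have hL := DQCoh.isFinLocFree_tilde (A := CommRingCat.of A) (ModuleCat.of A (Fin n → A))
    ⟨inferInstanceAs (Module.Finite A (Fin n → A)), inferInstanceAs (Module.Projective A (Fin n → A))⟩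
  obtain ⟨e⟩ := nonempty_ext_h0 A _ (tilde (R := CommRingCat.of A) N) (isCoh_tilde A (ModuleCat.of A (Fin n → A)))
    (QC.isQCoh_tilde (R := CommRingCat.of A) N) (i + 1)
  haveI := subsingleton_hh_zero A (isZero_of_finLocFree _ hL i (tilde (R := CommRingCat.of A) N)) 0
  exact e.toEquiv.subsingleton

attribute [local simp] Ext.mapExactFunctor_comp Ext.mapExactFunctor_mk₀ Ext.mapExactFunctor_extClass

theorem mapExt_bijective (n : ℕ) : ∀ (M : ModuleCat.{u} A), Module.Finite A M → ∀ N : ModuleCat.{u} A,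
    Function.Bijective ((tilde.functor (CommRingCat.of A)).mapExtAddHom M N n) := by
  induction n with
  | zero =>
    intro M _ N
    have h := (tilde.fullyFaithfulFunctor (R := CommRingCat.of A)).map_bijective M N
    simpa [Ext.mapExactFunctor₀] using h
  | succ n hn =>
    intro M hM N
    let F := tilde.functor (CommRingCat.of A)
    obtain ⟨r, p, hp⟩ := Module.Finite.exists_fin' A M
    let S : ShortComplex (ModuleCat.{u} A) := ShortComplex.mk
      (ModuleCat.ofHom (X := LinearMap.ker p) (Y := Fin r → A) (LinearMap.ker p).subtype)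
      (ModuleCat.ofHom (X := Fin r → A) (Y := M) p)
      (ModuleCat.hom_ext (LinearMap.ext fun x => x.2))
    have hS : S.ShortExact :=
      { exact := (ShortComplex.ShortExact.moduleCat_exact_iff_function_exact S).2 (LinearMap.exact_subtype_ker_map p)
        mono_f := (ModuleCat.mono_iff_injective _).2 Subtype.val_injective
        epi_g := (ModuleCat.epi_iff_surjective _).2 hp }
    haveI : Projective S.X₂ := inferInstanceAs (Projective (ModuleCat.of A (Fin r → A)))
    haveI : Subsingleton (Ext S.X₂ N (n + 1)) := Ext.subsingleton_of_projective _ _ _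
    haveI : Subsingleton (Ext (S.map F).X₂ (F.obj N) (n + 1)) := subsingleton_ext_free A r N n
    exact AddMonoidHom.bijective_of_surjective_of_bijective_of_right_exact _ _ _ _
      (F.mapExtAddHom S.X₂ N n) (F.mapExtAddHom S.X₁ N n) (F.mapExtAddHom S.X₃ N (n + 1))
      (by cat_disch) (by cat_disch)
      ((ShortComplex.ab_exact_iff_function_exact _).1
        (Ext.contravariant_sequence_exact₁' hS N n (n + 1) (add_comm 1 n)))
      ((ShortComplex.ab_exact_iff_function_exact _).1
        (Ext.contravariant_sequence_exact₁' (hS.map_of_exact F) (F.obj N) n (n + 1) (add_comm 1 n)))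
      (hn S.X₂ (inferInstanceAs (Module.Finite A (Fin r → A))) N).surjective
      (hn S.X₁ (inferInstanceAs (Module.Finite A (LinearMap.ker p))) N)
      (fun x₃ ↦ Ext.contravariant_sequence_exact₃ hS _ x₃ (Subsingleton.elim _ _) (add_comm 1 n))
      (fun y₃ ↦ Ext.contravariant_sequence_exact₃ (hS.map_of_exact F) _ y₃ (Subsingleton.elim _ _) (add_comm 1 n))

/-- `ℰxtⁱ(M~, N~) = Extⁱ(M, N)~`. -/
theorem nonempty_R_tilde (M N : ModuleCat.{u} A) [Module.Finite A M] (i : ℕ) :
    Nonempty ((R (tilde (R := CommRingCat.of A) M) i).obj (tilde (R := CommRingCat.of A) N) ≅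
      tilde (R := CommRingCat.of A) (ModuleCat.of A (Ext M N i))) := by
  obtain ⟨e⟩ := nonempty_ext_h0 A _ _ (isCoh_tilde A M) (QC.isQCoh_tilde (R := CommRingCat.of A) N) i
  let T := (R (tilde (R := CommRingCat.of A) M) i).obj (tilde (R := CommRingCat.of A) N)
  haveI : T.IsQuasicoherent := isQCoh_R (covers_spec (CommRingCat.of A)) i _ _ (isCoh_tilde A M)
    (QC.isQCoh_tilde (R := CommRingCat.of A) N)
  let m := LinearEquiv.ofBijective ((tilde.functor (CommRingCat.of A)).mapExtLinearMap A M N i)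
    (mapExt_bijective A i M inferInstance N)
  let l : (moduleSpecΓFunctor (R := CommRingCat.of A)).obj T ≃ₗ[A] Ext M N i :=
    (hhGamma A T).symm.trans (e.symm.trans m.symm)
  exact ⟨(QC.isoTildeΓ T).symm ≪≫ (tilde.functor (CommRingCat.of A)).mapIso l.toModuleIso⟩

end Spec

end Groth.Agent.ExtShX
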