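import Groth.Agent.ExtShX.Basic
import Groth.Agent.DerExt.Comp
import Groth.Agent.SerrePn.HomTwist

/-!
The Ext sheaves commute with invertible twists.
-/

set_option autoImplicit false
set_option linter.style.haveILetI false
set_option linter.unusedSectionVars false
set_option backward.isDefEq.respectTransparency false
set_option backward.isDefEq.respectTransparency.types false

universe u

open CategoryTheory CategoryTheory.Limits AlgebraicGeometry TopologicalSpace Opposite
open Groth.Agent.SerrePn

noncomputable section

namespace Groth.Agent.ExtShX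

variable {X : Scheme.{u}} {L L' : X.Modules}
  (θ : CohB1.tensorMod L L' ≅ Coh.structureModule X) (θ' : CohB1.tensorMod L' L ≅ Coh.structureModule X)

include θ θ' in
theorem nonempty_twistNat (F : X.Modules) :
    Nonempty (tens L ⋙ DCoh.sheafHom F ≅ DCoh.sheafHom F ⋙ tens L) := by
  let e := (tensEquiv θ θ').symm.toAdjunction
  let adj₁ := (DCoh.sheafHomAdj F).comp e
  let adj₂ := e.comp (DCoh.sheafHomAdj F)
  exact ⟨adj₁.rightAdjointUniq (adj₂.ofNatIsoLeft (assocNat F L').symm)⟩

include θ θ' in
theorem nonempty_twist (F N : X.Modules) (q : ℕ) :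
    Nonempty ((R F q).obj (CohB1.tensorMod N L) ≅ CohB1.tensorMod ((R F q).obj N) L) := by
  let E := tensEquiv θ θ'
  haveI : (tens L).IsEquivalence := E.isEquivalence_functor
  haveI := preservesBinaryBiproducts_of_preservesBinaryCoproducts (tens L)
  haveI : (tens L).Additive := Functor.additive_of_preservesBinaryBiproducts _
  haveI : PreservesFiniteLimits (tens L) := inferInstance
  haveI : PreservesFiniteColimits (tens L) := inferInstance
  haveI : (tens L).PreservesHomology := Functor.preservesHomologyOfExact _
  haveI : (tens L').IsEquivalence := E.isEquivalence_inverse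
  haveI : (tens L).PreservesInjectiveObjects :=
    ⟨fun {I} hI => @Injective.injective_of_adjoint _ _ _ _ (tens L') (tens L) inferInstance E.symm.toAdjunction I hI⟩
  obtain ⟨e⟩ := nonempty_twistNat θ θ' F
  obtain ⟨e'⟩ := GrothSS.nonempty_rightDerived_comp_exact (DCoh.sheafHom F) (tens L) q N
  exact ⟨((DerExt.rightDerivedCompIso (tens L) (DCoh.sheafHom F) q).app N).symm ≪≫
    (GrothSS.rightDerivedMapIso e q).app N ≪≫ e'⟩

end Groth.Agent.ExtShX
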