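import Groth.Agent.ExtShX.Coh
import Groth.Agent.ExtShX.Twist
import Groth.Agent.ExtShX.Global
import Groth.Agent.SerrePn.ClosedDual
import Groth.Agent.CohFinite.Serre

/-!
Twists on a closed subscheme of projective space over a Noetherian ring.
-/

set_option autoImplicit false
set_option linter.style.haveILetI false
set_option linter.unusedSectionVars false
set_option backward.isDefEq.respectTransparency false
set_option backward.isDefEq.respectTransparency.types false

universe u

open CategoryTheory CategoryTheory.Limits AlgebraicGeometry TopologicalSpace Opposite Abelian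
open Groth.Agent.SerrePn

noncomputable section

namespace Groth.Agent.ExtShX

attribute [local instance] Abelian.hasFiniteBiproducts

variable {A : Type u} [CommRing A] {n : ℕ} {X : Scheme.{u}} (f : X ⟶ CohB1.ProjSpace n A)

/-- `i^*O(a)`. -/
abbrev LA (a : ℤ) : X.Modules := (Scheme.Modules.pullback f).obj (Twist.twistProjSpace n A a)

lemma isInvertible_LA (a : ℤ) : PicF.IsInvertible (LA f a) :=
  PicLoc.isInvertible_pullback f (CohFinite.isInvertible_twist n A a)

set_option maxHeartbeats 1000000 in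
lemma exists_thetaA (a b : ℤ) (h : a + b = 0) :
    Nonempty (CohB1.tensorMod (LA f a) (LA f b) ≅ Coh.structureModule X) := by
  obtain ⟨i⟩ := GrT.nonempty_tensor_iso (a := a) (b := b) (c := 0) (CohB1.polyGrading n A) (CohFinite.cov_one n A) h
  obtain ⟨j⟩ := GrT.nonempty_twist_zero_iso (𝒜 := CohB1.polyGrading n A)
  exact ⟨KFlat.pullTensorIso f _ _ ≪≫ (Scheme.Modules.pullback f).mapIso (i ≪≫ j) ≪≫ DerPerf.pullUnitIso f⟩

variable [IsNoetherianRing A] [IsClosedImmersion f]

include f in
lemma isNoetherian_X : IsLocallyNoetherian X :=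
  haveI := CohFinite.isNoetherian_projSpace n A
  isLocallyNoetherian_of_immersion f

/-- Sums of negative twists cover any coherent module. -/
lemma exists_presentationA (F : X.Modules) (hF : Coh.IsCoh F) :
    ∃ (M : ℤ) (r : ℕ) (p : (∐ fun _ : Fin r => LA f M) ⟶ F), Epi p := by
  haveI := CohFinite.isNoetherian_projSpace n A
  have hP := isCoh_push f hF
  obtain ⟨N₁, hN⟩ := GrT.exists_epi_twists
    (v := fun i : ProjCech.J.{u} n => (MvPolynomial.X i.down : MvPolynomial (Fin (n + 1)) A))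
    (fun i => MvPolynomial.isHomogeneous_X A i.down) hP.1 hP.2 (CohFinite.cov_X n A)
  obtain ⟨r, φ, hφ⟩ := hN N₁ le_rfl
  let adj := Scheme.Modules.pullbackPushforwardAdjunction f
  let T : Fin r → (CohB1.ProjSpace n A).Modules := fun _ => Twist.twistProjSpace n A (-(N₁ : ℤ))
  let ψ : ∀ t : Fin r, LA f (-(N₁ : ℤ)) ⟶ F := fun t => (adj.homEquiv _ _).symm (Sigma.ι T t ≫ φ)
  let q : (∐ fun _ : Fin r => LA f (-(N₁ : ℤ))) ⟶ F := Sigma.desc ψ
  refine ⟨_, r, q, Abelian.epi_of_cokernel_π_eq_zero q (eq_zero_of_push f (cokernel.π q) ?_)⟩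
  haveI : Epi φ := hφ
  rw [← cancel_epi φ, comp_zero]
  refine Sigma.hom_ext _ _ fun t => ?_
  rw [comp_zero, ← Category.assoc]
  refine (adj.homEquiv _ _).symm.injective ?_
  rw [adj.homEquiv_naturality_right_symm]
  have h : ψ t ≫ cokernel.π q = 0 := by
    rw [show ψ t = Sigma.ι _ t ≫ q from (Sigma.ι_desc ψ t).symm, Category.assoc, cokernel.condition, comp_zero]
  refine h.trans ?_
  rw [Adjunction.homEquiv_counit, Functor.map_zero, zero_comp]

include f in
theorem covers : Covers X := fun F hF => by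
  obtain ⟨M, r, p, hp⟩ := exists_presentationA f F hF
  exact ⟨_, p, DerPerf.isFinLocFree_of_isColimit (Finset.univ : Finset (Fin r)) (coproductIsCoproduct _)
    (fun i hi => absurd (Finset.mem_univ i) hi)
    (fun _ _ => ResDesc.isFinLocFree_of_isInvertible (isInvertible_LA f M)), hp⟩

omit [IsNoetherianRing A] in
lemma hh_transfer {Y : Scheme.{u}} (P L L' : Y.Modules) (i : L ≅ L') (q : ℕ)
    (h : Subsingleton (Coh.HH Y (CohB1.tensorMod P L') q)) : Subsingleton (Coh.HH Y (CohB1.tensorMod P L) q) :=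
  CohQC.hh_subsingleton_of_iso (PicGrp.tensorModIso (Iso.refl P) i.symm).symm.symm q h

omit [IsNoetherianRing A] in
lemma nonempty_powA (d : ℕ) :
    Nonempty (Twist.twistProjSpace n A (d : ℤ) ≅ CohB1.tensorPow (Twist.twistProjSpace n A 1) d) :=
  GrT.nonempty_iso_tensorPow (𝒜 := CohB1.polyGrading n A) (CohFinite.cov_one n A) d

variable [X.Over (Spec (CommRingCat.of A))] (hf : f ≫ CohB1.ProjSpace.toSpec n A = X ↘ Spec (CommRingCat.of A))

set_option maxHeartbeats 1600000 in
include hf in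
/-- Serre vanishing. -/
theorem exists_vanish (G : X.Modules) (hG : Coh.IsCoh G) :
    ∃ d₀ : ℕ, ∀ d : ℕ, d₀ ≤ d → ∀ p : ℕ, Subsingleton (Coh.HH X (CohB1.tensorMod G (LA f (d : ℤ))) (p + 1)) := by
  haveI := CohFinite.isNoetherian_projSpace n A
  haveI := hG.1
  obtain ⟨m₀, hm⟩ := CohFinite.vanish_projSpace n A _ (isCoh_push f hG)
  refine ⟨m₀, fun d hd p => ?_⟩
  obtain ⟨e⟩ := nonempty_hh_pushTwist A f hf G (CohFinite.isInvertible_twist n A (d : ℤ)) (p + 1)
  obtain ⟨i⟩ := nonempty_powA (A := A) (n := n) d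
  exact e.toEquiv.subsingleton_congr.2
    (hh_transfer _ _ _ i (p + 1) (hm d hd p))

include f in
/-- Twisting the second argument of the Ext sheaves. -/
theorem nonempty_twistA (F N : X.Modules) (q : ℕ) (d : ℤ) :
    Nonempty ((R F q).obj (CohB1.tensorMod N (LA f d)) ≅ CohB1.tensorMod ((R F q).obj N) (LA f d)) := by
  obtain ⟨θ⟩ := exists_thetaA f d (-d) (by ring)
  obtain ⟨θ'⟩ := exists_thetaA f (-d) d (by ring)
  exact nonempty_twist θ θ' F N q

include hf in
/-- `Extⁱ(F, G(d)) = H⁰(ℰxtⁱ(F, G(d)))` for large `d`. -/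
theorem exists_ext_h0 [HasExt.{u} X.Modules] (F G : X.Modules) (hF : Coh.IsCoh F) (hG : Coh.IsCoh G) (i : ℕ) :
    ∃ d₀ : ℕ, ∀ d : ℕ, d₀ ≤ d → Nonempty (Ext F (CohB1.tensorMod G (LA f (d : ℤ))) i ≃ₗ[A]
      Coh.HH X ((R F i).obj (CohB1.tensorMod G (LA f (d : ℤ)))) 0) := by
  haveI := isNoetherian_X f
  choose d hd using fun q => exists_vanish f hf _ (isCoh_R (covers f) q F G hF hG)
  refine ⟨(Finset.range (i + 1)).sup d, fun e he => ext_equiv_h0 A F i _ fun q hq p => ?_⟩
  obtain ⟨t⟩ := nonempty_twistA f F G q e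
  exact (hhIso A t _).toEquiv.subsingleton_congr.2
    (hd q e (le_trans (Finset.le_sup (Finset.mem_range.mpr (Nat.lt_succ_of_le hq))) he) p)

end Groth.Agent.ExtShX
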