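import Groth.Agent.ExtShX.LocFreeSecond
import Groth.Agent.ResDesc.Dual
import Groth.Agent.CohFinite.RPushCoh

/-!
`ℋom(D, M) = M ⊗ D^∨` and `ℰxt^q(F ⊗ D, G) = ℰxt^q(F, G) ⊗ D^∨` for finite locally free `D`.
-/

set_option autoImplicit false
set_option linter.style.haveILetI false
set_option linter.unusedSectionVars false
set_option backward.isDefEq.respectTransparency false
set_option backward.isDefEq.respectTransparency.types false

universe u

open CategoryTheory CategoryTheory.Limits AlgebraicGeometry TopologicalSpace Opposite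
open Groth.Agent.QC (res resO res_res res_smul app_res)
open Groth.Agent.WeakAssLib (mgerm mgerm_smul mgerm_res)
open Groth.Agent.SerrePn

noncomputable section

namespace Groth.Agent.ExtShX

variable {X : Scheme.{u}}

/-- The pairing `D ⊗ (D^∨ ⊗ M) → M`. -/
def evTensor (D M : X.Modules) : CohB1.tensorMod D (CohB1.tensorMod (RefHull.dual D) M) ⟶ M :=
  (TMul.assocIso D (RefHull.dual D) M).inv ≫ CohFinite.tmap (ResDesc.evDual D) M ≫ (TMul.leftUnitIso M).hom

lemma evTensor_tm (D M : X.Modules) {U : X.Opens} (a : Γ(D, U)) (h : Γ(RefHull.dual D, U)) (m : Γ(M, U)) :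
    (evTensor D M).app U (TMul.tm a (TMul.tm h m)) =
      (show Γ(X, U) from (ResDesc.evDual D).app U (TMul.tm a h)) • m := by
  show (SecTwist.unitorR M).hom.app U ((TMul.commHom _ _).app U
    ((CohFinite.tmap (ResDesc.evDual D) M).app U ((TMul.assocInv D (RefHull.dual D) M).app U (TMul.tm a (TMul.tm h m))))) = _
  rw [TMul.assocInv_tm, CohFinite.tmap_tm, TMul.commHom_tm, ResDesc.unitorR_tm]

/-- `D^∨ ⊗ M → ℋom(D, M)`. -/
def dualTensorTo (D M : X.Modules) : CohB1.tensorMod (RefHull.dual D) M ⟶ RefHull.homSh D M :=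
  W7Hull.cur (evTensor D M)

variable {D : X.Modules} {U : X.Opens} {n : ℕ} {e : Fin n → Γ(D, U)}

lemma ext_frame (he : TMul.IsFrame e) {y : X} (hy : y ∈ U) {N : X.Modules} {f g : RefHull.StalkHom D N y}
    (h : ∀ j, f (mgerm D hy (e j)) = g (mgerm D hy (e j))) : f = g := by
  refine LinearMap.ext fun v => ?_
  obtain ⟨c, rfl⟩ := (ResDesc.stalkEquiv he hy).surjective v
  show f (∑ i, c i • mgerm D hy (e i)) = g (∑ i, c i • mgerm D hy (e i))
  rw [map_sum, map_sum]
  exact Finset.sum_congr rfl fun i _ => by rw [map_smul, map_smul, h]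

lemma dualTensorTo_app (he : TMul.IsFrame e) (M : X.Modules) {V : X.Opens} (hV : V ≤ U)
    (m : Fin n → Γ(M, V)) {y : X} (hy : y ∈ V) (j : Fin n) :
    ((dualTensorTo D M).app V (∑ i, TMul.tm (res (RefHull.dual D) hV (ResDesc.coord he i)) (m i))).1 ⟨y, hy⟩
      (mgerm D (hV hy) (e j)) = mgerm M hy (m j) := by
  classical
  obtain ⟨E, hE⟩ := RefStalk.exists_structStalk y
  have key : ∀ i, ((dualTensorTo D M).app V (TMul.tm (res (RefHull.dual D) hV (ResDesc.coord he i)) (m i))).1 ⟨y, hy⟩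
      (mgerm D (hV hy) (e j)) = if j = i then mgerm M hy (m i) else 0 := fun i => by
    rw [← mgerm_res D hV hy, dualTensorTo, W7Hull.cur_app (evTensor D M) _ hy le_rfl hy, Groth.Agent.QC.res_self,
      evTensor_tm, mgerm_smul]
    have h1 : X.presheaf.germ V y hy (show Γ(X, V) from (ResDesc.evDual D).app V
        (TMul.tm (res D hV (e j)) (res (RefHull.dual D) hV (ResDesc.coord he i)))) = if j = i then 1 else 0 := by
      refine E.injective ?_
      rw [hE, hE]
      refine (ResDesc.germ_smul_one hy _).trans ?_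
      refine (W7Hull.uncur_tm (𝟙 (RefHull.dual D)) _ _ hy).trans ?_
      rw [mgerm_res]
      refine (ResDesc.coord_germ he i j (hV hy)).trans ?_
      split_ifs
      · exact (one_smul _ _).symm
      · exact (zero_smul _ _).symm
    refine (congrArg (· • mgerm M hy (m i)) h1).trans ?_
    split_ifs
    · exact one_smul _ _
    · exact zero_smul _ _
  let T : Γ(RefHull.homSh D M, V) →+ M.presheaf.stalk y :=
    AddMonoidHom.mk' (fun g => g.1 ⟨y, hy⟩ (mgerm D (hV hy) (e j))) fun _ _ => rfl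
  show T ((dualTensorTo D M).app V _) = _
  rw [map_sum, map_sum]
  refine (Finset.sum_eq_single j (fun i _ hi => (key i).trans (if_neg (Ne.symm hi)))
    (fun h => absurd (Finset.mem_univ j) h)).trans ?_
  exact (key j).trans (if_pos rfl)

lemma dualTensorTo_bijective (hD : FlatMod.IsFinLocFree D) (he : TMul.IsFrame e) (M : X.Modules) (V : X.Opens)
    (hV : V ≤ U) : Function.Bijective ((dualTensorTo D M).app V) := by
  have hb := (ResDesc.isFrame_coord hD he).tm_bijective (M := M) V hV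
  refine (Function.Bijective.of_comp_iff _ hb).mp ⟨fun m m' h => funext fun j => RefStalk.germ_ext fun y hy => ?_, fun g => ?_⟩
  · rw [← dualTensorTo_app he M hV m hy j, ← dualTensorTo_app he M hV m' hy j]
    exact congrArg (fun g : Γ(RefHull.homSh D M, V) => g.1 ⟨y, hy⟩ (mgerm D (hV hy) (e j))) h
  · refine ⟨fun j => W7Hull.ev g (res D hV (e j)), Subtype.ext (funext fun y => ext_frame he (hV y.2) fun j => ?_)⟩
    refine (dualTensorTo_app he M hV _ y.2 j).trans ?_
    rw [W7Hull.germ_ev, mgerm_res]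

theorem isIso_dualTensorTo (hD : FlatMod.IsFinLocFree D) (M : X.Modules) : IsIso (dualTensorTo D M) := by
  have key : ∀ (x : X) (W : X.Opens), x ∈ W → ∃ V : X.Opens,
      V ≤ W ∧ x ∈ V ∧ Function.Bijective ((dualTensorTo D M).app V) := fun x W hx => by
    obtain ⟨U, n, e, hxU, he⟩ := TMul.exists_isFrame hD x
    exact ⟨W ⊓ U, inf_le_left, ⟨hx, hxU⟩, dualTensorTo_bijective hD he M _ inf_le_right⟩
  refine GrT.isIso_of_locally _ (fun W => (injective_iff_map_eq_zero _).mpr fun s hs =>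
    Groth.Agent.QC.section_eq_of_locally fun x hx => ?_) fun W t x hx => ?_
  · obtain ⟨V, hV, hxV, hbij⟩ := key x W hx
    refine ⟨V, hV, hxV, hbij.1 ?_⟩
    rw [← app_res, hs, map_zero, map_zero, map_zero]
  · obtain ⟨V, hV, hxV, hbij⟩ := key x W hx
    exact ⟨V, hV, hxV, hbij.2 _⟩

/-- `ℋom(D, M) ≅ M ⊗ D^∨`. -/
theorem nonempty_homDual (hD : FlatMod.IsFinLocFree D) (M : X.Modules) :
    Nonempty ((DCoh.sheafHom D).obj M ≅
      CohB1.tensorMod M ((DCoh.sheafHom D).obj (Coh.structureModule X))) := by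
  haveI := isIso_dualTensorTo hD M
  exact ⟨(W7Hull.sheafHomIso D).app M ≪≫ (asIso (dualTensorTo D M)).symm ≪≫ TMul.commIso _ _ ≪≫
    PicGrp.tensorModIso (Iso.refl M) ((W7Hull.sheafHomIso D).app (Coh.structureModule X)).symm⟩

/-- `ℰxt^q(F ⊗ D, G) ≅ ℰxt^q(F, G) ⊗ D^∨`. -/
theorem nonempty_R_tensorLocFree (hD : FlatMod.IsFinLocFree D) (F G : X.Modules) (q : ℕ) :
    Nonempty ((R (CohB1.tensorMod F D) q).obj G ≅
      CohB1.tensorMod ((R F q).obj G) ((DCoh.sheafHom D).obj (Coh.structureModule X))) := by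
  haveI := W7Hull.preservesFiniteColimits_sheafHom D hD
  haveI : (DCoh.sheafHom D).PreservesHomology := Functor.preservesHomologyOfExact _
  let a := (DCoh.sheafHomAdj D).ofNatIsoLeft (commNat D).symm
  let adj₁ := a.comp (DCoh.sheafHomAdj F)
  let θ₁ : tens D ⋙ tens F ≅ tens (CohB1.tensorMod D F) :=
    NatIso.ofComponents (fun M => TMul.assocIso M D F) (fun φ => tmap_assoc φ D F)
  let θ₂ : tens (CohB1.tensorMod D F) ≅ tens (CohB1.tensorMod F D) :=
    NatIso.ofComponents (fun M => whiskIso M (TMul.commIso D F)) (fun {M N} φ => TMul.hom_ext fun U m p => by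
      show (whiskIso N (TMul.commIso D F)).hom.app U ((CohFinite.tmap φ (CohB1.tensorMod D F)).app U (TMul.tm m p)) =
        (CohFinite.tmap φ (CohB1.tensorMod F D)).app U ((whiskIso M (TMul.commIso D F)).hom.app U (TMul.tm m p))
      rw [CohFinite.tmap_tm, whiskIso_tm, whiskIso_tm, CohFinite.tmap_tm])
  let θ : tens D ⋙ (DCoh.tensorBi (X := X)).obj F ≅ (DCoh.tensorBi (X := X)).obj (CohB1.tensorMod F D) :=
    Functor.isoWhiskerLeft (tens D) (commNat F).symm ≪≫ θ₁ ≪≫ θ₂ ≪≫ commNat (CohB1.tensorMod F D)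
  let e : DCoh.sheafHom (CohB1.tensorMod F D) ≅ DCoh.sheafHom F ⋙ DCoh.sheafHom D :=
    ((DCoh.sheafHomAdj (CohB1.tensorMod F D)).ofNatIsoLeft θ.symm).rightAdjointUniq adj₁
  obtain ⟨j⟩ := GrothSS.nonempty_rightDerived_comp_exact (DCoh.sheafHom F) (DCoh.sheafHom D) q G
  obtain ⟨i⟩ := nonempty_homDual hD ((R F q).obj G)
  exact ⟨(GrothSS.rightDerivedMapIso e q).app G ≪≫ j ≪≫ i⟩

end Groth.Agent.ExtShX

namespace Groth.Agent.ExtShX

variable {X : Scheme.{u}}

/-- The prelude's internal Hom is the one on schemes. -/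
theorem nonempty_msHomIso (F M : X.Modules) [ModSite.HasSheafHom (O := X.sheaf) F] :
    Nonempty ((DCoh.sheafHom F).obj M ≅ (ModSite.sheafHom (O := X.sheaf) F).obj M) := by
  let e : @Iso (X.Modules ⥤ X.Modules) _ (ModSite.sheafHom (O := X.sheaf) F) (DCoh.sheafHom F) :=
    (ModSite.sheafHomAdj (O := X.sheaf) F).rightAdjointUniq
      ((DCoh.sheafHomAdj F).ofNatIsoLeft (W7Flasque.tensorIso F).symm)
  exact ⟨(e.app M).symm⟩

/-- `S12427`, on prelude functors. -/
theorem nonempty_extSh_tensorLocFree {D : X.Modules} (hD : FlatMod.IsFinLocFree D) (F G : X.Modules) (q : ℕ)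
    [ModSite.HasSheafHom (O := X.sheaf) F] [ModSite.HasSheafHom (O := X.sheaf) D]
    [ModSite.HasSheafHom (O := X.sheaf) (CohB1.tensorMod F D)] [HasInjectiveResolutions (ModSite.Mod X.sheaf)] :
    Nonempty ((ModSite.extSh (O := X.sheaf) (CohB1.tensorMod F D) q).obj G ≅
      CohB1.tensorMod ((ModSite.extSh (O := X.sheaf) F q).obj G)
        ((ModSite.sheafHom (O := X.sheaf) D).obj (Coh.structureModule X))) := by
  obtain ⟨e₁⟩ := nonempty_extShIso (CohB1.tensorMod F D) q G
  obtain ⟨e₂⟩ := nonempty_R_tensorLocFree hD F G q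
  obtain ⟨e₃⟩ := nonempty_extShIso F q G
  obtain ⟨e₄⟩ := nonempty_msHomIso D (Coh.structureModule X)
  exact ⟨e₁ ≪≫ e₂ ≪≫ PicGrp.tensorModIso e₃.symm e₄⟩

end Groth.Agent.ExtShX
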