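import Groth.Agent.ExtShX.Rel
import Groth.Agent.ExtShX.DualTensor
import Groth.Agent.S0927
import Groth.Agent.LocFree.Rank
import Groth.Agent.DerPerf.Local
import Groth.Agent.DerExt.Comp

/-!
Relative Ext sheaves and tensor products with finite locally free modules.
-/

set_option autoImplicit false
set_option linter.style.haveILetI false
set_option linter.unusedSectionVars false
set_option backward.isDefEq.respectTransparency false
set_option backward.isDefEq.respectTransparency.types false

universe u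

open CategoryTheory CategoryTheory.Limits AlgebraicGeometry TopologicalSpace Opposite
open Groth.Agent.SerrePn

noncomputable section

namespace Groth.Agent.ExtShX

variable {X Y : Scheme.{u}}

/-- Finite locally free modules are reflexive, on any scheme. -/
theorem isIso_bidualMap {E : X.Modules} (hE : FlatMod.IsFinLocFree E) : IsIso (RefHull.bidualMap E) := by
  refine ZCl.isIso_of_stalk _ fun x => ?_
  show Function.Bijective (RefHull.stalkMapₗ (RefHull.bidualMap E) x)
  have hb := RefStalk.evalStalk_bijective (G := Coh.structureModule X)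
    (LocFree.isFP_of_isFinLocFree (ResDesc.isFinLocFree_dual hE)) x
  rw [← hb.of_comp_iff', show (RefHull.evalStalk (RefHull.dual E) (Coh.structureModule X) x) ∘
      (RefHull.stalkMapₗ (RefHull.bidualMap E) x) = RefHull.bidualAt E x from
        funext (RefStalk.evalStalk_stalkMap_bidualMap E x)]
  obtain ⟨e, -⟩ := RefStalk.exists_structStalk x
  let ev := LinearEquiv.ofBijective _
    (RefStalk.evalStalk_bijective (G := Coh.structureModule X) (LocFree.isFP_of_isFinLocFree hE) x)
  let D : (RefHull.dual E).presheaf.stalk x ≃ₗ[X.presheaf.stalk x]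
      Module.Dual (X.presheaf.stalk x) (E.presheaf.stalk x) :=
    ev ≪≫ₗ LinearEquiv.arrowCongr (LinearEquiv.refl _ _) e.symm
  let Ψ : Module.Dual (X.presheaf.stalk x) (Module.Dual (X.presheaf.stalk x) (E.presheaf.stalk x)) ≃ₗ[X.presheaf.stalk x]
      RefHull.StalkHom (RefHull.dual E) (Coh.structureModule X) x :=
    LinearEquiv.arrowCongr D.symm e
  have h : (RefHull.bidualAt E x : E.presheaf.stalk x → _) =
      Ψ ∘ Module.Dual.eval (X.presheaf.stalk x) (E.presheaf.stalk x) := by
    funext v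
    refine LinearMap.ext fun θ => ?_
    change RefHull.evalStalk E (Coh.structureModule X) x θ v = e (e.symm (ev θ v))
    rw [e.apply_symm_apply]
    rfl
  rw [h, Ψ.bijective.of_comp_iff']
  haveI := LocFree.free_stalk_of_isFinLocFree hE x
  obtain ⟨U, hU, hxU, -⟩ := exists_isAffineOpen_mem_and_subset (x := x) (U := (⊤ : X.Opens)) trivial
  haveI := LocFree.finitePresentation_sections hE hU
  haveI := LocFree.finite_stalk hU (LocFree.isQCoh_of_isFinLocFree hE) hxU
  exact Module.IsReflexive.bijective_dual_eval' (R := X.presheaf.stalk x) (M := E.presheaf.stalk x)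

/-- Tensoring a morphism on either side. -/
lemma whisk_natural {E E' : X.Modules} (φ : E ⟶ E') {M M' : X.Modules} (m : M ⟶ M') :
    S0927.tmap E m ≫ CohFinite.tmap φ M' = CohFinite.tmap φ M ≫ S0927.tmap E' m :=
  TMul.hom_ext fun U a b => by
    show (CohFinite.tmap φ M').app U ((S0927.tmap E m).app U (TMul.tm a b)) =
      (S0927.tmap E' m).app U ((CohFinite.tmap φ M).app U (TMul.tm a b))
    rw [S0927.tmap_tm, CohFinite.tmap_tm, CohFinite.tmap_tm, S0927.tmap_tm]

/-- Tensoring with isomorphic modules. -/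
def tensCongr {E E' : X.Modules} (i : E ≅ E') : S0927.tens E ≅ S0927.tens E' :=
  haveI hi : ∀ M, IsIso (CohFinite.tmap i.hom M) := fun M => ⟨CohFinite.tmap i.inv M, TMul.hom_ext fun U a b => by
      show (CohFinite.tmap i.inv M).app U ((CohFinite.tmap i.hom M).app U (TMul.tm a b)) = TMul.tm a b
      rw [CohFinite.tmap_tm, CohFinite.tmap_tm]
      exact congrArg (fun z => TMul.tm z b) (congrArg (fun ψ => Scheme.Modules.Hom.app ψ U a) i.hom_inv_id),
    TMul.hom_ext fun U a b => by
      show (CohFinite.tmap i.hom M).app U ((CohFinite.tmap i.inv M).app U (TMul.tm a b)) = TMul.tm a b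
      rw [CohFinite.tmap_tm, CohFinite.tmap_tm]
      exact congrArg (fun z => TMul.tm z b) (congrArg (fun ψ => Scheme.Modules.Hom.app ψ U a) i.inv_hom_id)⟩
  NatIso.ofComponents (fun M => asIso (CohFinite.tmap i.hom M)) fun m => whisk_natural i.hom m

lemma dualTensorTo_natural (D : X.Modules) {M M' : X.Modules} (m : M ⟶ M') :
    S0927.tmap (RefHull.dual D) m ≫ dualTensorTo D M' = dualTensorTo D M ≫ (RefFun.homFunctor D).map m := by
  have hcur : ∀ N : X.Modules, ((W7Hull.homShAdj D).homEquiv (CohB1.tensorMod (RefHull.dual D) N) N).symm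
      (dualTensorTo D N) = evTensor D N := fun N => by
    rw [W7Hull.homShAdj, Adjunction.mkOfHomEquiv_homEquiv]
    exact W7Hull.curEquiv.symm_apply_apply (evTensor D N)
  apply ((W7Hull.homShAdj D).homEquiv _ _).symm.injective
  rw [Adjunction.homEquiv_naturality_left_symm, Adjunction.homEquiv_naturality_right_symm, hcur, hcur]
  refine (cancel_epi (TMul.assocIso D (RefHull.dual D) M).hom).mp (TMul.hom_ext₃ fun U a h z => ?_)
  show (evTensor D M').app U ((((DCoh.tensorBi (X := X)).obj D).map (S0927.tmap (RefHull.dual D) m)).app U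
      ((TMul.assocHom D (RefHull.dual D) M).app U (TMul.tm (TMul.tm a h) z))) =
    m.app U ((evTensor D M).app U ((TMul.assocHom D (RefHull.dual D) M).app U (TMul.tm (TMul.tm a h) z)))
  rw [TMul.assocHom_tm, W7Hull.map_tm, S0927.tmap_tm, evTensor_tm, evTensor_tm, TMul.app_smul]

/-- `D^∨ ⊗ - ≅ ℋom(D, -)`. -/
def dualHomNat {D : X.Modules} (hD : FlatMod.IsFinLocFree D) :
    S0927.tens (RefHull.dual D) ≅ DCoh.sheafHom D :=
  haveI : ∀ M, IsIso (dualTensorTo D M) := fun M => isIso_dualTensorTo hD M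
  NatIso.ofComponents (F := S0927.tens (RefHull.dual D)) (G := RefFun.homFunctor D)
    (fun M => asIso (dualTensorTo D M)) (fun m => dualTensorTo_natural D m) ≪≫ (W7Hull.sheafHomIso D).symm

/-- A finite locally free module tensors as a sheaf Hom out of its dual. -/
def tensHomNat {E : X.Modules} (hE : FlatMod.IsFinLocFree E) :
    S0927.tens E ≅ DCoh.sheafHom (RefHull.dual E) :=
  haveI := isIso_bidualMap hE
  tensCongr (asIso (RefHull.bidualMap E)) ≪≫ dualHomNat (ResDesc.isFinLocFree_dual hE)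

lemma exact_sheafHom_locFree {D : X.Modules} (hD : FlatMod.IsFinLocFree D) :
    (DCoh.sheafHom D).PreservesHomology ∧ (DCoh.sheafHom D).PreservesInjectiveObjects := by
  haveI := W7Hull.preservesFiniteColimits_sheafHom D hD
  haveI : PreservesFiniteLimits ((KFlat.schB X).flip.obj D) :=
    (((((KFlat.schB X).flip.obj D).exact_tfae.out 1 3 rfl rfl).1
      ((KFlat.isFlat_iff_flatObj D).1 (DerPerf.isFlat_of_isFinLocFree hD)))).1
  haveI : PreservesFiniteLimits ((ModSite.tensorBi X.sheaf).flip.obj D) :=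
    ‹PreservesFiniteLimits ((KFlat.schB X).flip.obj D)›
  haveI : PreservesFiniteLimits ((DCoh.tensorBi (X := X)).obj D) :=
    preservesFiniteLimits_of_natIso ((KFlat.braid X.sheaf).app D).symm
  exact ⟨Functor.preservesHomologyOfExact _,
    ⟨fun {I} hI => @Injective.injective_of_adjoint _ _ _ _ _ _ inferInstance (DCoh.sheafHomAdj D) I hI⟩⟩

/-- `ℋom(D ⊗ F, -) = ℋom(D, -) ⋙ ℋom(F, -)`. -/
theorem nonempty_homTensorIso (D F : X.Modules) :
    Nonempty (DCoh.sheafHom (CohB1.tensorMod F D) ≅ DCoh.sheafHom D ⋙ DCoh.sheafHom F) := by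
  let a := (DCoh.sheafHomAdj F).ofNatIsoLeft (commNat F).symm
  let adj₁ := a.comp (DCoh.sheafHomAdj D)
  let θ₁ : tens F ⋙ tens D ≅ tens (CohB1.tensorMod F D) :=
    NatIso.ofComponents (fun M => TMul.assocIso M F D) (fun φ => tmap_assoc φ F D)
  let θ : tens F ⋙ (DCoh.tensorBi (X := X)).obj D ≅ (DCoh.tensorBi (X := X)).obj (CohB1.tensorMod F D) :=
    Functor.isoWhiskerLeft (tens F) (commNat D).symm ≪≫ θ₁ ≪≫ commNat (CohB1.tensorMod F D)
  exact ⟨((DCoh.sheafHomAdj (CohB1.tensorMod F D)).ofNatIsoLeft θ.symm).rightAdjointUniq adj₁⟩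

/-- `ℋom(F, -)` commutes with tensoring by finite locally free modules. -/
theorem nonempty_tensHomComm {E : X.Modules} (hE : FlatMod.IsFinLocFree E) (F : X.Modules) :
    Nonempty (S0927.tens E ⋙ DCoh.sheafHom F ≅ DCoh.sheafHom F ⋙ S0927.tens E) := by
  let D := RefHull.dual E
  let a := (DCoh.sheafHomAdj D).ofNatIsoLeft (commNat D).symm
  let adj₁ := (DCoh.sheafHomAdj F).comp a
  let adj₂ := a.comp (DCoh.sheafHomAdj F)
  let e : DCoh.sheafHom D ⋙ DCoh.sheafHom F ≅ DCoh.sheafHom F ⋙ DCoh.sheafHom D :=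
    adj₁.rightAdjointUniq (adj₂.ofNatIsoLeft (assocNat F D).symm)
  exact ⟨Functor.isoWhiskerRight (tensHomNat hE) _ ≪≫ e ≪≫ Functor.isoWhiskerLeft _ (tensHomNat hE).symm⟩

variable (f : X ⟶ Y)

/-- Relative Ext sheaves and a finite locally free factor from the base. -/
theorem nonempty_RP_projFormula {N : Y.Modules} (hN : FlatMod.IsFinLocFree N) (F M : X.Modules)
    [PreservesFiniteLimits (Scheme.Modules.pushforward f)] (p : ℕ) :
    Nonempty ((RP (Scheme.Modules.pushforward f) F p).obj (CohB1.tensorMod ((Scheme.Modules.pullback f).obj N) M) ≅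
      CohB1.tensorMod N ((RP (Scheme.Modules.pushforward f) F p).obj M)) := by
  have hfN := DerPerf.isFinLocFree_pullback f hN
  let B := DCoh.sheafHom (RefHull.dual ((Scheme.Modules.pullback f).obj N))
  let C := DCoh.sheafHom (RefHull.dual N)
  obtain ⟨hh, hi⟩ := exact_sheafHom_locFree (ResDesc.isFinLocFree_dual hfN)
  haveI := hh
  haveI := hi
  haveI := W7Hull.preservesFiniteColimits_sheafHom _ (ResDesc.isFinLocFree_dual hN)
  obtain ⟨c⟩ := nonempty_tensHomComm hfN F
  let P := Scheme.Modules.pushforward f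
  let ψ : B ⋙ (DCoh.sheafHom F ⋙ P) ≅ (DCoh.sheafHom F ⋙ P) ⋙ C :=
    (Functor.associator B _ P).symm ≪≫
      Functor.isoWhiskerRight (Functor.isoWhiskerRight (tensHomNat hfN).symm _ ≪≫ c) P ≪≫
      Functor.associator _ _ P ≪≫ Functor.isoWhiskerLeft _ (S0927.projIso f N hN).symm ≪≫
      (Functor.associator _ P _).symm ≪≫ Functor.isoWhiskerLeft _ (tensHomNat hN)
  obtain ⟨j⟩ := GrothSS.nonempty_rightDerived_comp_exact (DCoh.sheafHom F ⋙ P) C p M
  exact ⟨(RP P F p).mapIso ((tensHomNat hfN).app M) ≪≫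
    ((DerExt.rightDerivedCompIso B (DCoh.sheafHom F ⋙ P) p).app M).symm ≪≫
    (GrothSS.rightDerivedMapIso ψ p).app M ≪≫ j ≪≫ ((tensHomNat hN).app _).symm⟩

/-- Relative Ext sheaves out of a tensor product. -/
theorem nonempty_RP_tensorLocFree {L : X.Modules} (hL : FlatMod.IsFinLocFree L) (F G : X.Modules) {N : Y.Modules}
    (hN : FlatMod.IsFinLocFree N) [PreservesFiniteLimits (Scheme.Modules.pushforward f)] (p : ℕ) :
    Nonempty ((RP (Scheme.Modules.pushforward f) (CohB1.tensorMod F L) p).obj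
        (CohB1.tensorMod G ((Scheme.Modules.pullback f).obj N)) ≅
      CohB1.tensorMod ((RP (Scheme.Modules.pushforward f) F p).obj
        (CohB1.tensorMod G ((DCoh.sheafHom L).obj (Coh.structureModule X)))) N) := by
  let P := Scheme.Modules.pushforward f
  let fN := (Scheme.Modules.pullback f).obj N
  let L' := (DCoh.sheafHom L).obj (Coh.structureModule X)
  obtain ⟨hh, hi⟩ := exact_sheafHom_locFree hL
  haveI := hh
  haveI := hi
  obtain ⟨h⟩ := nonempty_homTensorIso L F
  let φ : DCoh.sheafHom (CohB1.tensorMod F L) ⋙ P ≅ DCoh.sheafHom L ⋙ (DCoh.sheafHom F ⋙ P) :=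
    Functor.isoWhiskerRight h P ≪≫ Functor.associator _ _ _
  obtain ⟨d⟩ := nonempty_homDual hL (CohB1.tensorMod G fN)
  obtain ⟨q⟩ := nonempty_RP_projFormula f hN F (CohB1.tensorMod G L') p
  exact ⟨(GrothSS.rightDerivedMapIso φ p).app _ ≪≫
    (DerExt.rightDerivedCompIso (DCoh.sheafHom L) (DCoh.sheafHom F ⋙ P) p).app _ ≪≫
    (RP P F p).mapIso (d ≪≫ PicGrp.tensorModIso (TMul.commIso G fN) (Iso.refl L') ≪≫ TMul.assocIso fN G L') ≪≫
    q ≪≫ TMul.commIso _ _⟩

end Groth.Agent.ExtShX
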