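import Groth.Agent.ExtShX.Basic
import Groth.Agent.RefStalk.Coherent
import Groth.Agent.QC.Coherent
import Groth.Agent.CohFinite.RPushCoh

/-!
Coherence of the Ext sheaves of coherent modules when there are enough locally free ones.
-/

set_option autoImplicit false
set_option linter.style.haveILetI false
set_option linter.unusedSectionVars false
set_option backward.isDefEq.respectTransparency false
set_option backward.isDefEq.respectTransparency.types false

universe u

open CategoryTheory CategoryTheory.Limits AlgebraicGeometry TopologicalSpace Opposite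

noncomputable section

namespace Groth.Agent.ExtShX

variable {X : Scheme.{u}}

/-- Every coherent module is a quotient of a finite locally free one. -/
def Covers (X : Scheme.{u}) : Prop :=
  ∀ F : X.Modules, Coh.IsCoh F → ∃ (L : X.Modules) (p : L ⟶ F), FlatMod.IsFinLocFree L ∧ Epi p

theorem isCoh_zero [IsLocallyNoetherian X] (F N : X.Modules) (hF : Coh.IsCoh F) (hN : Coh.IsCoh N) : Coh.IsCoh ((R F 0).obj N) :=
  CohFinite.isCoh_of_iso (zeroIso F N ≪≫ (W7Hull.sheafHomIso F).app N).symm (RefStalk.isCoh_homSh hF hN)

/-- The Ext sheaves of coherent modules are coherent. -/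
theorem isCoh_R [IsLocallyNoetherian X] (h : Covers X) (q : ℕ) :
    ∀ F N : X.Modules, Coh.IsCoh F → Coh.IsCoh N → Coh.IsCoh ((R F q).obj N) := by
  induction q with
  | zero => exact fun F N hF hN => isCoh_zero F N hF hN
  | succ q ih =>
    intro F N hF hN
    obtain ⟨L, p, hL, hp⟩ := h F hF
    have hLc : Coh.IsCoh L := ⟨LocFree.isQCoh_of_isFinLocFree hL, LocFree.isFT_of_isFinLocFree hL⟩
    let S : ShortComplex X.Modules := ShortComplex.mk (kernel.ι p) p (kernel.condition p)
    have hS : S.ShortExact := { exact := ShortComplex.exact_of_f_is_kernel _ (kernelIsKernel p) }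
    have hK : Coh.IsCoh S.X₁ := Groth.Agent.QC.isCoh_kernel hLc hF.1 p
    have hmid : ∀ j, IsZero ((R S.X₂ (j + 1)).obj N) := fun j => isZero_of_finLocFree L hL j N
    rcases q with _ | q
    · obtain ⟨f, ⟨e⟩⟩ := exists_firstOne hS N hmid
      exact CohFinite.isCoh_of_iso e.symm
        (Groth.Agent.QC.isCoh_cokernel (isCoh_zero L N hLc hN).1 (ih _ N hK hN) f)
    · obtain ⟨e⟩ := nonempty_firstShift hS N hmid q
      exact CohFinite.isCoh_of_iso e.symm (ih _ N hK hN)

end Groth.Agent.ExtShX
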