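import Groth.Agent.ResDesc.ResProp
import Groth.Agent.ExtShX.Coh

/-!
Coherent modules as quotients of sums of one negative power of an ample module.
-/

set_option autoImplicit false
set_option linter.style.haveILetI false
set_option linter.unusedSectionVars false
set_option backward.isDefEq.respectTransparency false
set_option backward.isDefEq.respectTransparency.types false

universe u

open CategoryTheory CategoryTheory.Limits AlgebraicGeometry TopologicalSpace Opposite
open Groth.Agent.QC (res resO res_res res_smul resO_resO app_res res_self)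

noncomputable section

namespace Groth.Agent.ExtShX

open Groth.Agent.ResDesc

variable {X : Scheme.{u}}

/-- From `D ⊗ O^r` to `D^r`. -/
theorem exists_epi_sum (D : X.Modules) (r : ℕ) :
    ∃ u : (∐ fun _ : Fin r => D) ⟶ ((DCoh.tensorBi (X := X)).obj D).obj (FlatMod.freeMod X r), Epi u := by
  let T := (DCoh.tensorBi (X := X)).obj D
  haveI : PreservesColimitsOfSize.{0, 0} T := (DCoh.sheafHomAdj D).leftAdjoint_preservesColimits
  let i : D ≅ T.obj (Coh.structureModule X) := (TMul.leftUnitIso D).symm ≪≫ TMul.commIso _ _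
  exact ⟨(Sigma.mapIso fun _ : Fin r => i).hom ≫ sigmaComparison T (fun _ : Fin r => Coh.structureModule X),
    inferInstance⟩

theorem exists_epi_of_tensor {D F G : X.Modules} {r : ℕ} (p : FlatMod.freeMod X r ⟶ G) (hp : Epi p)
    (α : CohB1.tensorMod D G ⟶ F) (hα : Epi α) : ∃ π : (∐ fun _ : Fin r => D) ⟶ F, Epi π := by
  obtain ⟨u, hu⟩ := exists_epi_sum D r
  exact ⟨u ≫ ((DCoh.tensorBi (X := X)).obj D).map p ≫ α,
    @epi_comp _ _ _ _ _ u hu _ (@epi_comp _ _ _ _ _ (((DCoh.tensorBi (X := X)).obj D).map p)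
      (@ResDesc.epi_tensorMap _ _ _ _ p hp) α hα)⟩

set_option maxHeartbeats 800000 in
theorem exists_cover_twists {L : X.Modules} (hL : CohB1.IsAmple L) (F : X.Modules) (hF : Coh.IsQCoh F)
    (hFT : CohB1.IsFT F) : ∃ n₀ : ℕ, ∀ n, n₀ ≤ n → ∃ (r : ℕ)
      (π : (∐ fun _ : Fin r => RefHull.dual (CohB1.tensorPow L n)) ⟶ F), Epi π := by
  classical
  haveI : F.IsQuasicoherent := hF
  haveI := hL.2.1
  obtain ⟨n₀, hn⟩ := TMul.exists_forall_genOn hL (F := F) hFT
  refine ⟨n₀, fun n hle => ?_⟩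
  let P := CohB1.tensorPow L n
  have hP : PicF.IsInvertible P := TMul.isInvertible_tensorPow hL.1 n
  let G := CohB1.tensorMod F P
  have hG : Coh.IsQCoh G := TMul.isQCoh_tensor hP
  have hGT : CohB1.IsFT G := TMul.isFT_tensor hP hFT
  choose D hD hxD hgen using hn n hle
  obtain ⟨s, hs⟩ := isCompact_univ.elim_finite_subcover (fun x : X => (D x : Set X)) (fun x => (D x).2)
    (fun x _ => Set.mem_iUnion.mpr ⟨x, hxD x⟩)
  have hfg : ∀ x : X, ∃ T : Finset Γ(G, ⊤),
      Submodule.span Γ(X, D x) (res G (le_top : D x ≤ ⊤) '' (T : Set Γ(G, ⊤))) = ⊤ := fun x => by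
    haveI : G.IsQuasicoherent := hG
    haveI := (QC.isFT_iff_finite_sections (M := G)).mp hGT ⟨D x, hD x⟩
    obtain ⟨T, hT⟩ : ∃ T : Finset Γ(G, D x), Submodule.span Γ(X, D x) (T : Set Γ(G, D x)) = ⊤ :=
      (Module.Finite.fg_top : (⊤ : Submodule Γ(X, D x) Γ(G, D x)).FG)
    have hTsub : ∀ t : T, ∃ T' : Finset Γ(G, ⊤),
        (t : Γ(G, D x)) ∈ Submodule.span Γ(X, D x) (res G (le_top : D x ≤ ⊤) '' (T' : Set Γ(G, ⊤))) := fun t => by
      have ht : (t : Γ(G, D x)) ∈ Submodule.span Γ(X, D x) (Set.range (res G (le_top : D x ≤ ⊤))) := (hgen x) ▸ trivial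
      obtain ⟨S, hS, htS⟩ := Submodule.mem_span_finite_of_mem_span ht
      choose g hg using fun y : S => hS y.2
      refine ⟨S.attach.image g, Submodule.span_mono (fun y hy => ?_) htS⟩
      exact ⟨g ⟨y, hy⟩, by simp, hg _⟩
    choose T' hT' using hTsub
    refine ⟨T.attach.biUnion T', top_le_iff.mp (hT ▸ Submodule.span_le.mpr fun t ht => ?_)⟩
    exact Submodule.span_mono (Set.image_mono (fun z hz => Finset.mem_biUnion.mpr ⟨⟨t, ht⟩, by simp, hz⟩)) (hT' ⟨t, ht⟩)
  choose T hT using hfg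
  let K := s.biUnion T
  let e := K.equivFin
  let E := FlatMod.freeMod X K.card
  let p : E ⟶ G := Sigma.desc fun i => TMul.homOf ((e.symm i).1)
  have hp : Epi p := by
    refine Preadditive.epi_of_cancel_zero _ fun {N} g hg => ?_
    refine cancel_zero_of_span hG (fun x : s => D x.1) (fun x => hD x.1) (fun y => ?_)
      (fun x => res G le_top '' (T x.1 : Set Γ(G, ⊤))) (fun x => hT x.1) g fun x t ht => ?_
    · obtain ⟨x, hx, hy⟩ := Set.mem_iUnion₂.mp (hs (Set.mem_univ y))
      exact ⟨⟨x, hx⟩, hy⟩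
    · obtain ⟨t, ht', rfl⟩ := ht
      let i := e ⟨t, Finset.mem_biUnion.mpr ⟨x.1, x.2, ht'⟩⟩
      have h : Sigma.ι (fun _ : Fin K.card => Coh.structureModule X) i ≫ p = TMul.homOf t := by
        rw [Sigma.ι_desc]; simp [i, e]
      have h' : TMul.homOf t ≫ g = 0 := by rw [← h, Category.assoc, hg, comp_zero]
      have h2 : g.app ⊤ t = 0 := by
        have e := congrArg (fun φ : Coh.structureModule X ⟶ N => TMul.val φ ⊤) h'
        simp only [TMul.val_comp, TMul.val_homOf, res_self] at e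
        exact e.trans rfl
      rw [← app_res, h2, map_zero]
  obtain ⟨α, hα⟩ := exists_contract P F (epi_evDual_of_isInvertible hP)
  exact ⟨K.card, exists_epi_of_tensor (p ≫ (TMul.commIso F P).hom) (epi_comp _ _) α hα⟩

end Groth.Agent.ExtShX
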