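import Groth.Agent.ExtShX.StalkExt
import Groth.Agent.LCZ.Scheme
import Groth.Agent.LocFree.Props
import Groth.Agent.Devissage.Piece
import Groth.Agent.LocH.DepthExt
import Groth.Agent.W7Baer.Local
import Groth.Agent.RefStalk.Codim

/-!
Depth of the stalks of a coherent sheaf and vanishing of local Ext sheaves.
-/

set_option autoImplicit false
set_option linter.style.haveILetI false
set_option linter.unusedSectionVars false
set_option backward.isDefEq.respectTransparency false
set_option backward.isDefEq.respectTransparency.types false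

universe u

open CategoryTheory CategoryTheory.Limits CategoryTheory.Abelian AlgebraicGeometry TopologicalSpace Opposite
open RingTheory.Sequence

noncomputable section

namespace Groth.Agent.ExtShX

section Alg

variable {A : Type u} [CommRing A] [IsNoetherianRing A]

theorem ext_subsingleton_of_regular (N M : Type u) [AddCommGroup N] [Module A N] [AddCommGroup M] [Module A M]
    (rs : List A) (hreg : IsWeaklyRegular M rs) (hN : ∀ r ∈ rs, r ∈ Module.annihilator A N) (i : ℕ)
    (hi : i < rs.length) : Subsingleton (Ext (ModuleCat.of A N) (ModuleCat.of A M) i) :=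
  LocH.ext_subsingleton_of_H (I := Module.annihilator A N) _
    (fun x => ⟨1, fun a ha => Module.mem_annihilator.1 (by rwa [pow_one] at ha) x⟩) i _ fun j hj =>
    LocH.subsingleton_of_isWeaklyRegular _ rs M hreg hN j (by omega)

theorem le_depth_of_ext [IsLocalRing A] (N M : Type u) [AddCommGroup N] [Module A N] [Module.Finite A N] [Nontrivial N]
    [AddCommGroup M] [Module A M] [Module.Finite A M] (n : ℕ)
    (h : ∀ i, i < n → Subsingleton (Ext (ModuleCat.of A N) (ModuleCat.of A M) i)) :
    (n : ℕ∞) ≤ LocCoh.depth A M := by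
  have hH : ∀ i, i < n → Subsingleton (LocCoh.H (Module.annihilator A N) i M) := fun i hi =>
    LocH.H_subsingleton_of_ext N Module.support_eq_zeroLocus i (ModuleCat.of A M) fun j hj => h j (by omega)
  obtain ⟨rs, hl, hreg, hrs⟩ := LocH.exists_isWeaklyRegular _ n M hH
  have hle : Module.annihilator A N ≤ IsLocalRing.maximalIdeal A := IsLocalRing.le_maximalIdeal fun htop =>
    not_subsingleton N ⟨fun a b => by
      have h1 := fun c : N => (one_smul A c).symm.trans (Module.mem_annihilator.1 ((Ideal.eq_top_iff_one _).1 htop) c)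
      rw [h1 a, h1 b]⟩
  rw [LocCoh.depth, LocCoh.idealDepth]
  split
  · exact le_top
  · exact hl ▸ le_iSup₂_of_le rs ⟨hreg, fun r hr => hle (hrs r hr)⟩ le_rfl

end Alg

variable {X : Scheme.{u}} [IsLocallyNoetherian X]

omit [IsLocallyNoetherian X] in
theorem subsingleton_stalk_of_isZero {M : X.Modules} (h : IsZero M) (x : X) :
    Subsingleton ((DerSch.stalkFunctor X x).obj M) :=
  ModuleCat.subsingleton_of_isZero ((DerSch.stalkFunctor X x).map_isZero h)

/-- The stalk of the prelude's Ext sheaf. -/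
theorem subsingleton_stalk_extSh_iff (G : X.Modules) (hG : Coh.IsCoh G) (F : X.Modules)
    [ModSite.HasSheafHom (O := X.sheaf) G] [HasInjectiveResolutions (ModSite.Mod X.sheaf)] (x : X) (i : ℕ) :
    Subsingleton ((DerSch.stalkFunctor X x).obj ((ModSite.extSh (O := X.sheaf) G i).obj F)) ↔
      Subsingleton (Ext (ModuleCat.of (X.presheaf.stalk x) (G.presheaf.stalk x))
        (ModuleCat.of (X.presheaf.stalk x) (F.presheaf.stalk x)) i) := by
  obtain ⟨e⟩ := nonempty_extShIso G i F
  obtain ⟨e'⟩ := nonempty_stalk_R G hG x i F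
  exact ((DerSch.stalkFunctor X x).mapIso e ≪≫ e').toLinearEquiv.toEquiv.subsingleton_congr

/-- A regular sequence in the annihilator of the stalk, from the depths along the support. -/
theorem exists_regular_stalk (F G : X.Modules) (hF : Coh.IsCoh F) (hG : Coh.IsCoh G) (n : ℕ)
    (h : ∀ y ∈ CohB1.support G, (n : ℕ∞) ≤ LocCoh.depth (X.presheaf.stalk y) (F.presheaf.stalk y)) (x : X) :
    ∃ rs : List (X.presheaf.stalk x), rs.length = n ∧ IsWeaklyRegular (F.presheaf.stalk x) rs ∧
      ∀ r ∈ rs, r ∈ Module.annihilator (X.presheaf.stalk x) (G.presheaf.stalk x) := by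
  obtain ⟨V, hV, hxV, -⟩ := exists_isAffineOpen_mem_and_subset (X := X) (U := ⊤) (x := x) trivial
  haveI : Module.Finite Γ(X, V) Γ(F, V) := haveI : F.IsQuasicoherent := hF.1
    (Groth.Agent.QC.isCoh_iff_finite_sections.mp hF).2 ⟨V, hV⟩
  haveI : Module.Finite Γ(X, V) Γ(G, V) := haveI : G.IsQuasicoherent := hG.1
    (Groth.Agent.QC.isCoh_iff_finite_sections.mp hG).2 ⟨V, hV⟩
  haveI : IsNoetherianRing Γ(X, V) := IsLocallyNoetherian.component_noetherian ⟨V, hV⟩
  let I := Module.annihilator Γ(X, V) Γ(G, V)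
  have hd : (n : ℕ∞) ≤ LocCoh.idealDepth I Γ(F, V) := by
    rw [LocH.le_idealDepth_iff_forall_prime]
    intro p hp
    rw [← LCZ.depth_stalk_eq F hF hV p]
    refine h _ fun hs => ?_
    have hy : hV.fromSpec p ∈ V := hV.range_fromSpec.subset ⟨p, rfl⟩
    letI := Module.compHom (G.presheaf.stalk (hV.fromSpec p)) (X.presheaf.germ V _ hy).hom
    obtain ⟨g, hg⟩ := LocFree.exists_stalkMap hV hG.1 hy
    have hprime : (hV.primeIdealOf ⟨hV.fromSpec p, hy⟩) = p :=
      hV.fromSpec.isOpenEmbedding.injective (hV.fromSpec_primeIdealOf ⟨hV.fromSpec p, hy⟩)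
    haveI := hg
    have hmem : p ∈ Module.support Γ(X, V) Γ(G, V) := by
      rw [Module.support_eq_zeroLocus]
      exact hp
    rw [← hprime, Module.mem_support_iff] at hmem
    haveI : Subsingleton (G.presheaf.stalk (hV.fromSpec p)) := hs
    exact not_subsingleton_iff_nontrivial.2 hmem (IsLocalizedModule.iso _ g).toEquiv.subsingleton
  obtain ⟨rs, hl, hreg, hrs⟩ := LocH.exists_isWeaklyRegular I n Γ(F, V) ((LocH.le_idealDepth_iff I _ n).1 hd)
  letI := (X.presheaf.germ V x hxV).hom.toAlgebra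
  haveI := hV.isLocalization_stalk ⟨x, hxV⟩
  letI := Module.compHom (F.presheaf.stalk x) (X.presheaf.germ V x hxV).hom
  letI := Module.compHom (G.presheaf.stalk x) (X.presheaf.germ V x hxV).hom
  haveI : IsScalarTower Γ(X, V) (X.presheaf.stalk x) (F.presheaf.stalk x) :=
    ⟨fun a c m => mul_smul ((X.presheaf.germ V x hxV).hom a) c m⟩
  obtain ⟨g, hg⟩ := LocFree.exists_stalkMap hV hF.1 hxV
  obtain ⟨g', hg'⟩ := LocFree.exists_stalkMap hV hG.1 hxV
  haveI := hg
  haveI := hg'
  refine ⟨rs.map (algebraMap Γ(X, V) (X.presheaf.stalk x)), by rw [List.length_map, hl],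
    hreg.of_isLocalizedModule (X.presheaf.stalk x) (hV.primeIdealOf ⟨x, hxV⟩).asIdeal.primeCompl g, fun r hr => ?_⟩
  obtain ⟨a, ha, rfl⟩ := List.mem_map.1 hr
  refine Module.mem_annihilator.2 fun m => ?_
  obtain ⟨⟨s, t⟩, hst⟩ := IsLocalizedModule.surj (hV.primeIdealOf ⟨x, hxV⟩).asIdeal.primeCompl g' m
  refine (((Module.End.isUnit_iff _).1 (IsLocalizedModule.map_units g' t)).injective ?_)
  show (t : Γ(X, V)) • (a • m) = (t : Γ(X, V)) • (0 : G.presheaf.stalk x)
  rw [smul_comm, show (t : Γ(X, V)) • m = g' s from hst, ← map_smul, Module.mem_annihilator.1 (hrs a ha) s, map_zero,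
    smul_zero]

variable [∀ M : X.Modules, ModSite.HasSheafHom (O := X.sheaf) M] [HasInjectiveResolutions (ModSite.Mod X.sheaf)]

/-- Ext sheaves vanish below the depth along the support. -/
theorem isZero_extSh_of_depth (F G : X.Modules) (hF : Coh.IsCoh F) (hG : Coh.IsCoh G) (n : ℕ)
    (h : ∀ y ∈ CohB1.support G, (n : ℕ∞) ≤ LocCoh.depth (X.presheaf.stalk y) (F.presheaf.stalk y)) (i : ℕ)
    (hi : i < n) : IsZero ((ModSite.extSh (O := X.sheaf) G i).obj F) := by
  refine W7Baer.isZero_of_stalks (X := X) _ fun x => ?_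
  haveI : Subsingleton ((DerSch.stalkFunctor X x).obj ((ModSite.extSh (O := X.sheaf) G i).obj F)) := by
    obtain ⟨rs, hl, hreg, hann⟩ := exists_regular_stalk F G hF hG n h x
    exact (subsingleton_stalk_extSh_iff G hG F x i).2 (ext_subsingleton_of_regular _ _ rs hreg hann i (hl ▸ hi))
  exact ModuleCat.isZero_of_subsingleton _

/-- Depth at a point of the support from vanishing of Ext sheaves. -/
theorem le_depth_of_isZero_extSh (F G : X.Modules) (hF : Coh.IsCoh F) (hG : Coh.IsCoh G) (n : ℕ)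
    (h : ∀ i, i < n → IsZero ((ModSite.extSh (O := X.sheaf) G i).obj F)) (x : X) (hx : x ∈ CohB1.support G) :
    (n : ℕ∞) ≤ LocCoh.depth (X.presheaf.stalk x) (F.presheaf.stalk x) := by
  haveI := RegDual.finite_stalk hG x
  haveI := RegDual.finite_stalk hF x
  haveI : Nontrivial (G.presheaf.stalk x) := not_subsingleton_iff_nontrivial.1 hx
  exact le_depth_of_ext (G.presheaf.stalk x) (F.presheaf.stalk x) n fun i hi =>
    (subsingleton_stalk_extSh_iff G hG F x i).1 (subsingleton_stalk_of_isZero (h i hi) x)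

omit [∀ M : X.Modules, ModSite.HasSheafHom (O := X.sheaf) M] [HasInjectiveResolutions (ModSite.Mod X.sheaf)] in
/-- A coherent module supported in the closure of a point, nonzero there. -/
theorem exists_coh_support (ξ : X) : ∃ G : X.Modules, Coh.IsCoh G ∧ CohB1.support G ⊆ closure {ξ} ∧ ξ ∈ CohB1.support G := by
  haveI : (Coh.structureModule (Scheme.IdealSheafData.vanishingIdeal (Devissage.Zc ξ)).subscheme).IsQuasicoherent :=
    QC.isQCoh_unit _
  refine ⟨Devissage.A ξ, QC.isCoh_pushforward_of_isFinite (Devissage.Zi ξ) (Devissage.isCoh_unit _).2,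
    Devissage.support_A_subset ξ, fun hs => ?_⟩
  obtain ⟨V, hV, iU, iV, he⟩ := TopCat.Presheaf.germ_eq (Devissage.A ξ).presheaf (U := (⊤ : X.Opens)) (V := (⊤ : X.Opens)) ξ
    (trivial : ξ ∈ (⊤ : X.Opens)) (trivial : ξ ∈ (⊤ : X.Opens)) ((Devissage.η ξ).app ⊤ (1 : Γ(X, ⊤))) 0
    ((@Subsingleton.elim _ hs _ 0).trans (map_zero _).symm)
  have h1 : QC.res (Devissage.A ξ) iU.le ((Devissage.η ξ).app ⊤ (1 : Γ(X, ⊤))) = 0 := he.trans (map_zero _)
  rw [QC.app_res, show QC.res (Coh.structureModule X) iU.le (1 : Γ(X, ⊤)) = (1 : Γ(X, V)) from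
    map_one (QC.resO X iU.le)] at h1
  exact (Devissage.η_eq_zero_iff ξ (1 : Γ(X, V))).1 h1 hV (by rw [map_one]; exact isUnit_one)

end Groth.Agent.ExtShX
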