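import Groth.Agent.Catenary.LocalDim
import Groth.Agent.Catenary.Space
import Groth.Agent.FibDepth.Field
import Groth.Agent.S0603
import Groth.Agent.FibDepth.RegBiequi
import Groth.Agent.LocalDimBC.Smooth
import Groth.Agent.CMFlat.Local
import Groth.Agent.SerrePn.ClosedDepth

/-!
Dimension of local rings on equidimensional schemes locally of finite type over a field.
-/

set_option autoImplicit false
set_option linter.style.haveILetI false
set_option backward.isDefEq.respectTransparency false

universe u

open CategoryTheory AlgebraicGeometry TopologicalSpace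

namespace Groth.Agent.ExtShX

theorem isUniversallyCatenary_field (k : Type u) [Field k] : CAlg.IsUniversallyCatenary k :=
  Catenary.isUniversallyCatenary_of_polynomial fun n =>
    Catenary.isCatenary_of_isUniversallyCatenary (S0603.result (MvPolynomial (Fin n) k))

/-- `dim O_x + dim closure x = n`. -/
theorem exists_dims_field {k : Type u} [Field k] {P : Scheme.{u}} (f : P ⟶ Spec (CommRingCat.of k))
    [LocallyOfFiniteType f] (n : ℕ)
    (hP : ∀ Z : Set ↥P, Z ∈ irreducibleComponents ↥P → topologicalKrullDim ↥Z = (n : WithBot ℕ∞)) (x : P) :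
    ∃ a d : ℕ, topologicalKrullDim ↥(closure ({x} : Set P)) = (a : WithBot ℕ∞) ∧
      ringKrullDim (P.presheaf.stalk x) = (d : WithBot ℕ∞) ∧ a + d = n := by
  haveI : IsLocallyNoetherian P := LocallyOfFiniteType.isLocallyNoetherian f
  haveI : JacobsonSpace P := LocallyOfFiniteType.jacobsonSpace f
  have h2 : ∀ s : Spec (CommRingCat.of k), CAlg.IsUniversallyCatenary ((Spec (CommRingCat.of k)).presheaf.stalk s) :=
    fun s => Catenary.isUniversallyCatenary_stalk (isAffineOpen_top _) s trivial
      (Catenary.isUniversallyCatenary_of_ringEquiv (Scheme.ΓSpecIso (CommRingCat.of k)).commRingCatIsoToRingEquiv.symm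
        (isUniversallyCatenary_field k))
  have hS : Catenary.ClosedDim (Spec (CommRingCat.of k)) := Catenary.closedDim_of_equidim h2 fun S' hS' s hs _ => by
    haveI : Subsingleton ↥(Spec (CommRingCat.of k)) := inferInstanceAs (Subsingleton (PrimeSpectrum k))
    have h : {t : Spec (CommRingCat.of k) | t ∈ S' ∧ t ⤳ s} = S' :=
      Set.ext fun t => ⟨fun h => h.1, fun h => ⟨h, specializes_of_eq (Subsingleton.elim t s)⟩⟩
    rw [h]
  have hX : Catenary.ClosedDim P := fun ζ => by
    obtain ⟨D, t, -, -, h⟩ := Catenary.closedDim_lft hS h2 f ζ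
    exact ⟨D + t, h⟩
  have hcat : ∀ z : P, CAlg.IsCatenary (P.presheaf.stalk z) := fun z => by
    obtain ⟨W, hW, hzW, -⟩ := exists_isAffineOpen_mem_and_subset (U := (⊤ : P.Opens)) (x := z) trivial
    letI := (f.appLE ⊤ W le_top).hom.toAlgebra
    haveI : Algebra.FiniteType Γ(Spec (CommRingCat.of k), ⊤) Γ(P, W) :=
      f.finiteType_appLE (isAffineOpen_top _) hW le_top
    exact Catenary.isCatenary_of_isUniversallyCatenary (Catenary.isUniversallyCatenary_stalk hW z hzW
      (Catenary.isUniversallyCatenary_of_finiteType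
        (Catenary.isUniversallyCatenary_of_ringEquiv (Scheme.ΓSpecIso (CommRingCat.of k)).commRingCatIsoToRingEquiv.symm
          (isUniversallyCatenary_field k))))
  obtain ⟨M, Dx, ζ, hζ, -, hM, -, hDx, hgens, hle⟩ := Catenary.exists_dims hX hcat isClosed_univ (Set.mem_univ x)
  have hcomp : closure ({ζ} : Set P) ∈ irreducibleComponents ↥P := by
    refine ⟨isIrreducible_singleton.closure, fun T hT hle => ?_⟩
    obtain ⟨g, hg⟩ := QuasiSober.sober hT.closure isClosed_closure
    have h1 : g ⤳ ζ := hg.specializes (subset_closure (hle (subset_closure rfl)))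
    obtain rfl := hζ.2 g trivial h1
    exact subset_closure.trans (le_of_eq hg.def.symm)
  rw [hP _ hcomp, Nat.cast_inj] at hM
  refine ⟨Dx, M - Dx, hDx, ?_, by omega⟩
  rw [← hgens, show {t : P | t ∈ Set.univ ∧ t ⤳ x} = {t : P | t ⤳ x} from
    Set.ext fun t => and_iff_right (Set.mem_univ t)]
  exact (FibDepth.dim_generalizations P x).symm

/-- `dim O_x + dim closure x = n` for smooth schemes of relative dimension `n`. -/
theorem exists_dims_smooth {k : Type u} [Field k] {X : Scheme.{u}} (f : X ⟶ Spec (CommRingCat.of k)) (n : ℕ)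
    [SmoothOfRelativeDimension n f] (x : X) :
    ∃ a d : ℕ, topologicalKrullDim ↥(closure ({x} : Set X)) = (a : WithBot ℕ∞) ∧
      ringKrullDim (X.presheaf.stalk x) = (d : WithBot ℕ∞) ∧ a + d = n := by
  haveI : Smooth f := SmoothOfRelativeDimension.smooth n f
  haveI : IsLocallyNoetherian X := LocallyOfFiniteType.isLocallyNoetherian f
  haveI : Subsingleton ↥(Spec (CommRingCat.of k)) := inferInstanceAs (Subsingleton (PrimeSpectrum k))
  obtain ⟨b, δ, hb, hdim, hle, hge, -, -⟩ := DimFormula.exists_fibre_dims f x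
  rw [LocalDimBC.fibreDimAt_of_smoothOfRelativeDimension n f x, Nat.cast_inj] at hdim
  refine ⟨δ, b, ?_, ?_, by omega⟩
  · rw [← Unibranch.topologicalKrullDim_inter_eq f isClosed_closure.isLocallyClosed (f x) hle hge,
      show closure ({x} : Set X) ∩ f ⁻¹' {f x} = closure {x} from
        Set.inter_eq_left.2 fun t _ => Subsingleton.elim _ _]
  · obtain ⟨A, hA, -⟩ := DimFormula.exists_ringKrullDim_stalk x
    have key : ∀ j : ℕ, ringKrullDim (X.presheaf.stalk x) ≤ (j : WithBot ℕ∞) ↔ b ≤ j := fun j => by
      rw [DimFormula.ringKrullDim_stalk_le_iff, ← Nat.cast_le (α := WithBot ℕ∞), ← hb,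
        DimFormula.ringKrullDim_fiber_stalk_le_iff]
      exact ⟨fun h m c h1 _ h3 => h m c h1 h3, fun h m c h1 h3 => h m c h1 (fun i => Subsingleton.elim _ _) h3⟩
    have h1 := (key A).1 hA.le
    have h2 := (key b).2 le_rfl
    rw [hA, Nat.cast_le] at h2
    rw [hA, le_antisymm h2 h1]

/-- Finite locally free modules over regular schemes have depth the dimension. -/
theorem le_depth_regular {X : Scheme.{u}} [IsLocallyNoetherian X] {L : X.Modules} (hL : FlatMod.IsFinLocFree L) (y : X)
    [IsRegularLocalRing (X.presheaf.stalk y)] {d : ℕ} (hd : ringKrullDim (X.presheaf.stalk y) = (d : WithBot ℕ∞))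
    (m : ℕ) (hm : m ≤ d) : (m : ℕ∞) ≤ LocCoh.depth (X.presheaf.stalk y) (L.presheaf.stalk y) := by
  haveI := CMFlat.isCohenMacaulayLocalRing_of_isRegularLocalRing (X.presheaf.stalk y)
  haveI := RegDual.finite_stalk (show Coh.IsCoh L from
    ⟨LocFree.isQCoh_of_isFinLocFree hL, LocFree.isFT_of_isFinLocFree hL⟩) y
  haveI := LocFree.free_stalk_of_isFinLocFree hL y
  refine SerrePn.le_depth_free ?_ _
  have h : Module.supportDim (X.presheaf.stalk y) (X.presheaf.stalk y) = _ :=
    LocCoh.IsCohenMacaulayLocalRing.supportDim_eq_depth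
  rw [Module.supportDim_self_eq_ringKrullDim, hd] at h
  exact (Nat.cast_le.2 hm).trans (le_of_eq (WithBot.coe_inj.1 h))

end Groth.Agent.ExtShX
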