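import Groth.Agent.ExtShX.Basic
import Groth.Agent.InvSite.Basic
import Groth.Agent.DQCoh.AffinePerf
import Groth.Agent.TMul.Assoc
import Groth.Agent.SerrePn.Hypersurface
import Mathlib.AlgebraicGeometry.Morphisms.ClosedImmersion

/-!
`ℰxt¹(Q, N) = Q ⊗ (L ⊗ N)` for `0 → I → O → Q → 0` with `I` invertible of inverse `L`.
-/

set_option autoImplicit false
set_option linter.style.haveILetI false
set_option linter.unusedSectionVars false
set_option backward.isDefEq.respectTransparency false
set_option backward.isDefEq.respectTransparency.types false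

universe u

open CategoryTheory CategoryTheory.Limits AlgebraicGeometry TopologicalSpace Opposite

noncomputable section

namespace Groth.Agent.ExtShX

variable {X : Scheme.{u}} {S : ShortComplex X.Modules} (hS : S.ShortExact) (N : X.Modules)

include hS in
/-- `ℰxt¹(S₃, N)` is the cokernel of restriction when `S₂` is Ext-acyclic. -/
theorem nonempty_firstOne (hmid : ∀ q, IsZero ((R S.X₂ (q + 1)).obj N)) :
    Nonempty ((R S.X₃ 1).obj N ≅ cokernel ((pre S.f).app N)) := by
  let I := injectiveResolution N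
  let T := preCx (S := S) I.cocomplex
  have hT : T.ShortExact := preCx_shortExact hS N
  haveI : Epi (hT.δ 0 1 rfl) := (hT.homology_exact₁ 0 1 rfl).epi_f ((isZero_mid N hmid 0).eq_of_tgt _ _)
  let e : T.X₁.homology 1 ≅ cokernel (HomologicalComplex.homologyMap T.g 0) :=
    (hT.homology_exact₃ 0 1 rfl).gIsCokernel.coconePointUniqueUpToIso (colimit.isColimit _)
  let a₂ : (DCoh.sheafHom S.X₂).obj N ≅ T.X₂.homology 0 :=
    asIso (I.toRightDerivedZero' (DCoh.sheafHom S.X₂)) ≪≫ CochainComplex.isoHomologyπ₀ _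
  let a₁ : (DCoh.sheafHom S.X₁).obj N ≅ T.X₃.homology 0 :=
    asIso (I.toRightDerivedZero' (DCoh.sheafHom S.X₁)) ≪≫ CochainComplex.isoHomologyπ₀ _
  have hc : (pre S.f).app N ≫ I.toRightDerivedZero' (DCoh.sheafHom S.X₁) =
      I.toRightDerivedZero' (DCoh.sheafHom S.X₂) ≫ HomologicalComplex.cyclesMap T.g 0 := by
    rw [← cancel_mono (HomologicalComplex.iCycles _ _), Category.assoc, Category.assoc,
      InjectiveResolution.toRightDerivedZero'_comp_iCycles]
    refine Eq.trans ?_ (congrArg (_ ≫ ·) (HomologicalComplex.cyclesMap_i T.g 0).symm)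
    refine ((pre S.f).naturality (I.ι.f 0)).symm.trans ?_
    refine Eq.trans ?_ (Category.assoc _ _ _)
    exact congrArg (· ≫ T.g.f 0) (I.toRightDerivedZero'_comp_iCycles (DCoh.sheafHom S.X₂)).symm
  refine ⟨I.isoRightDerivedObj _ 1 ≪≫ e ≪≫ (cokernel.mapIso ((pre S.f).app N) (HomologicalComplex.homologyMap T.g 0) a₂ a₁ ?_).symm⟩
  show (pre S.f).app N ≫ I.toRightDerivedZero' _ ≫ (CochainComplex.isoHomologyπ₀ _).hom =
    (I.toRightDerivedZero' _ ≫ (CochainComplex.isoHomologyπ₀ _).hom) ≫ HomologicalComplex.homologyMap T.g 0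
  rw [← Category.assoc, hc, Category.assoc, Category.assoc]
  exact congrArg (_ ≫ ·) (HomologicalComplex.homologyπ_naturality T.g 0).symm

lemma isEquivalence_tensor {F G : X.Modules} (e : CohB1.tensorMod F G ≅ Coh.structureModule X) :
    ((DCoh.tensorBi (X := X)).obj F).IsEquivalence := by
  let e' : ((ModSite.tensorBi X.sheaf).obj F).obj G ≅ ModSite.unit X.sheaf :=
    (W7Flasque.tensorIso G).app F ≪≫ TMul.commIso G F ≪≫ e
  haveI := InvSite.isEquivalence_flip (InvSite.isEquivalence_of_inverse e')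
  exact Functor.isEquivalence_of_iso (W7Flasque.tensorIso F)

include hS in
/-- `ℰxt¹` of the cokernel of an invertible ideal. -/
theorem nonempty_R_one_divisor (e₂ : S.X₂ ≅ Coh.structureModule X) {L : X.Modules}
    (hL : CohB1.tensorMod L S.X₁ ≅ Coh.structureModule X) :
    Nonempty ((R S.X₃ 1).obj N ≅ CohB1.tensorMod S.X₃ (CohB1.tensorMod L N)) := by
  obtain ⟨e⟩ := nonempty_firstOne hS N
    fun q => isZero_of_finLocFree S.X₂ (DQCoh.isFinLocFree_of_iso' e₂.symm (ResDesc.isFinLocFree_structureModule X)) q N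
  let T₁ := (DCoh.tensorBi (X := X)).obj S.X₁
  let T₂ := (DCoh.tensorBi (X := X)).obj S.X₂
  let H₁ := DCoh.sheafHom S.X₁
  let H₂ := DCoh.sheafHom S.X₂
  let a₁ := DCoh.sheafHomAdj S.X₁
  let a₂ := DCoh.sheafHomAdj S.X₂
  haveI : T₁.IsEquivalence := isEquivalence_tensor (TMul.commIso _ _ ≪≫ hL)
  haveI : T₂.IsEquivalence := isEquivalence_tensor (G := Coh.structureModule X)
    (SecTwist.unitorR _ ≪≫ e₂)
  haveI : H₁.IsEquivalence := a₁.isEquivalence_right_of_isEquivalence_left
  haveI : H₂.IsEquivalence := a₂.isEquivalence_right_of_isEquivalence_left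
  let Y := H₂.obj N
  let ε : T₂.obj Y ⟶ N := a₂.counit.app N
  let t : T₁.obj Y ⟶ T₂.obj Y := ((DCoh.tensorBi (X := X)).map S.f).app Y
  have hp : (pre S.f).app N = a₁.unit.app Y ≫ H₁.map (t ≫ ε) := by
    have h := homEquiv_pre S.f ε
    rw [Adjunction.homEquiv_unit, Adjunction.homEquiv_unit] at h
    rw [← h]
    exact ((Category.id_comp _).symm.trans (congrArg (· ≫ (pre S.f).app N) (a₂.right_triangle_components N).symm))
  let G := (DCoh.tensorBi (X := X)).flip.obj Y
  haveI : PreservesColimitsOfSize.{u, u} G := ModSiteTensor.preservesColimits_tensorBi_flip_obj X.sheaf Y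
  haveI : PreservesColimitsOfSize.{0, 0} G := preservesSmallestColimits_of_preservesColimits _
  haveI := preservesBinaryBiproducts_of_preservesBinaryCoproducts G
  haveI := Functor.additive_of_preservesBinaryBiproducts G
  haveI := hS.epi_g
  let eQ : cokernel t ≅ CohB1.tensorMod S.X₃ Y :=
    (PreservesCokernel.iso G S.f).symm ≪≫ G.mapIso ((colimit.isColimit _).coconePointUniqueUpToIso hS.gIsCokernel)
  let Z := CohB1.tensorMod S.X₃ N
  let eY : Y ≅ N := (TMul.leftUnitIso Y).symm ≪≫ PicGrp.tensorModIso e₂.symm (Iso.refl Y) ≪≫ asIso ε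
  let eI : H₁.obj Z ≅ CohB1.tensorMod L Z :=
    H₁.mapIso ((TMul.leftUnitIso Z).symm ≪≫
      PicGrp.tensorModIso (hL.symm ≪≫ TMul.commIso _ _) (Iso.refl Z) ≪≫ TMul.assocIso _ _ _) ≪≫
      (asIso (a₁.unit.app (CohB1.tensorMod L Z))).symm
  exact ⟨e ≪≫ cokernelIsoOfEq hp ≪≫ cokernelEpiComp _ _ ≪≫ (PreservesCokernel.iso H₁ (t ≫ ε)).symm ≪≫
    H₁.mapIso (cokernelCompIsIso t ε ≪≫ eQ ≪≫ PicGrp.tensorModIso (Iso.refl S.X₃) eY) ≪≫ eI ≪≫
    (TMul.assocIso L S.X₃ N).symm ≪≫ PicGrp.tensorModIso (TMul.commIso _ _) (Iso.refl N) ≪≫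
    TMul.assocIso _ _ _⟩

/-- The direct image of the structure sheaf of a closed immersion is the quotient by its ideal. -/
theorem nonempty_quotMod_iso {D : Scheme.{u}} (i : D ⟶ X) [IsClosedImmersion i] :
    Nonempty (ClSub.quotMod i.ker ≅ (Scheme.Modules.pushforward i).obj (Coh.structureModule D)) := by
  haveI : IsIso (ClSub.unitToPush i.toImage) := by
    rw [Scheme.Modules.Hom.isIso_iff_isIso_app]
    intro V
    rw [ConcreteCategory.isIso_iff_bijective]
    exact ConcreteCategory.bijective_of_isIso (i.toImage.app V)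
  exact ⟨(Scheme.Modules.pushforward i.imageι).mapIso (asIso (ClSub.unitToPush i.toImage)) ≪≫
    (Scheme.Modules.pushforwardComp i.toImage i.imageι).app (Coh.structureModule D) ≪≫
    (Scheme.Modules.pushforwardCongr i.toImage_imageι).app _⟩

end Groth.Agent.ExtShX
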