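import Groth.Agent.ExtShX.Resolution
import Groth.Agent.ExtShX.AffineTilde
import Groth.Agent.ExtShX.DualTensor
import Groth.Agent.ResDesc.Dual
import Groth.Agent.DQCoh.Tensor
import Mathlib.Algebra.Module.FinitePresentation

/-!
`ℋom(M~, N~) = Hom(M, N)~` for a finitely presented module over any ring.
-/

set_option autoImplicit false
set_option linter.style.haveILetI false
set_option linter.unusedSectionVars false
set_option backward.isDefEq.respectTransparency false
set_option backward.isDefEq.respectTransparency.types false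

universe u

open CategoryTheory CategoryTheory.Limits AlgebraicGeometry TopologicalSpace Opposite Abelian

noncomputable section

namespace Groth.Agent.ExtShX

variable (A : Type u) [CommRing A]

/-- Finite locally free first argument. -/
lemma isQCoh_sheafHom_locFree {X : Scheme.{u}} {D : X.Modules} (hD : FlatMod.IsFinLocFree D) {N : X.Modules}
    (hN : Coh.IsQCoh N) : Coh.IsQCoh ((DCoh.sheafHom D).obj N) := by
  obtain ⟨e⟩ := nonempty_homDual hD N
  refine QC.isQCoh_of_iso e.symm (DQCoh.isQCoh_tensor hN ?_)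
  exact QC.isQCoh_of_iso ((W7Hull.sheafHomIso D).app (Coh.structureModule X)).symm
    (LocFree.isQCoh_of_isFinLocFree (ResDesc.isFinLocFree_dual hD))

/-- The sheaf Hom out of a finitely presented module is quasi-coherent. -/
theorem isQCoh_sheafHom_tilde (M : ModuleCat.{u} A) [Module.FinitePresentation A M]
    {N : (Spec (CommRingCat.of A)).Modules} (hN : Coh.IsQCoh N) :
    Coh.IsQCoh ((DCoh.sheafHom (tilde (R := CommRingCat.of A) M)).obj N) := by
  obtain ⟨n, π, hπ⟩ := Module.Finite.exists_fin' A M
  obtain ⟨m, ρ, hρ⟩ : ∃ (m : ℕ) (ρ : (Fin m → A) →ₗ[A] (Fin n → A)), LinearMap.range ρ = LinearMap.ker π := by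
    haveI : Module.Finite A (LinearMap.ker π) := Module.Finite.iff_fg.2 (Module.FinitePresentation.fg_ker π hπ)
    obtain ⟨m, q, hq⟩ := Module.Finite.exists_fin' A (LinearMap.ker π)
    exact ⟨m, (LinearMap.ker π).subtype ∘ₗ q, by
      rw [LinearMap.range_comp, LinearMap.range_eq_top.2 hq, Submodule.map_top, Submodule.range_subtype]⟩
  let S : ShortComplex (ModuleCat.{u} A) := ShortComplex.mk (X₁ := ModuleCat.of A (Fin m → A))
    (X₂ := ModuleCat.of A (Fin n → A)) (X₃ := M) (ModuleCat.ofHom ρ) (ModuleCat.ofHom π) (by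
      refine ModuleCat.hom_ext (LinearMap.ext fun x => ?_)
      have h : ρ x ∈ LinearMap.ker π := hρ ▸ LinearMap.mem_range_self ρ x
      exact LinearMap.mem_ker.1 h)
  have hS : S.Exact := ShortComplex.Exact.moduleCat_of_range_eq_ker _ _ hρ
  haveI : Epi S.g := (ModuleCat.epi_iff_surjective _).2 hπ
  let T := S.map (tilde.functor (CommRingCat.of A))
  haveI : Epi T.g := inferInstanceAs (Epi ((tilde.functor (CommRingCat.of A)).map S.g))
  obtain ⟨w, hm, hk⟩ := pre_kernel T (hS.map _) N
  haveI := hm
  have hfree : ∀ k : ℕ, FlatMod.IsFinLocFree (tilde (R := CommRingCat.of A) (ModuleCat.of A (Fin k → A))) := fun k =>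
    DQCoh.isFinLocFree_tilde (A := CommRingCat.of A) _
      ⟨inferInstanceAs (Module.Finite A (Fin k → A)), inferInstanceAs (Module.Projective A (Fin k → A))⟩
  exact QC.isQCoh_of_iso (hk.fIsKernel.conePointUniqueUpToIso (kernelIsKernel _)).symm
    (QC.isQCoh_kernel (isQCoh_sheafHom_locFree (hfree n) hN) (isQCoh_sheafHom_locFree (hfree m) hN) _)

/-- The sheaf Hom of associated modules. -/
theorem nonempty_sheafHom_tilde (M N : ModuleCat.{u} A) [Module.FinitePresentation A M] :
    Nonempty ((DCoh.sheafHom (tilde (R := CommRingCat.of A) M)).obj (tilde (R := CommRingCat.of A) N) ≅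
      tilde (R := CommRingCat.of A) (ModuleCat.of A (M →ₗ[A] N))) := by
  haveI : HasExt.{u + 1} (Spec (CommRingCat.of A)).Modules := HasExt.standard _
  let F := tilde (R := CommRingCat.of A) M
  let G := tilde (R := CommRingCat.of A) N
  let T := (DCoh.sheafHom F).obj G
  haveI : T.IsQuasicoherent := isQCoh_sheafHom_tilde A M (QC.isQCoh_tilde (R := CommRingCat.of A) N)
  let a : (F ⟶ G) ≃ₗ[A] Coh.HH (Spec (CommRingCat.of A)) T 0 :=
    LinearEquiv.ofBijective _ (SerrePn.homEval_bijective A F G)
  let m : (M ⟶ N) ≃ₗ[A] (F ⟶ G) := LinearEquiv.ofBijective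
    ((tilde.functor (CommRingCat.of A)).mapLinearMap A (X := M) (Y := N))
    ((tilde.fullyFaithfulFunctor (R := CommRingCat.of A)).map_bijective M N)
  let l : (moduleSpecΓFunctor (R := CommRingCat.of A)).obj T ≃ₗ[A] (M →ₗ[A] N) :=
    ((hhGamma A T).symm.trans (a.symm.trans m.symm)).trans (ModuleCat.homLinearEquiv (S := A))
  exact ⟨(QC.isoTildeΓ T).symm ≪≫ (tilde.functor (CommRingCat.of A)).mapIso l.toModuleIso⟩

end Groth.Agent.ExtShX
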