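import Groth.Agent.ExtShX.DualAlg
import Groth.Agent.ExtShX.DepthCrit
import Groth.Agent.ExtShX.CodimField
import Groth.Agent.DerPerf.Local
import Groth.Agent.KFlat.ClosedImm

/-!
Stalks of dualizing sheaves `ℰxt^c(ι_* O_X, L)` of closed subschemes of regular schemes.
-/

set_option autoImplicit false
set_option linter.style.haveILetI false
set_option linter.unusedSectionVars false
set_option backward.isDefEq.respectTransparency false
set_option backward.isDefEq.respectTransparency.types false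

universe u

open CategoryTheory CategoryTheory.Limits CategoryTheory.Abelian AlgebraicGeometry TopologicalSpace Opposite
open RingTheory.Sequence

noncomputable section

namespace Groth.Agent.ExtShX

variable {P X : Scheme.{u}} [IsLocallyNoetherian P] (ι : X ⟶ P) [IsClosedImmersion ι]


lemma isCoh_pushOne : Coh.IsCoh ((Scheme.Modules.pushforward ι).obj (Coh.structureModule X)) := by
  haveI : IsLocallyNoetherian X := LocallyOfFiniteType.isLocallyNoetherian ι
  haveI : (Coh.structureModule X).IsQuasicoherent := QC.isQCoh_unit _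
  exact QC.isCoh_pushforward_of_isFinite ι (Devissage.isCoh_unit _).2

/-- The image of one in the stalk of the pushed forward structure sheaf. -/
theorem exists_one (x : X) : ∃ g : (DerSch.stalkFunctor P (ι x)).obj ((Scheme.Modules.pushforward ι).obj (Coh.structureModule X)),
    (∀ r : P.presheaf.stalk (ι x), r • g = 0 ↔ (ι.stalkMap x).hom r = 0) ∧
      Function.Surjective fun r : P.presheaf.stalk (ι x) => r • g := by
  obtain ⟨g, hg⟩ := (KFlat.pushStalk_bijective ι x (Coh.structureModule X)).2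
    (KFlat.oneMap x (1 : X.presheaf.stalk x))
  have hr : ∀ r : P.presheaf.stalk (ι x), KFlat.pushStalk ι x (Coh.structureModule X) (r • g) =
      KFlat.oneMap x ((ι.stalkMap x).hom r) := fun r => by
    rw [KFlat.pushStalk_smul, hg]
    exact ((KFlat.oneMap x).map_smul ((ι.stalkMap x).hom r) 1).symm.trans (by rw [smul_eq_mul, mul_one])
  refine ⟨g, fun r => ⟨fun h => (KFlat.oneMap_bijective x).1 ?_, fun h => ?_⟩, fun z => ?_⟩
  · have h' := hr r
    rw [h, map_zero] at h'
    exact h'.symm.trans (map_zero _).symm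
  · exact (KFlat.pushStalk_bijective ι x _).1 ((hr r).trans (by rw [h, map_zero, map_zero]))
  · obtain ⟨a, ha⟩ := (KFlat.oneMap_bijective x).2 (KFlat.pushStalk ι x (Coh.structureModule X) z)
    obtain ⟨r, rfl⟩ := ι.stalkMap_surjective x a
    exact ⟨r, (KFlat.pushStalk_bijective ι x _).1 ((hr r).trans ha)⟩

variable (L : P.Modules) (hL : FlatMod.IsFinLocFree L) (hreg : ∀ p : P, IsRegularLocalRing (P.presheaf.stalk p))

include hL hreg in
/-- A regular sequence of length the codimension in the ideal of `X`. -/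
theorem exists_regular_ideal (c : ℕ) (hdim : ∀ (x : X) (d : ℕ), ringKrullDim (P.presheaf.stalk (ι x)) = d → c ≤ d)
    (x : X) : ∃ rs : List (P.presheaf.stalk (ι x)), rs.length = c ∧ IsWeaklyRegular (L.presheaf.stalk (ι x)) rs ∧
      (∀ r ∈ rs, ∀ z : (DerSch.stalkFunctor P (ι x)).obj ((Scheme.Modules.pushforward ι).obj (Coh.structureModule X)), r • z = 0) ∧ ∀ r ∈ rs, (ι.stalkMap x).hom r = 0 := by
  obtain ⟨rs, hl, hr, hann⟩ := exists_regular_stalk L ((Scheme.Modules.pushforward ι).obj (Coh.structureModule X))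
    ⟨LocFree.isQCoh_of_isFinLocFree hL, LocFree.isFT_of_isFinLocFree hL⟩ (isCoh_pushOne ι) c (fun y hy => by
      obtain ⟨x, rfl⟩ := ClSubLib.support_pushforward_subset ι _ hy
      haveI := hreg (ι x)
      obtain ⟨d, hd⟩ := SerreReg.exists_dim (P.presheaf.stalk (ι x))
      exact le_depth_regular hL (ι x) hd c (hdim x d hd)) (ι x)
  obtain ⟨g, hg, -⟩ := exists_one ι x
  exact ⟨rs, hl, hr, fun r hr z => Module.mem_annihilator.1 (hann r hr) z,
    fun r hr => (hg r).1 (Module.mem_annihilator.1 (hann r hr) g)⟩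

variable [ModSite.HasSheafHom (O := P.sheaf) ((Scheme.Modules.pushforward ι).obj (Coh.structureModule X))] [HasInjectiveResolutions (ModSite.Mod P.sheaf)]
variable (c : ℕ) {ω : X.Modules}
  (hω : Nonempty ((Scheme.Modules.pushforward ι).obj ω ≅ (ModSite.extSh (O := P.sheaf) ((Scheme.Modules.pushforward ι).obj (Coh.structureModule X)) c).obj L))

include hω in
theorem nonempty_stalk_ext (x : X) : Nonempty ((DerSch.stalkFunctor P (ι x)).obj ((Scheme.Modules.pushforward ι).obj ω) ≅
    ModuleCat.of (P.presheaf.stalk (ι x)) (Ext ((DerSch.stalkFunctor P (ι x)).obj ((Scheme.Modules.pushforward ι).obj (Coh.structureModule X)))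
      ((DerSch.stalkFunctor P (ι x)).obj L) c)) := by
  obtain ⟨e⟩ := hω
  obtain ⟨e'⟩ := nonempty_extShIso ((Scheme.Modules.pushforward ι).obj (Coh.structureModule X)) c L
  obtain ⟨e''⟩ := nonempty_stalk_R ((Scheme.Modules.pushforward ι).obj (Coh.structureModule X)) (isCoh_pushOne ι) (ι x) c L
  exact ⟨(DerSch.stalkFunctor P (ι x)).mapIso (e ≪≫ e') ≪≫ e''⟩

include hL hreg hω in
/-- An element killed by an ideal of grade above the codimension vanishes. -/
theorem eq_zero_of_killed_stalk (hdim : ∀ (x : X) (d : ℕ), ringKrullDim (P.presheaf.stalk (ι x)) = d → c ≤ d) (x : X)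
    (rs' : List (P.presheaf.stalk (ι x))) (hlen : rs'.length = c + 1)
    (hreg' : IsWeaklyRegular (L.presheaf.stalk (ι x)) rs') (m : ω.presheaf.stalk x)
    (h : ∀ r ∈ rs', (ι.stalkMap x).hom r • m = 0) : m = 0 := by
  obtain ⟨rs, hl, hr, hann, -⟩ := exists_regular_ideal ι L hL hreg c hdim x
  obtain ⟨e⟩ := nonempty_stalk_ext ι L c hω x
  obtain ⟨z, rfl⟩ := (KFlat.pushStalk_bijective ι x ω).2 m
  subst hl
  have hz : e.toLinearEquiv z = 0 := eq_zero_of_killed (R := P.presheaf.stalk (ι x)) (((Scheme.Modules.pushforward ι).obj (Coh.structureModule X)).presheaf.stalk (ι x))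
    (L.presheaf.stalk (ι x)) rs rs' hlen hr hreg' hann (e.toLinearEquiv z) fun r hr' =>
      (e.toLinearEquiv.map_smul r z).symm.trans ((congrArg e.toLinearEquiv
        ((KFlat.pushStalk_bijective ι x ω).1
          ((KFlat.pushStalk_smul ι x ω r z).trans ((h r hr').trans (map_zero _).symm)))).trans (map_zero _))
  exact (congrArg (KFlat.pushStalk ι x ω) (e.toLinearEquiv.map_eq_zero_iff.1 hz)).trans (map_zero _)

include hL hreg hω in
/-- Rank one at reduced generic points. -/
theorem nonempty_rank_one (hL1 : FlatMod.IsFinLocFreeOfRank 1 L) (x : X)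
    (hd : ringKrullDim (P.presheaf.stalk (ι x)) = (c : WithBot ℕ∞)) (hfield : IsField (X.presheaf.stalk x)) :
    Nonempty (X.presheaf.stalk x ≃ₗ[X.presheaf.stalk x] ω.presheaf.stalk x) := by
  haveI := hreg (ι x)
  let R := P.presheaf.stalk (ι x)
  let m := IsLocalRing.maximalIdeal R
  have hker : ∀ r : R, (ι.stalkMap x).hom r = 0 ↔ r ∈ m := fun r => by
    rw [IsLocalRing.mem_maximalIdeal, mem_nonunits_iff]
    constructor
    · intro h0 hu
      haveI := hfield.nontrivial
      exact not_isUnit_zero (h0 ▸ hu.map (ι.stalkMap x).hom)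
    · intro hu
      by_contra h0
      obtain ⟨b, hb⟩ := hfield.mul_inv_cancel h0
      exact hu (isUnit_of_map_unit (ι.stalkMap x).hom r (IsUnit.of_mul_eq_one b hb))
  obtain ⟨g, hg, hs⟩ := exists_one ι x
  let f := LinearMap.toSpanSingleton R ((DerSch.stalkFunctor P (ι x)).obj ((Scheme.Modules.pushforward ι).obj (Coh.structureModule X))) g
  have hf : LinearMap.ker f = m := Submodule.ext fun r => by
    rw [LinearMap.mem_ker, LinearMap.toSpanSingleton_apply, hg, hker]
  let eN : ((DerSch.stalkFunctor P (ι x)).obj ((Scheme.Modules.pushforward ι).obj (Coh.structureModule X))) ≃ₗ[R] R ⧸ m :=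
    ((Submodule.quotEquivOfEq _ _ hf.symm).trans (f.quotKerEquivOfSurjective hs)).symm
  obtain ⟨U, hxU, ⟨eU⟩⟩ := hL1 (ι x)
  obtain ⟨b⟩ := LocFree.exists_basis_stalk eU (LocFree.isQCoh_of_isFinLocFree hL) hxU
  let eM : L.presheaf.stalk (ι x) ≃ₗ[R] R := b.equivFun.trans (LinearEquiv.funUnique _ R R)
  obtain ⟨eE⟩ := nonempty_ext_residue (R := R) c hd ((DerSch.stalkFunctor P (ι x)).obj ((Scheme.Modules.pushforward ι).obj (Coh.structureModule X))) eN _ eM
  obtain ⟨e⟩ := nonempty_stalk_ext ι L c hω x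
  let Φ := e.toLinearEquiv.trans eE
  let v := KFlat.pushStalk ι x ω (Φ.symm (Ideal.Quotient.mk m 1))
  have hv : ∀ r : R, (ι.stalkMap x).hom r • v = KFlat.pushStalk ι x ω (Φ.symm (Ideal.Quotient.mk m r)) := fun r => by
    refine (KFlat.pushStalk_smul ι x ω r _).symm.trans (congrArg _ ((Φ.symm.map_smul r _).symm.trans (congrArg Φ.symm ?_)))
    show Ideal.Quotient.mk m (r * 1) = _
    rw [mul_one]
  refine ⟨LinearEquiv.ofBijective (LinearMap.toSpanSingleton (X.presheaf.stalk x) (ω.presheaf.stalk x) v)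
    ⟨(injective_iff_map_eq_zero _).2 fun a ha => ?_, fun w => ?_⟩⟩
  · obtain ⟨r, rfl⟩ := ι.stalkMap_surjective x a
    rw [LinearMap.toSpanSingleton_apply, hv] at ha
    have h1 := (KFlat.pushStalk_bijective ι x ω).1 (ha.trans (map_zero _).symm)
    exact (hker r).2 (Ideal.Quotient.eq_zero_iff_mem.1 (Φ.symm.map_eq_zero_iff.1 h1))
  · obtain ⟨z, rfl⟩ := (KFlat.pushStalk_bijective ι x ω).2 w
    obtain ⟨r, hr⟩ := Ideal.Quotient.mk_surjective (Φ z)
    exact ⟨(ι.stalkMap x).hom r, by rw [LinearMap.toSpanSingleton_apply, hv, hr, LinearEquiv.symm_apply_apply]⟩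

end Groth.Agent.ExtShX

namespace Groth.Agent.ExtShX

variable {X : Scheme.{u}}

theorem eq_of_specializes_component {η z : X} (hη : closure ({η} : Set X) ∈ irreducibleComponents ↥X) (h : z ⤳ η) :
    z = η :=
  (h.antisymm (specializes_iff_mem_closure.2
    (hη.2 isIrreducible_singleton.closure (specializes_iff_closure_subset.1 h) (subset_closure rfl)))).eq

theorem isField_stalk_component {η : X} (hη : closure ({η} : Set X) ∈ irreducibleComponents ↥X)
    [_root_.IsReduced (X.presheaf.stalk η)] : IsField (X.presheaf.stalk η) := by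
  haveI : Ring.KrullDimLE 0 (X.presheaf.stalk η) := by
    rw [Ring.krullDimLE_iff, ringKrullDim_stalk_eq_coheight η, Order.coheight_eq_zero.2 fun z hz =>
      (eq_of_specializes_component hη (Scheme.le_iff_specializes.1 hz)).le]
    rfl
  exact Ring.KrullDimLE.isField_of_isReduced

/-- A morphism vanishing near `x` vanishes on the stalk. -/
theorem stalkMap_eq_zero {F G : X.Modules} (φ : F ⟶ G) {U : X.Opens} {x : X} (hxU : x ∈ U)
    (hU : (Scheme.Modules.restrictFunctor U.ι).map φ = 0) (t : (DerSch.stalkFunctor X x).obj F) :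
    ((DerSch.stalkFunctor X x).map φ).hom t = 0 := by
  obtain ⟨V, hxV, s, rfl⟩ := KFlat.exists_pgerm (DCoh.toP.obj F) x t
  let W : X.Opens := U.ι ''ᵁ (U.ι ⁻¹ᵁ V)
  have hWV : W ≤ V := (U.ι.image_preimage_eq_opensRange_inf V).le.trans inf_le_right
  have hxW : x ∈ W := ⟨⟨x, hxU⟩, hxV, rfl⟩
  rw [← KFlat.pgerm_res _ x hWV hxW s]
  refine (KFlat.pstMap_germ (DCoh.toP.map φ) x hxW _).trans ?_
  have h2 : ((DCoh.toP.map φ).app (op W)).hom (KFlat.pres (DCoh.toP.obj F) hWV s) = 0 :=
    congrArg (fun g : (Scheme.Modules.restrictFunctor U.ι).obj F ⟶ (Scheme.Modules.restrictFunctor U.ι).obj G =>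
      g.app (U.ι ⁻¹ᵁ V) (KFlat.pres (DCoh.toP.obj F) hWV s)) hU
  exact (congrArg _ h2).trans (map_zero _)

/-- A morphism vanishing on all stalks is zero. -/
theorem eq_zero_of_stalkMap {F G : X.Modules} (φ : F ⟶ G)
    (h : ∀ (x : X) (t : (DerSch.stalkFunctor X x).obj F), ((DerSch.stalkFunctor X x).map φ).hom t = 0) : φ = 0 := by
  refine Scheme.Modules.hom_ext _ _ fun U => ?_
  ext s
  refine TopCat.Presheaf.section_ext (⟨G.presheaf, G.isSheaf⟩ : TopCat.Sheaf AddCommGrpCat X) U _ _ fun x hx => ?_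
  exact ((KFlat.pstMap_germ (DCoh.toP.map φ) x hx s).symm.trans (h x _)).trans (map_zero _).symm

end Groth.Agent.ExtShX
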