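import Groth.Agent.SerrePn.SheafHomExt
import Groth.Agent.GrothSS.Ext
import Groth.Agent.CmpSite.Shift
import Groth.Agent.ModSiteFree.Basic
import Groth.Prelude.Def_ModSite2

/-!
The sheaves `ℰxt` on a scheme: the long exact sequence in the first variable.
-/

set_option autoImplicit false
set_option linter.style.haveILetI false
set_option linter.unusedSectionVars false
set_option backward.isDefEq.respectTransparency false
set_option backward.isDefEq.respectTransparency.types false

universe u

open CategoryTheory CategoryTheory.Limits AlgebraicGeometry TopologicalSpace Opposite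

noncomputable section

namespace Groth.Agent.ExtShX

variable {X : Scheme.{u}}

instance enoughInj : EnoughInjectives X.Modules := SerrePn.enoughInjectives

instance hasSheafHom (F : X.Modules) : DCoh.HasSheafHom F := W7Hull.hasSheafHom_sch F

instance additive_sheafHom (F : X.Modules) : (DCoh.sheafHom F).Additive :=
  (DCoh.sheafHomAdj F).right_adjoint_additive

instance preservesFiniteLimits_sheafHom (F : X.Modules) : PreservesFiniteLimits (DCoh.sheafHom F) :=
  haveI : PreservesLimitsOfSize.{0, 0} (DCoh.sheafHom F) := (DCoh.sheafHomAdj F).rightAdjoint_preservesLimits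
  inferInstance

/-- The Ext sheaves. -/
abbrev R (F : X.Modules) (q : ℕ) : X.Modules ⥤ X.Modules := (DCoh.sheafHom F).rightDerived q

/-- The prelude's Ext sheaves are `R`. -/
theorem nonempty_extShIso (F : X.Modules) [ModSite.HasSheafHom (O := X.sheaf) F]
    [HasInjectiveResolutions (ModSite.Mod X.sheaf)] (q : ℕ) (N : X.Modules) :
    Nonempty ((ModSite.extSh (O := X.sheaf) F q).obj N ≅ (R F q).obj N) := by
  let e : @Iso (X.Modules ⥤ X.Modules) _ (ModSite.sheafHom (O := X.sheaf) F) (DCoh.sheafHom F) :=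
    (ModSite.sheafHomAdj (O := X.sheaf) F).rightAdjointUniq
      ((DCoh.sheafHomAdj F).ofNatIsoLeft (W7Flasque.tensorIso F).symm)
  haveI : @Functor.Additive X.Modules X.Modules _ _ _ _ (ModSite.sheafHom (O := X.sheaf) F) :=
    ModSite.sheafHom_additive (O := X.sheaf) F
  haveI : @Functor.Additive X.Modules X.Modules _ _ _ _ (DCoh.sheafHom F) := additive_sheafHom F
  exact ⟨(GrothSS.rightDerivedMapIso (C := X.Modules) (D := X.Modules) e q).app N⟩

/-- Degree zero. -/
def zeroIso (F N : X.Modules) : (R F 0).obj N ≅ (DCoh.sheafHom F).obj N :=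
  (DCoh.sheafHom F).rightDerivedZeroIsoSelf.app N

/-- An injective presentation. -/
abbrev injSeq (N : X.Modules) : ShortComplex X.Modules :=
  ShortComplex.mk (Injective.ι N) (cokernel.π _) (cokernel.condition _)

lemma injSeq_shortExact (N : X.Modules) : (injSeq N).ShortExact :=
  { exact := ShortComplex.exact_cokernel _ }

instance (N : X.Modules) : Injective (injSeq N).X₂ := inferInstanceAs (Injective (Injective.under N))

theorem nonempty_shiftIso (F N : X.Modules) (q : ℕ) :
    Nonempty ((R F (q + 2)).obj N ≅ (R F (q + 1)).obj (injSeq N).X₃) :=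
  CmpSite.rightDerived_shift (DCoh.sheafHom F) (injSeq_shortExact N) q

theorem nonempty_oneIso (F N : X.Modules) :
    Nonempty ((R F 1).obj N ≅ cokernel ((DCoh.sheafHom F).map (injSeq N).g)) :=
  CmpSite.rightDerived_one (DCoh.sheafHom F) (injSeq_shortExact N)

/-- Finite locally free modules have no higher Ext sheaves. -/
theorem isZero_of_finLocFree (F : X.Modules) (hF : FlatMod.IsFinLocFree F) (q : ℕ) :
    ∀ N : X.Modules, IsZero ((R F (q + 1)).obj N) := by
  induction q with
  | zero =>
    intro N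
    haveI : (DCoh.sheafHom F).PreservesEpimorphisms := W7Hull.preservesEpi_sheafHom F hF
    haveI : Epi ((DCoh.sheafHom F).map (injSeq N).g) :=
      haveI : Epi (injSeq N).g := inferInstanceAs (Epi (cokernel.π _))
      (DCoh.sheafHom F).map_epi _
    obtain ⟨e⟩ := nonempty_oneIso F N
    exact (isZero_cokernel_of_epi _).of_iso e
  | succ q ih =>
    intro N
    obtain ⟨e⟩ := nonempty_shiftIso F N q
    exact (ih _).of_iso e

section First

variable {F F' : X.Modules}

/-- Functoriality in the first variable. -/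
def pre (φ : F ⟶ F') : DCoh.sheafHom F' ⟶ DCoh.sheafHom F :=
  conjugateEquiv (DCoh.sheafHomAdj F') (DCoh.sheafHomAdj F) ((DCoh.tensorBi (X := X)).map φ)

lemma homEquiv_pre (φ : F ⟶ F') {Y I : X.Modules} (g : ((DCoh.tensorBi (X := X)).obj F').obj Y ⟶ I) :
    (DCoh.sheafHomAdj F').homEquiv Y I g ≫ (pre φ).app I =
      (DCoh.sheafHomAdj F).homEquiv Y I (((DCoh.tensorBi (X := X)).map φ).app Y ≫ g) := by
  rw [Adjunction.homEquiv_unit, Adjunction.homEquiv_unit, Category.assoc, (pre φ).naturality g,
    ← Category.assoc, Functor.map_comp, ← Category.assoc]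
  exact congrArg (· ≫ (DCoh.sheafHom F).map g)
    (unit_conjugateEquiv (DCoh.sheafHomAdj F') (DCoh.sheafHomAdj F) _ Y)

variable {S : ShortComplex X.Modules} (hS : S.ShortExact)

lemma pre_comp_zero (N : X.Modules) : (pre S.g).app N ≫ (pre S.f).app N = 0 := by
  let a := DCoh.sheafHomAdj S.X₃
  obtain ⟨g, hg⟩ := (a.homEquiv _ N).surjective (𝟙 _)
  rw [← Category.id_comp ((pre S.g).app N), ← hg, homEquiv_pre, homEquiv_pre]
  rw [← Category.assoc, ← NatTrans.comp_app, ← Functor.map_comp, S.zero, Functor.map_zero]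
  exact ((congrArg _ (show (0 : ((DCoh.tensorBi (X := X)).obj S.X₁) ⟶ ((DCoh.tensorBi (X := X)).obj S.X₃)).app _ ≫ g = 0
    from zero_comp))).trans ((DCoh.sheafHomAdj S.X₁).homAddEquiv _ N).map_zero

include hS in
theorem shortExact_pre (I : X.Modules) [Injective I] :
    (ShortComplex.mk ((pre S.g).app I) ((pre S.f).app I) (pre_comp_zero I)).ShortExact := by
  haveI hpc : ∀ Y : X.Modules, PreservesFiniteColimits ((DCoh.tensorBi (X := X)).flip.obj Y) := fun Y => by
    haveI : PreservesColimitsOfSize.{u, u} ((DCoh.tensorBi (X := X)).flip.obj Y) :=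
      ModSiteTensor.preservesColimits_tensorBi_flip_obj X.sheaf Y
    haveI : PreservesColimitsOfSize.{0, 0} ((DCoh.tensorBi (X := X)).flip.obj Y) :=
      preservesSmallestColimits_of_preservesColimits _
    infer_instance
  haveI := hS.epi_g
  have hT : ∀ Y : X.Modules, ∃ w, (ShortComplex.mk (((DCoh.tensorBi (X := X)).map S.f).app Y)
      (((DCoh.tensorBi (X := X)).map S.g).app Y) w).Exact ∧ Epi (((DCoh.tensorBi (X := X)).map S.g).app Y) := fun Y => by
    haveI := hpc Y
    let G := (DCoh.tensorBi (X := X)).flip.obj Y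
    haveI := preservesBinaryBiproducts_of_preservesBinaryCoproducts G
    haveI := Functor.additive_of_preservesBinaryBiproducts G
    exact ⟨_, ShortComplex.exact_of_g_is_cokernel (S.map G) (CokernelCofork.mapIsColimit _ hS.gIsCokernel G),
      inferInstanceAs (Epi (((DCoh.tensorBi (X := X)).flip.obj Y).map S.g))⟩
  haveI hmono : Mono ((pre S.g).app I) := by
    refine Preadditive.mono_of_cancel_zero _ fun {Y} y hy => ?_
    obtain ⟨g, rfl⟩ := ((DCoh.sheafHomAdj S.X₃).homEquiv Y I).surjective y
    rw [homEquiv_pre] at hy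
    have h0 := ((DCoh.sheafHomAdj S.X₂).homAddEquiv Y I).injective (hy.trans (map_zero _).symm)
    obtain ⟨w, -, he⟩ := hT Y
    rw [(cancel_epi (((DCoh.tensorBi (X := X)).map S.g).app Y)).1 (h0.trans comp_zero.symm)]
    exact ((DCoh.sheafHomAdj S.X₃).homAddEquiv Y I).map_zero
  refine { exact := ShortComplex.exact_of_f_is_kernel _ (KernelFork.IsLimit.ofι' _ _ fun {Y} y hy => ?_),
           epi_g := ?_ }
  · refine Classical.indefiniteDescription _ ?_
    obtain ⟨g, rfl⟩ := ((DCoh.sheafHomAdj S.X₂).homEquiv Y I).surjective y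
    rw [homEquiv_pre] at hy
    have h0 := ((DCoh.sheafHomAdj S.X₁).homAddEquiv Y I).injective (hy.trans (map_zero _).symm)
    obtain ⟨w, hex, he⟩ := hT Y
    obtain ⟨g', hg'⟩ : ∃ g', ((DCoh.tensorBi (X := X)).map S.g).app Y ≫ g' = g :=
      haveI : Epi (ShortComplex.mk _ _ w).g := he
      ⟨hex.desc g h0, hex.g_desc g h0⟩
    exact ⟨(DCoh.sheafHomAdj S.X₃).homEquiv Y I g', by rw [homEquiv_pre, hg']⟩
  · refine Abelian.epi_of_cokernel_π_eq_zero _ ?_
    refine ModSiteFree.isSeparating_freeOn (O := X.sheaf) (Set.univ : Set (X.Opens))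
      (fun U => ⟨PUnit, fun _ => U, fun _ => 𝟙 U, ?_, fun _ => trivial⟩) _ _ fun Z hZ y => ?_
    · refine (Opens.grothendieckTopology X).superset_covering ?_ ((Opens.grothendieckTopology X).top_mem U)
      exact fun V f _ => ⟨U, f, 𝟙 U, ⟨PUnit.unit⟩, Category.comp_id f⟩
    obtain ⟨⟨U, hU⟩⟩ := hZ
    obtain ⟨g, rfl⟩ := ((DCoh.sheafHomAdj S.X₁).homEquiv _ I).surjective y
    haveI : PreservesFiniteLimits ((DCoh.tensorBi (X := X)).flip.obj (ModSite.freeOn X.sheaf U)) :=
      (ModSiteFree.isFlat_freeOn (O := X.sheaf) U).1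
    haveI := hS.mono_f
    haveI : Mono (((DCoh.tensorBi (X := X)).map S.f).app (ModSite.freeOn X.sheaf U)) :=
      inferInstanceAs (Mono (((DCoh.tensorBi (X := X)).flip.obj (ModSite.freeOn X.sheaf U)).map S.f))
    obtain ⟨g', hg'⟩ := Injective.factors g (((DCoh.tensorBi (X := X)).map S.f).app (ModSite.freeOn X.sheaf U))
    have h := homEquiv_pre S.f g'
    rw [hg'] at h
    rw [← h, comp_zero, Category.assoc, cokernel.condition, comp_zero]

/-- The short exact sequence of complexes. -/
def preCx (J : CochainComplex X.Modules ℕ) : ShortComplex (CochainComplex X.Modules ℕ) :=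
  ShortComplex.mk ((NatTrans.mapHomologicalComplex (pre S.g) (ComplexShape.up ℕ)).app J)
    ((NatTrans.mapHomologicalComplex (pre S.f) (ComplexShape.up ℕ)).app J) (by
      exact HomologicalComplex.Hom.ext (funext fun n => pre_comp_zero (S := S) (J.X n)))

include hS in
theorem preCx_shortExact (N : X.Modules) : (preCx (S := S) (injectiveResolution N).cocomplex).ShortExact :=
  HomologicalComplex.shortExact_of_degreewise_shortExact _ fun n =>
    haveI := (injectiveResolution N).injective n
    shortExact_pre hS _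

variable (N : X.Modules) (hmid : ∀ q, IsZero ((R S.X₂ (q + 1)).obj N))

include hmid in
lemma isZero_mid (q : ℕ) : IsZero ((preCx (S := S) (injectiveResolution N).cocomplex).X₂.homology (q + 1)) :=
  (hmid q).of_iso ((injectiveResolution N).isoRightDerivedObj _ (q + 1)).symm

include hS hmid in
theorem nonempty_firstShift (q : ℕ) : Nonempty ((R S.X₃ (q + 2)).obj N ≅ (R S.X₁ (q + 1)).obj N) :=
  ⟨(injectiveResolution N).isoRightDerivedObj _ (q + 2) ≪≫
    ((preCx_shortExact hS N).δIso (q + 1) (q + 2) rfl (isZero_mid N hmid q) (isZero_mid N hmid (q + 1))).symm ≪≫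
    ((injectiveResolution N).isoRightDerivedObj _ (q + 1)).symm⟩

include hS hmid in
theorem exists_firstOne : ∃ f : (R S.X₂ 0).obj N ⟶ (R S.X₁ 0).obj N,
    Nonempty ((R S.X₃ 1).obj N ≅ cokernel f) := by
  let I := injectiveResolution N
  let T := preCx (S := S) I.cocomplex
  have hT : T.ShortExact := preCx_shortExact hS N
  haveI : Epi (hT.δ 0 1 rfl) := (hT.homology_exact₁ 0 1 rfl).epi_f ((isZero_mid N hmid 0).eq_of_tgt _ _)
  have hc := (hT.homology_exact₃ 0 1 rfl).gIsCokernel
  refine ⟨(I.isoRightDerivedObj (DCoh.sheafHom S.X₂) 0).hom ≫ HomologicalComplex.homologyMap T.g 0 ≫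
    (I.isoRightDerivedObj (DCoh.sheafHom S.X₁) 0).inv, ⟨?_⟩⟩
  let e : T.X₁.homology 1 ≅ cokernel (HomologicalComplex.homologyMap T.g 0) :=
    hc.coconePointUniqueUpToIso (colimit.isColimit _)
  exact I.isoRightDerivedObj _ 1 ≪≫ e ≪≫ cokernel.mapIso _ _ (I.isoRightDerivedObj (DCoh.sheafHom S.X₂) 0).symm
    (I.isoRightDerivedObj (DCoh.sheafHom S.X₁) 0).symm (by
      simp only [Iso.symm_hom]
      rw [Iso.inv_hom_id_assoc])

end First

end Groth.Agent.ExtShX
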