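import Groth.Agent.ExtShX.PnVanish
import Groth.Agent.SerrePn.ClosedStatements

/-!
The Ext sheaves of a closed subscheme of projective space into `ω`.
-/

set_option autoImplicit false
set_option linter.style.haveILetI false
set_option linter.unusedSectionVars false
set_option backward.isDefEq.respectTransparency false
set_option backward.isDefEq.respectTransparency.types false

universe u

open CategoryTheory CategoryTheory.Limits AlgebraicGeometry TopologicalSpace Opposite Abelian
open Groth.Agent.SerrePn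

noncomputable section

namespace Groth.Agent.ExtShX

variable {k : Type u} [Field k] {N : ℕ} {X : Scheme.{u}} (f : X ⟶ CohB1.ProjSpace N k) [IsClosedImmersion f]

/-- The pushforward of the structure sheaf. -/
abbrev pO : (CohB1.ProjSpace N k).Modules := (Scheme.Modules.pushforward f).obj (Coh.structureModule X)

lemma isCoh_pO : Coh.IsCoh (pO f) := by
  haveI := CohFinite.isNoetherian_projSpace N k
  haveI := isLocallyNoetherian_of_immersion f
  exact isCoh_push f RefStalk.isCoh_structureModule

/-- `Van` in terms of the twists on `X`. -/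
lemma van_pO_iff (p : ℕ) : Van (pO f) p ↔
    ∃ m₀ : ℤ, ∀ m : ℤ, m₀ ≤ m → Subsingleton (Coh.HH X (Lx f (-m)) p) := by
  haveI := CohFinite.isNoetherian_projSpace N k
  haveI := isLocallyNoetherian_of_immersion f
  letI : X.Over (Spec (CommRingCat.of k)) := ⟨f ≫ CohB1.ProjSpace.toSpec N k⟩
  have key : ∀ m : ℤ, Subsingleton (Coh.HH X (Lx f (-m)) p) ↔
      Subsingleton (Coh.HH (CohB1.ProjSpace N k) (CohB1.tensorMod (pO f) (Om k N (-m))) p) := fun m => by
    refine Iff.trans ⟨fun h => ?_, fun h => ?_⟩ (hh_twist_iff f rfl _ RefStalk.isCoh_structureModule (-m) p)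
    · exact CohQC.hh_subsingleton_of_iso (TMul.leftUnitIso (Lx f (-m))).symm p h
    · exact CohQC.hh_subsingleton_of_iso (TMul.leftUnitIso (Lx f (-m))) p h
  exact ⟨fun ⟨m₀, h⟩ => ⟨m₀, fun m hm => (key m).2 (h m hm)⟩, fun ⟨m₀, h⟩ => ⟨m₀, fun m hm => (key m).1 (h m hm)⟩⟩

include f in
lemma noetherianSpace_X : NoetherianSpace X := by
  haveI := CohFinite.isNoetherian_projSpace N k
  exact f.isClosedEmbedding.isInducing.noetherianSpace

lemma van_above_dim (e : ℕ) (he : topologicalKrullDim ↥X ≤ e) (p : ℕ) (hp : e < p) : Van (pO f) p := by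
  haveI := noetherianSpace_X f
  refine (van_pO_iff f p).2 ⟨0, fun m _ => ?_⟩
  refine RegCx.subsingleton_hh_of_supported isClosed_univ e ?_ _ (fun x hx => absurd (Set.mem_univ x) hx) p hp
  exact (IsHomeomorph.topologicalKrullDim_eq _ (Homeomorph.Set.univ ↥X).isHomeomorph).le.trans he

lemma isZero_pO_of_empty [IsEmpty ↥X] : IsZero (pO f) := by
  refine Functor.map_isZero _ ((IsZero.iff_id_eq_zero _).2 (Scheme.Modules.hom_ext _ _ fun U => ?_))
  ext s
  exact W7Hull.section_ext _ _ fun x _ => (IsEmpty.false x).elim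

lemma dim_le_sub {r : ℕ} (hr : topologicalKrullDim ↥X + (r : WithBot ℕ∞) ≤ (N : WithBot ℕ∞)) :
    topologicalKrullDim ↥X ≤ ((N - r : ℕ) : WithBot ℕ∞) := by
  induction h : topologicalKrullDim ↥X using WithBot.recBotCoe with
  | bot => exact bot_le
  | coe a =>
    rw [h] at hr
    induction a using ENat.recTopCoe with
    | top =>
      exfalso
      have : ((⊤ : ℕ∞) : WithBot ℕ∞) + (r : ℕ) = ((⊤ : ℕ∞) : WithBot ℕ∞) := by norm_cast
      rw [this] at hr
      exact absurd (WithBot.coe_le_coe.1 hr) (by simp)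
    | coe a =>
      have : a + r ≤ N := by exact_mod_cast hr
      exact WithBot.coe_le_coe.2 (ENat.coe_le_coe.2 (by omega : a ≤ N - r))

variable [HasExt.{u} (CohB1.ProjSpace N k).Modules]

/-- Vanishing below the codimension. -/
theorem isZero_below (r : ℕ) (hr : topologicalKrullDim ↥X + (r : WithBot ℕ∞) ≤ (N : WithBot ℕ∞))
    (i : ℕ) (hi : i < r) : IsZero ((R (pO f) i).obj (om k N)) := by
  rcases lt_trichotomy i N with h | h | h
  · exact (isZero_iff_van _ (isCoh_pO f) (N - i) i (by omega)).2
      (van_above_dim f (N - r) (dim_le_sub hr) (N - i) (by omega))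
  · subst h
    refine (isZero_iff_van _ (isCoh_pO f) 0 i (by omega)).2 ⟨0, fun m _ => ?_⟩
    haveI : IsEmpty ↥X := by
      by_contra hne
      rw [not_isEmpty_iff] at hne
      obtain ⟨x⟩ := hne
      haveI : Nonempty (IrreducibleCloseds ↥X) :=
        ⟨⟨closure {x}, isIrreducible_singleton.closure, isClosed_closure⟩⟩
      have h0 : (0 : WithBot ℕ∞) ≤ topologicalKrullDim ↥X := Order.krullDim_nonneg
      have : ((r : ℕ) : WithBot ℕ∞) ≤ (i : WithBot ℕ∞) := le_trans (le_add_of_nonneg_left h0) hr
      have : r ≤ i := by exact_mod_cast this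
      omega
    exact hh_sub_of_isZero (isZero_tensor (isZero_pO_of_empty f) _) 0
  · exact isZero_above _ (isCoh_pO f) i h

end Groth.Agent.ExtShX
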