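import Groth.Agent.ExtShX.Restrict
import Groth.Agent.ExtShX.Coh
import Groth.Agent.QC.AffineSpec
import Groth.Agent.QC.Pullback
import Groth.Agent.K0Coh.Basic
import Groth.Agent.K0Coh.Regular
import Groth.Agent.DQCoh.AffinePerf

/-!
Ext sheaves of coherent modules are coherent.
-/

set_option autoImplicit false
set_option linter.style.haveILetI false
set_option linter.unusedSectionVars false
set_option backward.isDefEq.respectTransparency false
set_option backward.isDefEq.respectTransparency.types false

universe u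

open CategoryTheory CategoryTheory.Limits AlgebraicGeometry TopologicalSpace Opposite

noncomputable section

namespace Groth.Agent.ExtShX

lemma exists_epi_fin (A : CommRingCat.{u}) (N : ModuleCat.{u} A) (_ : Module.Finite A N) :
    ∃ (n : ℕ) (g : ModuleCat.of A (Fin n → A) ⟶ N), Epi g := by
  obtain ⟨n, p, hp⟩ := Module.Finite.exists_fin' A N
  exact ⟨n, ModuleCat.ofHom p, (ModuleCat.epi_iff_surjective _).2 hp⟩

lemma covers_spec (A : CommRingCat.{u}) [IsNoetherianRing A] : Covers (Spec A) := by
  intro F hF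
  haveI : F.IsQuasicoherent := hF.1
  let N := (moduleSpecΓFunctor (R := A)).obj F
  haveI : Module.Finite A N := K0Coh.finite_gamma hF
  obtain ⟨n, g, hg⟩ := exists_epi_fin A N this
  haveI := hg
  haveI : PreservesColimitsOfSize.{u, u} (tilde.functor A) := tilde.adjunction.leftAdjoint_preservesColimits
  haveI : PreservesColimitsOfSize.{0, 0} (tilde.functor A) := preservesSmallestColimits_of_preservesColimits _
  haveI : Epi (tilde.map g) := inferInstanceAs (Epi ((tilde.functor A).map g))
  exact ⟨_, tilde.map g ≫ (QC.isoTildeΓ F).hom,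
    DQCoh.isFinLocFree_tilde (A := A) _ ⟨inferInstanceAs (Module.Finite A (Fin n → A)),
      inferInstanceAs (Module.Projective A (Fin n → A))⟩, epi_comp _ _⟩

lemma covers_of_iso {X Y : Scheme.{u}} (e : X ≅ Y) (h : Covers Y) : Covers X := by
  intro F hF
  obtain ⟨L, p, hL, hp⟩ := h _ (QC.isCoh_pullback e.inv hF)
  let P := Scheme.Modules.pullback e.hom
  haveI : PreservesColimitsOfSize.{u, u} P :=
    (Scheme.Modules.pullbackPushforwardAdjunction e.hom).leftAdjoint_preservesColimits
  haveI : PreservesColimitsOfSize.{0, 0} P := preservesSmallestColimits_of_preservesColimits _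
  haveI := hp
  let i : P.obj ((Scheme.Modules.pullback e.inv).obj F) ≅ F :=
    (Scheme.Modules.pullbackComp e.hom e.inv).app F ≪≫
      (Scheme.Modules.pullbackCongr e.hom_inv_id).app F ≪≫ (Scheme.Modules.pullbackId X).app F
  exact ⟨_, P.map p ≫ i.hom, DerPerf.isFinLocFree_pullback e.hom hL, epi_comp _ _⟩

lemma covers_affine (X : Scheme.{u}) [IsAffine X] [IsLocallyNoetherian X] : Covers X := by
  haveI : IsNoetherianRing Γ(X, ⊤) := IsLocallyNoetherian.component_noetherian ⟨⊤, isAffineOpen_top X⟩
  exact covers_of_iso X.isoSpec (covers_spec Γ(X, ⊤))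

/-- The Ext sheaves of coherent modules on a locally Noetherian scheme are coherent. -/
theorem isCoh_R_loc {X : Scheme.{u}} [IsLocallyNoetherian X] (F N : X.Modules) (hF : Coh.IsCoh F)
    (hN : Coh.IsCoh N) (q : ℕ) : Coh.IsCoh ((R F q).obj N) := by
  refine K0Coh.isCoh_of_local fun x => ?_
  obtain ⟨U, hU, hx⟩ := QC.exists_affine_mem x
  haveI : IsAffine (U : Scheme.{u}) := hU
  obtain ⟨e⟩ := nonempty_R_restrict U F q
  exact ⟨U, hx, CohFinite.isCoh_of_iso
    ((e.app N).symm ≪≫ ((Scheme.Modules.restrictFunctorIsoPullback U.ι).app _).symm)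
    (isCoh_R (covers_affine (U : Scheme.{u})) q _ _ (QC.isCoh_pullback U.ι hF) (QC.isCoh_pullback U.ι hN))⟩

end Groth.Agent.ExtShX
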