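import Groth.Agent.GrGor.ExtReg
import Groth.Agent.LocH.Depth
import Groth.Agent.SerreReg.Descent
import Groth.Agent.SerreReg.MiracleFinite
import Groth.Agent.CMFlat.Quotient
import Groth.Agent.SerrePn.ClosedDepth
import Groth.Agent.EGA41CM.Basic

/-!
Torsion and rank of `Ext^c(N, R)` for modules `N` of grade `c` over regular local rings.
-/

set_option autoImplicit false
set_option linter.style.haveILetI false

universe u

open CategoryTheory Abelian RingTheory.Sequence

namespace Groth.Agent.ExtShX

/-- Elements of `Ext^c` killed by an ideal of grade above `c` vanish. -/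
theorem eq_zero_of_killed {R : Type u} [CommRing R] (N M : Type u) [AddCommGroup N] [Module R N] [AddCommGroup M]
    [Module R M] (rs rs' : List R) (hlen : rs'.length = rs.length + 1) (hreg : IsWeaklyRegular M rs)
    (hreg' : IsWeaklyRegular M rs') (hN : ∀ r ∈ rs, ∀ x : N, r • x = 0)
    (e : Ext (ModuleCat.of R N) (ModuleCat.of R M) rs.length) (he : ∀ r ∈ rs', r • e = 0) : e = 0 := by
  obtain ⟨-, ⟨Φ⟩⟩ := GrGor.ext_of_regular rs M hreg hN
  let K : Ideal R := Ideal.ofList rs ⊔ Ideal.ofList rs'
  have hK : ∀ r ∈ K, ∀ w : R ⧸ K, r • w = 0 := fun r hr w => by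
    obtain ⟨w, rfl⟩ := Ideal.Quotient.mk_surjective w
    show Ideal.Quotient.mk K (r * w) = 0
    exact Ideal.Quotient.eq_zero_iff_mem.2 (K.mul_mem_right w hr)
  obtain ⟨hvan, -⟩ := GrGor.ext_of_regular (W := R ⧸ K) rs' M hreg' fun r hr =>
    hK r (Ideal.mem_sup_right (Ideal.subset_span hr))
  obtain ⟨-, ⟨Ψ⟩⟩ := GrGor.ext_of_regular (W := R ⧸ K) rs M hreg fun r hr =>
    hK r (Ideal.mem_sup_left (Ideal.subset_span hr))
  haveI := hvan rs.length (by omega)
  haveI := Ψ.symm.toEquiv.subsingleton
  have hker : ∀ r ∈ K, r • Φ e = 0 := by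
    intro r hr
    have hle : K ≤ LinearMap.ker (LinearMap.toSpanSingleton R _ (Φ e)) :=
      sup_le (Ideal.span_le.2 fun s hs => LinearMap.ext fun x => by
          rw [LinearMap.toSpanSingleton_apply, LinearMap.smul_apply, ← map_smul, hN s hs, map_zero,
            LinearMap.zero_apply])
        (Ideal.span_le.2 fun s hs => by
          show s • Φ e = 0
          rw [← map_smul, he s hs, map_zero])
    exact LinearMap.mem_ker.1 (hle hr)
  refine Φ.map_eq_zero_iff.1 (LinearMap.ext fun x => ?_)
  have h0 : Submodule.liftQ K (LinearMap.toSpanSingleton R _ (Φ e x)) (fun r hr => by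
      show r • Φ e x = 0
      rw [← LinearMap.smul_apply, hker r hr, LinearMap.zero_apply]) = 0 := Subsingleton.elim _ _
  have h1 := LinearMap.congr_fun h0 (Ideal.Quotient.mk K 1)
  rw [show (Ideal.Quotient.mk K 1) = Submodule.Quotient.mk (1 : R) from rfl, Submodule.liftQ_apply] at h1
  simpa using h1

/-- A regular sequence on a free module bounds the heights of the primes containing it. -/
theorem le_height_of_regular {R : Type u} [CommRing R] [IsNoetherianRing R] (M : Type u) [AddCommGroup M] [Module R M]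
    [Module.Finite R M] [Module.Free R M] [Nontrivial M] (rs : List R) (hreg : IsWeaklyRegular M rs) (p : Ideal R)
    [p.IsPrime] (hp : ∀ r ∈ rs, r ∈ p) : (rs.length : ℕ∞) ≤ p.height := by
  have h1 : (rs.length : ℕ∞) ≤ LocCoh.idealDepth (Ideal.ofList rs) M :=
    (LocH.le_idealDepth_iff _ M _).2 fun i hi =>
      LocH.subsingleton_of_isWeaklyRegular _ rs M hreg (fun r hr => Ideal.subset_span hr) i hi
  have h2 := (LocH.le_idealDepth_iff_forall_prime _ M _).1 h1 ⟨p, inferInstance⟩ (Ideal.span_le.2 hp)
  haveI : Module.Free (Localization.AtPrime p) (LocalizedModule p.primeCompl M) :=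
    Module.free_of_isLocalizedModule p.primeCompl (LocalizedModule.mkLinearMap p.primeCompl M)
  haveI : Module.Finite (Localization.AtPrime p) (LocalizedModule p.primeCompl M) :=
    Module.Finite.of_isLocalizedModule p.primeCompl (LocalizedModule.mkLinearMap p.primeCompl M)
  haveI : Nontrivial (LocalizedModule p.primeCompl M) := by
    obtain ⟨i⟩ := (Module.Free.chooseBasis R M).index_nonempty
    let b := (Module.Free.chooseBasis R M).ofIsLocalizedModule (Localization.AtPrime p) p.primeCompl
      (LocalizedModule.mkLinearMap p.primeCompl M)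
    exact nontrivial_of_ne _ _ (b.ne_zero i)
  obtain ⟨q, hq⟩ := associatedPrimes.nonempty (Localization.AtPrime p) (LocalizedModule p.primeCompl M)
  have h3 := (EGA41CM.depth_le_dim_quotient _ hq).trans (ringKrullDim_le_of_surjective _ Ideal.Quotient.mk_surjective)
  rw [IsLocalization.AtPrime.ringKrullDim_eq_height p (Localization.AtPrime p), WithBot.coe_le_coe] at h3
  exact h2.trans h3

/-- A regular sequence one longer inside an ideal strictly above one of grade `c`. -/
theorem exists_regular_succ {R : Type u} [CommRing R] [IsRegularLocalRing R] (M : Type u) [AddCommGroup M] [Module R M]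
    [Module.Finite R M] [Module.Free R M] [Nontrivial M] (J K : Ideal R) (hJK : J ≤ K) (rs : List R)
    (hreg : IsWeaklyRegular M rs) (hrs : ∀ r ∈ rs, r ∈ J) (hK : ∀ p ∈ J.minimalPrimes, ¬ K ≤ p) :
    ∃ rs' : List R, rs'.length = rs.length + 1 ∧ IsWeaklyRegular M rs' ∧ ∀ r ∈ rs', r ∈ K := by
  refine LocH.exists_isWeaklyRegular K _ M ((LocH.le_idealDepth_iff K M _).1
    ((LocH.le_idealDepth_iff_forall_prime K M _).2 fun p hp => ?_))
  obtain ⟨q, hq, hqp⟩ := Ideal.exists_minimalPrimes_le (hJK.trans hp)
  haveI : q.IsPrime := hq.1.1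
  have hlt : q < p.asIdeal := lt_of_le_of_ne hqp fun h => hK q hq (h ▸ hp)
  haveI : q.FiniteHeight := Ideal.finiteHeight_of_isNoetherianRing q
  have h1 : ((rs.length + 1 : ℕ) : ℕ∞) ≤ p.asIdeal.height := by
    have h := Ideal.height_strict_mono_of_isPrime hlt
    push_cast
    exact (add_le_add_left (le_height_of_regular M rs hreg q fun r hr => hq.1.2 (hrs r hr)) 1).trans
      (Order.add_one_le_of_lt h)
  haveI := SerreReg.isRegularLocalRing_localization R p.asIdeal
  haveI := CMFlat.isCohenMacaulayLocalRing_of_isRegularLocalRing (Localization.AtPrime p.asIdeal)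
  haveI : Module.Free (Localization.AtPrime p.asIdeal) (LocalizedModule p.asIdeal.primeCompl M) :=
    Module.free_of_isLocalizedModule p.asIdeal.primeCompl (LocalizedModule.mkLinearMap p.asIdeal.primeCompl M)
  haveI : Module.Finite (Localization.AtPrime p.asIdeal) (LocalizedModule p.asIdeal.primeCompl M) :=
    Module.Finite.of_isLocalizedModule p.asIdeal.primeCompl (LocalizedModule.mkLinearMap p.asIdeal.primeCompl M)
  refine SerrePn.le_depth_free ?_ _
  have h : Module.supportDim (Localization.AtPrime p.asIdeal) (Localization.AtPrime p.asIdeal) = _ :=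
    LocCoh.IsCohenMacaulayLocalRing.supportDim_eq_depth
  rw [Module.supportDim_self_eq_ringKrullDim,
    IsLocalization.AtPrime.ringKrullDim_eq_height p.asIdeal (Localization.AtPrime p.asIdeal)] at h
  exact h1.trans (le_of_eq (WithBot.coe_inj.1 h))

/-- `Ext^d(k, R) = k` over a regular local ring of dimension `d`. -/
theorem nonempty_ext_residue {R : Type u} [CommRing R] [IsRegularLocalRing R] (d : ℕ) (hd : ringKrullDim R = d)
    (N : Type u) [AddCommGroup N] [Module R N] (eN : N ≃ₗ[R] R ⧸ IsLocalRing.maximalIdeal R)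
    (M : Type u) [AddCommGroup M] [Module R M] (eM : M ≃ₗ[R] R) :
    Nonempty (Ext (ModuleCat.of R N) (ModuleCat.of R M) d ≃ₗ[R] R ⧸ IsLocalRing.maximalIdeal R) := by
  obtain ⟨rs, rfl, hreg, hgen⟩ := SerreReg.exists_regular_rsop d R hd
  have hN : ∀ r ∈ rs, ∀ x : N, r • x = 0 := fun r hr x => eN.injective (by
    rw [map_smul, map_zero]
    obtain ⟨w, hw⟩ := Ideal.Quotient.mk_surjective (eN x)
    rw [← hw]
    show Ideal.Quotient.mk _ (r * w) = 0
    exact Ideal.Quotient.eq_zero_iff_mem.2 (Ideal.mul_mem_right w _ (hgen ▸ Ideal.subset_span hr)))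
  obtain ⟨-, ⟨Φ⟩⟩ := GrGor.ext_of_regular rs M ((eM.symm.isWeaklyRegular_congr rs).1 hreg) hN
  let m := IsLocalRing.maximalIdeal R
  have e1 : (M ⧸ (Ideal.ofList rs • ⊤ : Submodule R M)) ≃ₗ[R] R ⧸ m :=
    Submodule.Quotient.equiv _ _ eM (by
      rw [Submodule.map_smul'', Submodule.map_top, LinearEquiv.range, hgen, smul_eq_mul, Ideal.mul_top])
  have e2 : ((R ⧸ m) →ₗ[R] R ⧸ m) ≃ₗ[R] R ⧸ m :=
    { toFun := fun φ => φ (Ideal.Quotient.mk m 1)
      map_add' := fun _ _ => rfl
      map_smul' := fun _ _ => rfl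
      invFun := fun a => Submodule.liftQ m (LinearMap.toSpanSingleton R _ a) fun r hr => by
        obtain ⟨w, rfl⟩ := Ideal.Quotient.mk_surjective a
        show Ideal.Quotient.mk m (r * w) = 0
        exact Ideal.Quotient.eq_zero_iff_mem.2 (m.mul_mem_right w hr)
      left_inv := fun φ => Submodule.linearMap_qext _ (LinearMap.ext_ring (by simp))
      right_inv := fun a => by
        show Submodule.liftQ m _ _ (Submodule.Quotient.mk (1 : R)) = a
        rw [Submodule.liftQ_apply, LinearMap.toSpanSingleton_apply, one_smul] }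
  exact ⟨(Φ.trans (LinearEquiv.arrowCongr eN e1)).trans e2⟩

end Groth.Agent.ExtShX
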