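import Groth.Agent.ExtShX.Proj
import Groth.Agent.SerrePn.ExtVanish

/-!
On projective space over a field, `ℰxt^q(F, ω) = 0` iff `H^{n-q}(F(-d)) = 0` for large `d`.
-/

set_option autoImplicit false
set_option linter.style.haveILetI false
set_option linter.unusedSectionVars false
set_option backward.isDefEq.respectTransparency false
set_option backward.isDefEq.respectTransparency.types false

universe u

open CategoryTheory CategoryTheory.Limits AlgebraicGeometry TopologicalSpace Opposite Abelian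
open Groth.Agent.SerrePn

noncomputable section

namespace Groth.Agent.ExtShX

attribute [local instance] Abelian.hasFiniteBiproducts

section Gen

variable {X : Scheme.{u}} {L L' : X.Modules}
  (θ : CohB1.tensorMod L L' ≅ Coh.structureModule X) (θ' : CohB1.tensorMod L' L ≅ Coh.structureModule X)

include θ θ' in
/-- Twists of the first argument come out. -/
theorem nonempty_twistFirst (F N : X.Modules) (q : ℕ) :
    Nonempty ((R (CohB1.tensorMod F L') q).obj N ≅ CohB1.tensorMod ((R F q).obj N) L) := by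
  let E := tensEquiv θ θ'
  haveI : (tens L).IsEquivalence := E.isEquivalence_functor
  haveI := preservesBinaryBiproducts_of_preservesBinaryCoproducts (tens L)
  haveI : (tens L).Additive := Functor.additive_of_preservesBinaryBiproducts _
  haveI : PreservesFiniteLimits (tens L) := inferInstance
  haveI : PreservesFiniteColimits (tens L) := inferInstance
  let e := (tensEquiv θ θ').symm.toAdjunction
  let adj₁ := e.comp (DCoh.sheafHomAdj F)
  let adj₂ := DCoh.sheafHomAdj (CohB1.tensorMod F L')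
  let i : DCoh.sheafHom (CohB1.tensorMod F L') ≅ DCoh.sheafHom F ⋙ tens L :=
    adj₂.rightAdjointUniq (adj₁.ofNatIsoLeft (swapNat F L').symm)
  obtain ⟨j⟩ := GrothSS.nonempty_rightDerived_comp_exact (DCoh.sheafHom F) (tens L) q N
  exact ⟨(GrothSS.rightDerivedMapIso i q).app N ≪≫ j⟩

lemma hh_sub_of_isZero {G : X.Modules} (h : IsZero G) (q : ℕ) : Subsingleton (Coh.HH X G q) := by
  refine subsingleton_of_forall_eq 0 fun x => ?_
  have hz : IsZero ((CohQC.toAbF X).obj G) := (CohQC.toAbF X).map_isZero h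
  refine (Ext.comp_mk₀_id (show Ext _ ((CohQC.toAbF X).obj G) q from x)).symm.trans ?_
  rw [hz.eq_of_src (𝟙 _) 0, Ext.mk₀_zero, Ext.comp_zero]

lemma isZero_tensor {G : X.Modules} (h : IsZero G) (L : X.Modules) : IsZero (CohB1.tensorMod G L) := by
  refine (IsZero.iff_id_eq_zero _).2 ?_
  rw [← CohFinite.tmap_id, h.eq_of_src (𝟙 G) 0]
  exact map_zero (AddMonoidHom.mk' (fun φ : G ⟶ G => CohFinite.tmap φ L) fun a b => CohFinite.tmap_add a b L)

end Gen

variable {k : Type u} [Field k] {n : ℕ}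

/-- A coherent module without sections in all large twists is zero. -/
theorem isZero_of_h0 (G : (CohB1.ProjSpace n k).Modules) (hG : Coh.IsCoh G) (d₀ : ℕ)
    (h : ∀ d : ℕ, d₀ ≤ d → Subsingleton (Coh.HH (CohB1.ProjSpace n k) (CohB1.tensorMod G (Om k n (d : ℤ))) 0)) :
    IsZero G := by
  obtain ⟨N, r, p, hN, hp⟩ := exists_presentation G hG d₀
  obtain ⟨θ⟩ := exists_theta k n N (-(N : ℤ)) (by ring)
  obtain ⟨e⟩ := nonempty_homEquiv k (CohFinite.isInvertible_twist n k (N : ℤ)) θ G
  haveI := e.toEquiv.subsingleton_congr.2 (h N hN)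
  have hp0 : p = 0 := Sigma.hom_ext _ _ fun t => Subsingleton.elim _ _
  refine (IsZero.iff_id_eq_zero G).2 ?_
  rw [← cancel_epi p, hp0, zero_comp, zero_comp]

variable [HasExt.{u} (CohB1.ProjSpace n k).Modules]

lemma hf_id : (𝟙 (CohB1.ProjSpace n k)) ≫ CohB1.ProjSpace.toSpec n k =
    CohB1.ProjSpace n k ↘ Spec (CommRingCat.of k) := Category.id_comp _

lemma covers_Pn : Covers (CohB1.ProjSpace n k) := covers (𝟙 _)

lemma isCoh_RPn (F N : (CohB1.ProjSpace n k).Modules) (hF : Coh.IsCoh F) (hN : Coh.IsCoh N) (q : ℕ) :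
    Coh.IsCoh ((R F q).obj N) := by
  haveI := CohFinite.isNoetherian_projSpace n k
  exact isCoh_R covers_Pn q F N hF hN

/-- Serre's comparison with the first argument twisted. -/
theorem exists_dual (F : (CohB1.ProjSpace n k).Modules) (hF : Coh.IsCoh F) (q : ℕ) :
    ∃ d₀ : ℕ, ∀ d : ℕ, d₀ ≤ d → Nonempty (Ext (CohB1.tensorMod F (Om k n (-(d : ℤ)))) (om k n) q ≃ₗ[k]
      Coh.HH (CohB1.ProjSpace n k) (CohB1.tensorMod ((R F q).obj (om k n)) (Om k n (d : ℤ))) 0) := by
  haveI := CohFinite.isNoetherian_projSpace n k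
  choose m hm using fun j => HorrocksPn.exists_regular _ (isCoh_RPn F (om k n) hF (CohFinite.isCoh_twist n k _) j)
  refine ⟨(Finset.range (q + 1)).sup fun j => (m j).toNat, fun d hd => ?_⟩
  obtain ⟨θ⟩ := exists_theta k n d (-(d : ℤ)) (by ring)
  obtain ⟨θ'⟩ := exists_theta k n (-(d : ℤ)) d (by ring)
  obtain ⟨e⟩ := ext_equiv_h0 k (CohB1.tensorMod F (Om k n (-(d : ℤ)))) q (om k n) fun j hj p => by
    obtain ⟨t⟩ := nonempty_twistFirst θ θ' F (om k n) j
    refine (hhIso k t _).toEquiv.subsingleton_congr.2 ?_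
    have hjd : (m j).toNat ≤ d :=
      le_trans (Finset.le_sup (f := fun j => (m j).toNat) (Finset.mem_range.mpr (Nat.lt_succ_of_le hj))) hd
    exact vanish_of_regular _ (isCoh_RPn F _ hF (CohFinite.isCoh_twist n k _) j) (m j) (hm j (m j) le_rfl)
      (p + 1) d (Nat.succ_pos p) (by omega)
  obtain ⟨t⟩ := nonempty_twistFirst θ θ' F (om k n) q
  exact ⟨e.trans (hhIso k t 0)⟩

/-- The criterion. -/
theorem isZero_iff_van (F : (CohB1.ProjSpace n k).Modules) (hF : Coh.IsCoh F) (p q : ℕ) (hpq : p + q = n) :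
    IsZero ((R F q).obj (om k n)) ↔ Van F p := by
  obtain ⟨d₀, hd⟩ := exists_dual F hF q
  have key : ∀ d : ℕ, d₀ ≤ d → (Subsingleton (Coh.HH (CohB1.ProjSpace n k)
      (CohB1.tensorMod ((R F q).obj (om k n)) (Om k n (d : ℤ))) 0) ↔
      Subsingleton (Coh.HH (CohB1.ProjSpace n k) (CohB1.tensorMod F (Om k n (-(d : ℤ)))) p)) := fun d h => by
    obtain ⟨e⟩ := hd d h
    obtain ⟨s⟩ := (serre_duality k n (CohB1.tensorMod F (Om k n (-(d : ℤ))))
      (CohFinite.isCoh_tensor hF (CohFinite.isInvertible_twist n k _)) q).1 (by omega)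
    rw [← e.toEquiv.subsingleton_congr, s.toEquiv.subsingleton_congr, Module.subsingleton_dual_iff,
      show n - q = p by omega]
  constructor
  · intro hz
    refine ⟨(d₀ : ℤ), fun m hm => ?_⟩
    obtain ⟨d, rfl⟩ : ∃ d : ℕ, m = d := ⟨m.toNat, by omega⟩
    exact (key d (by exact_mod_cast hm)).1 (hh_sub_of_isZero
      (isZero_tensor hz (Om k n (d : ℤ))) 0)
  · rintro ⟨m₀, hm₀⟩
    exact isZero_of_h0 _ (isCoh_RPn F _ hF (CohFinite.isCoh_twist n k _) q) (max d₀ m₀.toNat) fun d h =>
      (key d (le_trans (le_max_left _ _) h)).2 (hm₀ d (by omega))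

/-- No Ext sheaves above the dimension. -/
theorem isZero_above (F : (CohB1.ProjSpace n k).Modules) (hF : Coh.IsCoh F) (q : ℕ) (hq : n < q) :
    IsZero ((R F q).obj (om k n)) := by
  obtain ⟨d₀, hd⟩ := exists_dual F hF q
  refine isZero_of_h0 _ (isCoh_RPn F _ hF (CohFinite.isCoh_twist n k _) q) d₀ fun d h => ?_
  obtain ⟨e⟩ := hd d h
  exact e.toEquiv.subsingleton_congr.1 ((serre_duality k n (CohB1.tensorMod F (Om k n (-(d : ℤ))))
    (CohFinite.isCoh_tensor hF (CohFinite.isInvertible_twist n k _)) q).2 hq)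

end Groth.Agent.ExtShX
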