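import Groth.Agent.ExtShX.StalkExt
import Groth.Agent.ExtShX.AffineSections
import Groth.Agent.ExtBC.Basic
import Groth.Agent.ModSiteFlat.Stalk

/-!
Stalks at points of the site of opens are the stalks, and Ext transported along this.
-/

set_option autoImplicit false
set_option linter.style.haveILetI false
set_option linter.unusedSectionVars false
set_option backward.isDefEq.respectTransparency false
set_option backward.isDefEq.respectTransparency.types false

universe u v

open CategoryTheory CategoryTheory.Limits AlgebraicGeometry TopologicalSpace Opposite Abelian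
open scoped TensorProduct

noncomputable section

namespace Groth.Agent.ExtShX

section Cmp

variable {X : TopCat.{u}} {A : Type v} [Category.{u} A] [HasColimits A] (x : X) (P : TopCat.Presheaf A X)

/-- The fibre at the point of the site of opens to the stalk. -/
def fibTo : (Opens.pointGrothendieckTopology x).presheafFiber.obj P ⟶ P.stalk x :=
  colimit.desc ((CategoryOfElements.π (Opens.pointGrothendieckTopology x).fiber).op ⋙ P)
    ⟨P.stalk x, { app := fun e => P.germ e.unop.1 x e.unop.2.down.down
                  naturality := fun e e' f => by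
                    exact (P.germ_res _ x _).trans (Category.comp_id _).symm }⟩

lemma fibTo_germ (U : Opens X) (h : (Opens.pointGrothendieckTopology x).fiber.obj U) :
    (Opens.pointGrothendieckTopology x).toPresheafFiber U h P ≫ fibTo x P = P.germ U x h.down.down :=
  colimit.ι_desc _ _

/-- The stalk to the fibre. -/
def toFib : P.stalk x ⟶ (Opens.pointGrothendieckTopology x).presheafFiber.obj P :=
  colimit.desc ((OpenNhds.inclusion x).op ⋙ P)
    ⟨_, { app := fun V => (Opens.pointGrothendieckTopology x).toPresheafFiber V.unop.1 ⟨⟨V.unop.2⟩⟩ P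
          naturality := fun V V' f => by
            exact ((Opens.pointGrothendieckTopology x).toPresheafFiber_w _ _ P).trans (Category.comp_id _).symm }⟩

lemma germ_toFib (U : Opens X) (h : x ∈ U) :
    P.germ U x h ≫ toFib x P = (Opens.pointGrothendieckTopology x).toPresheafFiber U ⟨⟨h⟩⟩ P :=
  colimit.ι_desc _ _

/-- Fibre at a point of the site of opens = stalk. -/
def fibIso : (Opens.pointGrothendieckTopology x).presheafFiber.obj P ≅ P.stalk x where
  hom := fibTo x P
  inv := toFib x P
  hom_inv_id := (Opens.pointGrothendieckTopology x).presheafFiber_hom_ext fun U h => by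
    rw [← Category.assoc, fibTo_germ, germ_toFib, Category.comp_id]
    rfl
  inv_hom_id := TopCat.Presheaf.stalk_hom_ext _ fun U h => by
    rw [← Category.assoc, germ_toFib, fibTo_germ, Category.comp_id]

end Cmp

variable {X : Scheme.{u}} (x : X)

local notation "pt₀" => Opens.pointGrothendieckTopology x

/-- The stalk ring at the point. -/
def ptRing : ModSite.stalkRing (pt₀) X.sheaf ≃+* X.presheaf.stalk x :=
  (fibIso x X.presheaf).commRingCatIsoToRingEquiv

/-- The stalk at the point. -/
def ptMod (M : X.Modules) : ModSite.stalkAb (O := X.sheaf) (pt₀) M ≃+ M.presheaf.stalk x :=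
  (fibIso x M.presheaf).addCommGroupIsoToAddEquiv

lemma ptMod_smul (M : X.Modules) (r : ModSite.stalkRing (pt₀) X.sheaf) (m : ModSite.stalkAb (O := X.sheaf) (pt₀) M) :
    ptMod x M (r • m) = ptRing x r • ptMod x M m := by
  obtain ⟨U, w, s, f, hs, hf⟩ := ModSiteFlat.exists_lift (O := X.sheaf) (pt₀) M (fun _ : Unit => m) (fun _ : Unit => r)
  rw [← hs (), ← hf (), ← ModSite.germ_smul]
  have h1 : ∀ t, ptMod x M (ModSite.germ (O := X.sheaf) (pt₀) M U w t) = M.presheaf.germ U x w.down.down t := fun t =>
    ConcreteCategory.congr_hom (fibTo_germ x M.presheaf U w) t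
  have h2 : ptRing x (ModSite.germRing (pt₀) (O := X.sheaf) U w (f ())) = X.presheaf.germ U x w.down.down (f ()) :=
    ConcreteCategory.congr_hom (fibTo_germ x X.presheaf U w) (f ())
  rw [h1, h1, h2]
  exact Mero.germ_smul M U x w.down.down (f ()) (s ())

section BC

variable {A B : Type u} [CommRing A] [CommRing B] [Algebra A B] (hb : Function.Bijective (algebraMap A B))

include hb in
theorem nonempty_bc {M M' : Type u} [AddCommGroup M] [Module A M] [AddCommGroup M'] [Module A M'] [Module B M']
    [IsScalarTower A B M'] (f : M →ₗ[A] M') (hf : Function.Bijective f) : Nonempty ((B ⊗[A] M) ≃ₗ[B] M') := by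
  have hone : ∀ z : B ⊗[A] M, ∃ m, z = 1 ⊗ₜ m := fun z => by
    induction z using TensorProduct.induction_on with
    | zero => exact ⟨0, by rw [TensorProduct.tmul_zero]⟩
    | tmul b m =>
      obtain ⟨a, rfl⟩ := hb.2 b
      exact ⟨a • m, by rw [TensorProduct.tmul_smul, TensorProduct.smul_tmul', Algebra.smul_def, mul_one]⟩
    | add z z' hz hz' =>
      obtain ⟨m, rfl⟩ := hz
      obtain ⟨m', rfl⟩ := hz'
      exact ⟨m + m', (TensorProduct.tmul_add _ _ _).symm⟩
  refine ⟨LinearEquiv.ofBijective (f.liftBaseChange B) ⟨(injective_iff_map_eq_zero _).2 fun z hz => ?_, fun y => ?_⟩⟩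
  · obtain ⟨m, rfl⟩ := hone z
    rw [LinearMap.liftBaseChange_tmul, one_smul] at hz
    rw [(injective_iff_map_eq_zero f).1 hf.1 m hz, TensorProduct.tmul_zero]
  · obtain ⟨m, rfl⟩ := hf.2 y
    exact ⟨1 ⊗ₜ m, by rw [LinearMap.liftBaseChange_tmul, one_smul]⟩

end BC

set_option maxHeartbeats 1000000 in
/-- `ℰxt^i(F, G)_x = Ext^i(F_x, G_x)`, at the point of the site. -/
theorem nonempty_pt_R [IsLocallyNoetherian X] (F G : X.Modules) (hF : Coh.IsCoh F) (i : ℕ) :
    Nonempty (ModSite.stalkMod (O := X.sheaf) (pt₀) ((R F i).obj G) ≃ₗ[ModSite.stalkRing (pt₀) X.sheaf]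
      Ext (ModSite.stalkMod (O := X.sheaf) (pt₀) F) (ModSite.stalkMod (O := X.sheaf) (pt₀) G) i) := by
  let A := X.presheaf.stalk x
  let B := ModSite.stalkRing (pt₀) X.sheaf
  letI : Algebra A B := (ptRing x).symm.toRingHom.toAlgebra
  have hb : Function.Bijective (algebraMap A B) := (ptRing x).symm.bijective
  haveI : Module.Flat A B :=
    Module.Flat.of_linearEquiv (LinearEquiv.ofBijective (Algebra.linearMap A B) hb).symm
  haveI : Module.Finite A (F.presheaf.stalk x) := by
    obtain ⟨U, hU, hx, -⟩ := exists_isAffineOpen_mem_and_subset (x := x) (U := (⊤ : X.Opens)) trivial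
    haveI := (Groth.Agent.QC.isCoh_iff_finite_sections.1 hF).2 ⟨U, hU⟩
    exact LocFree.finite_stalk hU hF.1 hx
  letI mA : ∀ M : X.Modules, Module A (ModSite.stalkAb (O := X.sheaf) (pt₀) M) := fun M =>
    Module.compHom _ (algebraMap A B)
  haveI : ∀ M : X.Modules, IsScalarTower A B (ModSite.stalkAb (O := X.sheaf) (pt₀) M) := fun M =>
    IsScalarTower.of_algebraMap_smul fun _ _ => rfl
  let l : ∀ M : X.Modules, M.presheaf.stalk x →ₗ[A] ModSite.stalkAb (O := X.sheaf) (pt₀) M := fun M =>
    { toFun := (ptMod x M).symm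
      map_add' := map_add _
      map_smul' := fun a m => (ptMod x M).injective (by
        show ptMod x M ((ptMod x M).symm (a • m)) = ptMod x M ((ptRing x).symm a • (ptMod x M).symm m)
        rw [ptMod_smul, AddEquiv.apply_symm_apply, AddEquiv.apply_symm_apply, RingEquiv.apply_symm_apply]) }
  obtain ⟨eF⟩ := nonempty_bc hb (l F) (ptMod x F).symm.bijective
  obtain ⟨eG⟩ := nonempty_bc hb (l G) (ptMod x G).symm.bijective
  obtain ⟨eR⟩ := nonempty_bc hb (l ((R F i).obj G)) (ptMod x ((R F i).obj G)).symm.bijective
  obtain ⟨e₁⟩ := nonempty_stalk_R F hF x i G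
  obtain ⟨e₂⟩ := ExtBC.nonempty_ext_baseChange (A := A) B (G.presheaf.stalk x) i (F.presheaf.stalk x)
  obtain ⟨e₃⟩ := nonempty_ext_congr B (eF.toModuleIso) (eG.toModuleIso) i
  exact ⟨eR.symm.trans ((e₁.toLinearEquiv.baseChange A B).trans (e₂.trans e₃))⟩

end Groth.Agent.ExtShX

namespace Groth.Agent.ExtShX

variable {X : Scheme.{u}} (x : X)

/-- Stalks at the point of isomorphic modules. -/
def ptIsoMod {M N : X.Modules} (e : M ≅ N) :
    ModSite.stalkMod (O := X.sheaf) (Opens.pointGrothendieckTopology x) M
      ≃ₗ[ModSite.stalkRing (Opens.pointGrothendieckTopology x) X.sheaf]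
      ModSite.stalkMod (O := X.sheaf) (Opens.pointGrothendieckTopology x) N :=
  AddEquiv.toLinearEquiv
    ((ptMod x M).trans (((DerSch.stalkFunctor X x).mapIso e).toLinearEquiv.toAddEquiv.trans (ptMod x N).symm))
    fun r m => (ptMod x N).injective (by
      rw [ptMod_smul]
      simp only [AddEquiv.trans_apply, ptMod_smul]
      refine ((ptMod x N).apply_symm_apply _).trans
        (((map_smul ((DerSch.stalkFunctor X x).mapIso e).toLinearEquiv _ _)).trans ?_)
      exact congrArg (ptRing x r • ·) ((ptMod x N).apply_symm_apply _).symm)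

end Groth.Agent.ExtShX
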