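import Groth.Agent.ExtShX.Resolution
import Groth.Agent.GrothSS.Ext

/-!
Relative Ext sheaves: long exact sequence in the first variable and acyclic resolutions.
-/

set_option autoImplicit false
set_option linter.style.haveILetI false
set_option linter.unusedSectionVars false
set_option backward.isDefEq.respectTransparency false
set_option backward.isDefEq.respectTransparency.types false

universe v w u

open CategoryTheory CategoryTheory.Limits AlgebraicGeometry TopologicalSpace Opposite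

noncomputable section

namespace Groth.Agent.ExtShX

/-- Restriction along a monomorphism of sheaf Homs into an injective is surjective on sections. -/
theorem surjective_pre_app {X : Scheme.{u}} {S : ShortComplex X.Modules} (hS : S.ShortExact) (I : X.Modules)
    [Injective I] (U : X.Opens) :
    Function.Surjective (Scheme.Modules.Hom.app ((pre S.f).app I) U) := fun y => by
  let c := ModSiteFree.freeOnCorep X.sheaf U
  let y' : ModSite.freeOn X.sheaf U ⟶ (DCoh.sheafHom S.X₁).obj I := c.homEquiv.symm y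
  obtain ⟨g, hg⟩ := ((DCoh.sheafHomAdj S.X₁).homEquiv _ I).surjective y'
  haveI : PreservesFiniteLimits ((DCoh.tensorBi (X := X)).flip.obj (ModSite.freeOn X.sheaf U)) :=
    (ModSiteFree.isFlat_freeOn (O := X.sheaf) U).1
  haveI := hS.mono_f
  haveI : Mono (((DCoh.tensorBi (X := X)).map S.f).app (ModSite.freeOn X.sheaf U)) :=
    inferInstanceAs (Mono (((DCoh.tensorBi (X := X)).flip.obj (ModSite.freeOn X.sheaf U)).map S.f))
  obtain ⟨g', hg'⟩ := Injective.factors g (((DCoh.tensorBi (X := X)).map S.f).app (ModSite.freeOn X.sheaf U))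
  have h := homEquiv_pre S.f g'
  rw [hg', hg] at h
  refine ⟨c.homEquiv ((DCoh.sheafHomAdj S.X₂).homEquiv _ I g'), ?_⟩
  have h2 := c.homEquiv_comp ((pre S.f).app I) ((DCoh.sheafHomAdj S.X₂).homEquiv _ I g')
  rw [h] at h2
  exact h2.symm.trans (c.homEquiv.apply_symm_apply y)

theorem epi_push_pre {X Y : Scheme.{u}} (f : X ⟶ Y) {S : ShortComplex X.Modules} (hS : S.ShortExact) (I : X.Modules)
    [Injective I] : Epi ((Scheme.Modules.pushforward f).map ((pre S.f).app I)) :=
  ⟨fun a b hab => Scheme.Modules.hom_ext _ _ fun V => by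
    ext s
    obtain ⟨t, rfl⟩ := surjective_pre_app hS I (f ⁻¹ᵁ V) s
    exact congrArg (fun ψ => Scheme.Modules.Hom.app ψ V t) hab⟩

variable {X : Scheme.{u}} {D : Type w} [Category.{v} D] [Abelian D] (P : X.Modules ⥤ D) [P.Additive]
  [PreservesFiniteLimits P]

/-- The derived functors of `P ∘ Hom(F, -)`. -/
abbrev RP (F : X.Modules) (q : ℕ) : X.Modules ⥤ D := (DCoh.sheafHom F ⋙ P).rightDerived q

/-- The functorial map. -/
abbrev preP {F F' : X.Modules} (φ : F ⟶ F') : DCoh.sheafHom F' ⋙ P ⟶ DCoh.sheafHom F ⋙ P :=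
  Functor.whiskerRight (pre φ) P

/-- `P` kills the obstruction to lifting into injectives. -/
def Good : Prop := ∀ (S : ShortComplex X.Modules), S.ShortExact → ∀ (I : X.Modules), Injective I →
  Epi (P.map ((pre S.f).app I))

variable {S : ShortComplex X.Modules}

/-- The sequence of complexes. -/
def prePCx (S : ShortComplex X.Modules) (J : CochainComplex X.Modules ℕ) : ShortComplex (CochainComplex D ℕ) :=
  ShortComplex.mk ((NatTrans.mapHomologicalComplex (preP P S.g) (ComplexShape.up ℕ)).app J)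
    ((NatTrans.mapHomologicalComplex (preP P S.f) (ComplexShape.up ℕ)).app J)
    (HomologicalComplex.Hom.ext (funext fun n => by
      show P.map _ ≫ P.map _ = 0
      rw [← P.map_comp, pre_comp_zero (S := S) (J.X n), P.map_zero]))

variable (hS : S.ShortExact) (N : X.Modules) (hP : Good P)

include hS hP in
theorem prePCx_shortExact : (prePCx P S (injectiveResolution N).cocomplex).ShortExact := by
  refine HomologicalComplex.shortExact_of_degreewise_shortExact _ fun n => ?_
  haveI := (injectiveResolution N).injective n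
  have h := shortExact_pre hS ((injectiveResolution N).cocomplex.X n)
  haveI : Epi (P.map ((pre S.f).app ((injectiveResolution N).cocomplex.X n))) := hP S hS _ inferInstance
  haveI := h.mono_f
  haveI : Mono (ShortComplex.mk _ _ (pre_comp_zero (S := S) ((injectiveResolution N).cocomplex.X n))).f := h.mono_f
  exact { exact := ShortComplex.exact_of_f_is_kernel _ (KernelFork.mapIsLimit _ h.exact.fIsKernel P)
          mono_f := inferInstanceAs (Mono (P.map ((pre S.g).app ((injectiveResolution N).cocomplex.X n))))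
          epi_g := ‹_› }

/-- The comparison with the chosen resolution. -/
def rI (F : X.Modules) (p : ℕ) : (RP P F p).obj N ≅
    (((DCoh.sheafHom F ⋙ P).mapHomologicalComplex (ComplexShape.up ℕ)).obj (injectiveResolution N).cocomplex).homology p :=
  (injectiveResolution N).isoRightDerivedObj (DCoh.sheafHom F ⋙ P) p

/-- The map of complexes. -/
abbrev cxMap {F F' : X.Modules} (φ : F ⟶ F') :
    ((DCoh.sheafHom F' ⋙ P).mapHomologicalComplex (ComplexShape.up ℕ)).obj (injectiveResolution N).cocomplex ⟶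
      ((DCoh.sheafHom F ⋙ P).mapHomologicalComplex (ComplexShape.up ℕ)).obj (injectiveResolution N).cocomplex :=
  (NatTrans.mapHomologicalComplex (preP P φ) (ComplexShape.up ℕ)).app (injectiveResolution N).cocomplex

lemma preP_rI {F F' : X.Modules} (φ : F ⟶ F') (p : ℕ) :
    (NatTrans.rightDerived (preP P φ) p).app N ≫ (rI P N F p).hom =
      (rI P N F' p).hom ≫ HomologicalComplex.homologyMap (cxMap P N φ) p := by
  refine (congrArg (· ≫ _) (InjectiveResolution.rightDerived_app_eq _ (injectiveResolution N) p)).trans ?_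
  refine (Category.assoc _ _ _).trans (congrArg (_ ≫ ·) ?_)
  refine (Category.assoc _ _ _).trans ?_
  exact (congrArg (_ ≫ ·) (Iso.inv_hom_id _)).trans (Category.comp_id _)

include hS hP in
theorem mono_preP_zero : Mono ((NatTrans.rightDerived (preP P S.g) 0).app N) := by
  let T := prePCx P S (injectiveResolution N).cocomplex
  have hT : T.ShortExact := prePCx_shortExact P hS N hP
  haveI := hT.mono_f
  haveI : Mono (HomologicalComplex.cyclesMap T.f 0) := by
    haveI : Mono (HomologicalComplex.cyclesMap T.f 0 ≫ T.X₂.iCycles 0) := by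
      rw [HomologicalComplex.cyclesMap_i]
      exact mono_comp _ _
    exact mono_of_mono (HomologicalComplex.cyclesMap T.f 0) (T.X₂.iCycles 0)
  haveI : Mono (HomologicalComplex.homologyMap T.f 0) := by
    have h : HomologicalComplex.homologyMap T.f 0 =
        inv (T.X₁.homologyπ 0) ≫ HomologicalComplex.cyclesMap T.f 0 ≫ T.X₂.homologyπ 0 := by
      rw [IsIso.eq_inv_comp]
      exact HomologicalComplex.homologyπ_naturality T.f 0
    rw [h]
    exact mono_comp _ _
  haveI : Mono ((NatTrans.rightDerived (preP P S.g) 0).app N ≫ (rI P N S.X₂ 0).hom) := by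
    rw [preP_rI]
    exact mono_comp (rI P N S.X₃ 0).hom (HomologicalComplex.homologyMap T.f 0)
  exact mono_of_mono ((NatTrans.rightDerived (preP P S.g) 0).app N) (rI P N S.X₂ 0).hom

omit [PreservesFiniteLimits P] in
theorem exact_transfer {A₁ A₂ A₃ B₁ B₂ B₃ : D} {a : A₁ ⟶ A₂} {a' : A₂ ⟶ A₃} {b : B₁ ⟶ B₂} {b' : B₂ ⟶ B₃}
    (i₁ : A₁ ≅ B₁) (i₂ : A₂ ≅ B₂) (i₃ : A₃ ≅ B₃) (h : a ≫ i₂.hom = i₁.hom ≫ b) (h' : a' ≫ i₃.hom = i₂.hom ≫ b')
    (hb : b ≫ b' = 0) (hex : (ShortComplex.mk b b' hb).Exact) :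
    ∃ w : a ≫ a' = 0, (ShortComplex.mk a a' w).Exact := by
  have w : a ≫ a' = 0 := by
    rw [← cancel_mono i₃.hom, Category.assoc, h', ← Category.assoc, h, Category.assoc, hb, comp_zero, zero_comp]
  exact ⟨w, (ShortComplex.exact_iff_of_iso (ShortComplex.isoMk (S₁ := ShortComplex.mk a a' w)
    (S₂ := ShortComplex.mk b b' hb) i₁ i₂ i₃ h.symm h'.symm)).2 hex⟩

include hS hP in
theorem exact_preP (p : ℕ) :
    ∃ w : (NatTrans.rightDerived (preP P S.g) p).app N ≫ (NatTrans.rightDerived (preP P S.f) p).app N = 0,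
      (ShortComplex.mk _ _ w).Exact :=
  exact_transfer (rI P N _ p) (rI P N _ p) (rI P N _ p) (preP_rI P N S.g p) (preP_rI P N S.f p) _
    ((prePCx_shortExact P hS N hP).homology_exact₂ p)

/-- The connecting map. -/
def connP (p : ℕ) : (RP P S.X₁ p).obj N ⟶ (RP P S.X₃ (p + 1)).obj N :=
  (rI P N _ p).hom ≫ (prePCx_shortExact P hS N hP).δ p (p + 1) rfl ≫ (rI P N _ (p + 1)).inv

lemma connP_rI (p : ℕ) : connP P hS N hP p ≫ (rI P N S.X₃ (p + 1)).hom =
    (rI P N S.X₁ p).hom ≫ (prePCx_shortExact P hS N hP).δ p (p + 1) rfl := by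
  refine (Category.assoc _ _ _).trans (congrArg (_ ≫ ·) ?_)
  refine (Category.assoc _ _ _).trans ?_
  exact (congrArg (_ ≫ ·) (Iso.inv_hom_id _)).trans (Category.comp_id _)

theorem exact_connP₁ (p : ℕ) :
    ∃ w : (NatTrans.rightDerived (preP P S.f) p).app N ≫ connP P hS N hP p = 0, (ShortComplex.mk _ _ w).Exact :=
  exact_transfer (rI P N _ p) (rI P N _ p) (rI P N _ (p + 1)) (preP_rI P N S.f p) (connP_rI P hS N hP p) _
    ((prePCx_shortExact P hS N hP).homology_exact₃ p (p + 1) rfl)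

theorem exact_connP₂ (p : ℕ) :
    ∃ w : connP P hS N hP p ≫ (NatTrans.rightDerived (preP P S.g) (p + 1)).app N = 0,
      (ShortComplex.mk _ _ w).Exact :=
  exact_transfer (rI P N _ p) (rI P N _ (p + 1)) (rI P N _ (p + 1)) (connP_rI P hS N hP p) (preP_rI P N S.g (p + 1)) _
    ((prePCx_shortExact P hS N hP).homology_exact₁ p (p + 1) rfl)

section Acyclic

variable (hmid : ∀ q, IsZero ((RP P S.X₂ (q + 1)).obj N))

include hmid in
lemma isZero_midP (q : ℕ) : IsZero ((prePCx P S (injectiveResolution N).cocomplex).X₂.homology (q + 1)) :=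
  (hmid q).of_iso ((injectiveResolution N).isoRightDerivedObj _ (q + 1)).symm

include hS hP hmid in
theorem nonempty_firstShiftP (q : ℕ) : Nonempty ((RP P S.X₃ (q + 2)).obj N ≅ (RP P S.X₁ (q + 1)).obj N) :=
  ⟨(injectiveResolution N).isoRightDerivedObj _ (q + 2) ≪≫
    ((prePCx_shortExact P hS N hP).δIso (q + 1) (q + 2) rfl (isZero_midP P N hmid q) (isZero_midP P N hmid (q + 1))).symm ≪≫
    ((injectiveResolution N).isoRightDerivedObj _ (q + 1)).symm⟩

include hS hP hmid in
theorem nonempty_firstOneP : Nonempty ((RP P S.X₃ 1).obj N ≅ cokernel ((preP P S.f).app N)) := by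
  let I := injectiveResolution N
  let T := prePCx P S I.cocomplex
  have hT : T.ShortExact := prePCx_shortExact P hS N hP
  haveI : Epi (hT.δ 0 1 rfl) := (hT.homology_exact₁ 0 1 rfl).epi_f ((isZero_midP P N hmid 0).eq_of_tgt _ _)
  let e : T.X₁.homology 1 ≅ cokernel (HomologicalComplex.homologyMap T.g 0) :=
    (hT.homology_exact₃ 0 1 rfl).gIsCokernel.coconePointUniqueUpToIso (colimit.isColimit _)
  let a₂ : (DCoh.sheafHom S.X₂ ⋙ P).obj N ≅ T.X₂.homology 0 :=
    asIso (I.toRightDerivedZero' (DCoh.sheafHom S.X₂ ⋙ P)) ≪≫ CochainComplex.isoHomologyπ₀ _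
  let a₁ : (DCoh.sheafHom S.X₁ ⋙ P).obj N ≅ T.X₃.homology 0 :=
    asIso (I.toRightDerivedZero' (DCoh.sheafHom S.X₁ ⋙ P)) ≪≫ CochainComplex.isoHomologyπ₀ _
  have hc : (preP P S.f).app N ≫ I.toRightDerivedZero' (DCoh.sheafHom S.X₁ ⋙ P) =
      I.toRightDerivedZero' (DCoh.sheafHom S.X₂ ⋙ P) ≫ HomologicalComplex.cyclesMap T.g 0 := by
    rw [← cancel_mono (HomologicalComplex.iCycles _ _), Category.assoc, Category.assoc,
      InjectiveResolution.toRightDerivedZero'_comp_iCycles]
    refine Eq.trans ?_ (congrArg (_ ≫ ·) (HomologicalComplex.cyclesMap_i T.g 0).symm)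
    refine ((preP P S.f).naturality (I.ι.f 0)).symm.trans ?_
    refine Eq.trans ?_ (Category.assoc _ _ _)
    exact congrArg (· ≫ T.g.f 0) (I.toRightDerivedZero'_comp_iCycles (DCoh.sheafHom S.X₂ ⋙ P)).symm
  refine ⟨I.isoRightDerivedObj _ 1 ≪≫ e ≪≫ (cokernel.mapIso ((preP P S.f).app N) (HomologicalComplex.homologyMap T.g 0) a₂ a₁ ?_).symm⟩
  show (preP P S.f).app N ≫ I.toRightDerivedZero' _ ≫ (CochainComplex.isoHomologyπ₀ _).hom =
    (I.toRightDerivedZero' _ ≫ (CochainComplex.isoHomologyπ₀ _).hom) ≫ HomologicalComplex.homologyMap T.g 0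
  rw [← Category.assoc, hc, Category.assoc, Category.assoc]
  exact congrArg (_ ≫ ·) (HomologicalComplex.homologyπ_naturality T.g 0).symm

end Acyclic

lemma preP_comp_preP {A B C : X.Modules} (a : A ⟶ B) (b : B ⟶ C) (h : a ≫ b = 0) :
    (preP P b).app N ≫ (preP P a).app N = 0 := by
  show P.map _ ≫ P.map _ = 0
  rw [← P.map_comp, pre_comp_pre a b h, P.map_zero]

include hP in
/-- Degree one. -/
theorem nonempty_resolution_oneP {F E₀ E₁ E₂ : X.Modules} (d₂ : E₂ ⟶ E₁) (d₁ : E₁ ⟶ E₀) (π : E₀ ⟶ F) [Epi π]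
    (h₁ : d₁ ≫ π = 0) (e₀ : (ShortComplex.mk d₁ π h₁).Exact) (h₂ : d₂ ≫ d₁ = 0)
    (e₁ : (ShortComplex.mk d₂ d₁ h₂).Exact) (hE : ∀ q, IsZero ((RP P E₀ (q + 1)).obj N)) :
    Nonempty ((ShortComplex.mk ((preP P d₁).app N) ((preP P d₂).app N) (preP_comp_preP P N d₂ d₁ h₂)).homology ≅
      (RP P F 1).obj N) := by
  let p : E₁ ⟶ kernel π := kernel.lift π d₁ h₁
  haveI : Epi p := e₀.epi_kernelLift
  let S : ShortComplex X.Modules := ShortComplex.mk (kernel.ι π) π (kernel.condition π)
  have hS : S.ShortExact := { exact := ShortComplex.exact_kernel π }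
  obtain ⟨e⟩ := nonempty_firstOneP P hS N hP hE
  have w' : d₂ ≫ p = 0 := by
    rw [← cancel_mono (kernel.ι π), Category.assoc, kernel.lift_ι, h₂, zero_comp]
  haveI : Epi (ShortComplex.mk d₂ p w').g := ‹Epi p›
  obtain ⟨w, hm, hk⟩ := pre_kernel (ShortComplex.mk d₂ p w')
    ((ShortComplex.exact_iff_of_epi_of_isIso_of_mono
      (S₁ := ShortComplex.mk d₂ p w') (S₂ := ShortComplex.mk d₂ d₁ h₂)
      { τ₁ := 𝟙 _, τ₂ := 𝟙 _, τ₃ := kernel.ι π
        comm₁₂ := by simp
        comm₂₃ := by simp [p] }).2 e₁) N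
  haveI : Mono ((pre p).app N) := hm
  let T := ShortComplex.mk ((preP P d₁).app N) ((preP P d₂).app N) (preP_comp_preP P N d₂ d₁ h₂)
  haveI : Mono ((preP P p).app N) := inferInstanceAs (Mono (P.map ((pre p).app N)))
  have wT : (preP P p).app N ≫ T.g = 0 := preP_comp_preP P N d₂ p w'
  have hi : IsLimit (KernelFork.ofι ((preP P p).app N) wT) := by
    haveI : Mono (ShortComplex.mk _ _ w).f := hm
    exact KernelFork.mapIsLimit _ hk.fIsKernel P
  have hf : hi.lift (KernelFork.ofι T.f T.zero) = (preP P (kernel.ι π)).app N := by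
    rw [← cancel_mono ((preP P p).app N)]
    refine (hi.fac _ WalkingParallelPair.zero).trans ?_
    show P.map ((pre d₁).app N) = P.map ((pre (kernel.ι π)).app N) ≫ P.map ((pre p).app N)
    rw [← P.map_comp, ← NatTrans.comp_app, ← pre_comp, kernel.lift_ι]
  let h : T.LeftHomologyData :=
    { K := _, H := cokernel ((preP P (kernel.ι π)).app N), i := (preP P p).app N, π := cokernel.π _, wi := wT
      hi := hi
      wπ := by rw [hf]; exact cokernel.condition _
      hπ := CokernelCofork.IsColimit.ofπ _ _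
        (fun g hg => cokernel.desc _ g (by rw [← hf]; exact hg))
        (fun g hg => cokernel.π_desc _ _ _)
        (fun g hg m hm => coequalizer.hom_ext (hm.trans (cokernel.π_desc _ _ _).symm)) }
  exact ⟨h.homologyIso ≪≫ e.symm⟩

include hP in
/-- Positive degrees. -/
theorem nonempty_resolution_succP (q : ℕ) :
    ∀ {F : X.Modules} (E : ℕ → X.Modules) (d : ∀ j, E (j + 1) ⟶ E j) (π : E 0 ⟶ F), Epi π →
      ∀ (hπ : d 0 ≫ π = 0), (ShortComplex.mk (d 0) π hπ).Exact →
      ∀ (hd : ∀ j, d (j + 1) ≫ d j = 0), (∀ j, (ShortComplex.mk (d (j + 1)) (d j) (hd j)).Exact) →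
      (∀ j r, IsZero ((RP P (E j) (r + 1)).obj N)) →
      Nonempty ((ShortComplex.mk ((preP P (d q)).app N) ((preP P (d (q + 1))).app N)
        (preP_comp_preP P N _ _ (hd q))).homology ≅ (RP P F (q + 1)).obj N) := by
  induction q with
  | zero =>
    intro F E d π hπe hπ e₀ hd ed hE
    haveI := hπe
    exact nonempty_resolution_oneP P N hP (d 1) (d 0) π hπ e₀ (hd 0) (ed 0) (hE 0)
  | succ q ih =>
    intro F E d π hπe hπ e₀ hd ed hE
    haveI := hπe
    let S : ShortComplex X.Modules := ShortComplex.mk (kernel.ι π) π (kernel.condition π)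
    have hS : S.ShortExact := { exact := ShortComplex.exact_kernel π }
    have w' : d 1 ≫ kernel.lift π (d 0) hπ = 0 := by
      rw [← cancel_mono (kernel.ι π), Category.assoc, kernel.lift_ι, hd 0, zero_comp]
    obtain ⟨e⟩ := ih (fun j => E (j + 1)) (fun j => d (j + 1)) (kernel.lift π (d 0) hπ) e₀.epi_kernelLift w'
      ((ShortComplex.exact_iff_of_epi_of_isIso_of_mono
        (S₁ := ShortComplex.mk (d 1) (kernel.lift π (d 0) hπ) w') (S₂ := ShortComplex.mk (d 1) (d 0) (hd 0))
        { τ₁ := 𝟙 _, τ₂ := 𝟙 _, τ₃ := kernel.ι π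
          comm₁₂ := by simp
          comm₂₃ := by simp }).2 (ed 0))
      (fun j => hd (j + 1)) (fun j => ed (j + 1)) (fun j => hE (j + 1))
    obtain ⟨e'⟩ := nonempty_firstShiftP P hS N hP (hE 0) q
    exact ⟨e ≪≫ e'.symm⟩

include hP in
/-- The cohomology of `P Hom(E, N)` computes the derived functors. -/
theorem nonempty_homology_resolutionP {F : X.Modules} (E : ChainComplex X.Modules ℕ) (π : E.X 0 ⟶ F) [Epi π]
    (hπ : E.d 1 0 ≫ π = 0) (e₀ : (ShortComplex.mk (E.d 1 0) π hπ).Exact) (hex : ∀ j : ℕ, E.ExactAt (j + 1))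
    (hE : ∀ j r, IsZero ((RP P (E.X j) (r + 1)).obj N)) (C : CochainComplex D ℕ)
    (e : ∀ j : ℕ, C.X j ≅ P.obj ((DCoh.sheafHom (E.X j)).obj N))
    (hC : ∀ j : ℕ, C.d j (j + 1) ≫ (e (j + 1)).hom = (e j).hom ≫ (preP P (E.d (j + 1) j)).app N) (i : ℕ) :
    Nonempty (C.homology i ≅ (RP P F i).obj N) := by
  rcases i with _ | q
  · haveI : Epi (ShortComplex.mk (E.d 1 0) π hπ).g := ‹Epi π›
    obtain ⟨w, hm, hk⟩ := pre_kernel (ShortComplex.mk (E.d 1 0) π hπ) e₀ N
    haveI : Mono ((pre π).app N) := hm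
    haveI : Mono (ShortComplex.mk _ _ w).f := hm
    have hk' := KernelFork.mapIsLimit _ hk.fIsKernel P
    haveI : Mono ((preP P π).app N) := inferInstanceAs (Mono (P.map ((pre π).app N)))
    let k : P.obj ((DCoh.sheafHom F).obj N) ⟶ C.X 0 := (preP P π).app N ≫ (e 0).inv
    have hk0 : k ≫ C.d 0 1 = 0 := by
      rw [← cancel_mono (e 1).hom, zero_comp, Category.assoc, hC 0, Category.assoc, Iso.inv_hom_id_assoc]
      exact preP_comp_preP P N _ _ hπ
    have hlim : IsLimit (KernelFork.ofι k hk0) :=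
      KernelFork.IsLimit.ofι' _ _ fun {Y} y hy => by
        have hy' : (y ≫ (e 0).hom) ≫ (preP P (E.d 1 0)).app N = 0 := by
          rw [Category.assoc, ← hC 0, ← Category.assoc, hy, zero_comp]
        refine ⟨(KernelFork.IsLimit.lift' hk' _ hy').1, ?_⟩
        refine (Category.assoc _ _ _).symm.trans ((Iso.comp_inv_eq _).2 ?_)
        exact (KernelFork.IsLimit.lift' hk' _ hy').2
    exact ⟨(CochainComplex.isoHomologyπ₀ C).symm ≪≫
      (C.cyclesIsKernel 0 1 (by simp)).conePointUniqueUpToIso hlim ≪≫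
      ((DCoh.sheafHom F ⋙ P).rightDerivedZeroIsoSelf.app N).symm⟩
  · have hd : ∀ j, E.d (j + 2) (j + 1) ≫ E.d (j + 1) j = 0 := fun j => E.d_comp_d _ _ _
    obtain ⟨a⟩ := nonempty_resolution_succP P N hP q E.X (fun j => E.d (j + 1) j) π ‹Epi π› hπ e₀ hd
      (fun j => (E.exactAt_iff' (j + 2) (j + 1) j (by simp) (by simp)).1 (hex j)) hE
    let b : C.sc' q (q + 1) (q + 2) ≅ ShortComplex.mk ((preP P (E.d (q + 1) q)).app N)
        ((preP P (E.d (q + 2) (q + 1))).app N) (preP_comp_preP P N _ _ (hd q)) :=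
      ShortComplex.isoMk (e q) (e (q + 1)) (e (q + 2)) (hC q).symm (hC (q + 1)).symm
    exact ⟨ShortComplex.homologyMapIso (C.isoSc' q (q + 1) (q + 2) (by simp) (by simp) ≪≫ b) ≪≫ a⟩

section Cmp

/-- Transport to the internal Hom of the prelude. -/
def relIso (F : X.Modules) [ModSite.HasSheafHom (O := X.sheaf) F] :
    @Iso (X.Modules ⥤ D) _ (ModSite.sheafHom (O := X.sheaf) F ⋙ P) (DCoh.sheafHom F ⋙ P) :=
  Functor.isoWhiskerRight (homIso F) P

lemma relIso_natural {M M' : X.Modules} [ModSite.HasSheafHom (O := X.sheaf) M]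
    [ModSite.HasSheafHom (O := X.sheaf) M'] (φ : M' ⟶ M) :
    Functor.whiskerRight (ExtSupp.sheafHomMap (O := X.sheaf) φ) P ≫ (relIso P M').hom =
      (relIso P M).hom ≫ preP P φ := by
  ext N
  show P.map _ ≫ P.map _ = P.map _ ≫ P.map _
  rw [← P.map_comp, ← P.map_comp, sheafHomMap_homIso]

/-- Transport of the derived functors. -/
def relR (F : X.Modules) [ModSite.HasSheafHom (O := X.sheaf) F]
    [hA : @Functor.Additive X.Modules D _ _ _ _ (ModSite.sheafHom (O := X.sheaf) F ⋙ P)] (p : ℕ) :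
    Functor.rightDerived (C := X.Modules) (D := D) (ModSite.sheafHom (O := X.sheaf) F ⋙ P) p ≅ RP P F p :=
  GrothSS.rightDerivedMapIso (C := X.Modules) (D := D) (relIso P F) p

lemma relR_natural {M M' : X.Modules} [ModSite.HasSheafHom (O := X.sheaf) M]
    [ModSite.HasSheafHom (O := X.sheaf) M'] (φ : M' ⟶ M)
    [hA : @Functor.Additive X.Modules D _ _ _ _ (ModSite.sheafHom (O := X.sheaf) M ⋙ P)]
    [hA' : @Functor.Additive X.Modules D _ _ _ _ (ModSite.sheafHom (O := X.sheaf) M' ⋙ P)] (p : ℕ) :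
    NatTrans.rightDerived (C := X.Modules) (Functor.whiskerRight (ExtSupp.sheafHomMap (O := X.sheaf) φ) P) p ≫
      (relR P M' p).hom = (relR P M p).hom ≫ NatTrans.rightDerived (preP P φ) p := by
  refine (NatTrans.rightDerived_comp (C := X.Modules) _ _ p).symm.trans (Eq.trans ?_
    (NatTrans.rightDerived_comp (C := X.Modules) _ _ p))
  exact congrArg (fun t => NatTrans.rightDerived (C := X.Modules) t p) (relIso_natural P φ)

end Cmp

theorem good_pushforward {Y : Scheme.{u}} (f : X ⟶ Y) : Good (Scheme.Modules.pushforward f) :=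
  fun _ hS I hI => haveI := hI; epi_push_pre f hS I

end Groth.Agent.ExtShX
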