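import Groth.Agent.ExtShX.RelTensor
import Groth.Agent.ExtShX.TwistCover
import Groth.Agent.ExtShX.CohLocal
import Groth.Agent.CohFinite.RPushCoh
import Groth.Agent.CohFinite.Ample
import Groth.Agent.W7Hull.RelVanish

/-!
Coherence of relative Ext sheaves over an affine base.
-/

set_option autoImplicit false
set_option linter.style.haveILetI false
set_option linter.unusedSectionVars false
set_option backward.isDefEq.respectTransparency false
set_option backward.isDefEq.respectTransparency.types false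

universe u

open CategoryTheory CategoryTheory.Limits AlgebraicGeometry TopologicalSpace Opposite

noncomputable section

namespace Groth.Agent.ExtShX

variable {X Y : Scheme.{u}} (f : X ⟶ Y)

/-- Vanishing for finite sums. -/
theorem isZero_RP_sum [PreservesFiniteLimits (Scheme.Modules.pushforward f)] (D G : X.Modules)
    (hD : ∀ q, IsZero ((RP (Scheme.Modules.pushforward f) D (q + 1)).obj G)) : ∀ (r : ℕ) (q : ℕ),
    IsZero ((RP (Scheme.Modules.pushforward f) (∐ fun _ : Fin r => D) (q + 1)).obj G) := by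
  intro r
  induction r with
  | zero =>
    intro q
    have hz : IsZero (∐ fun _ : Fin 0 => D) := by
      rw [IsZero.iff_id_eq_zero]; exact Sigma.hom_ext _ _ fun i => i.elim0
    let Z := ∐ fun _ : Fin 0 => D
    let S : ShortComplex X.Modules := ShortComplex.mk (0 : Z ⟶ D) (𝟙 D) (hz.eq_of_src _ _)
    let sp : S.Splitting := { r := 0, s := 𝟙 D, f_r := hz.eq_of_src _ _, s_g := Category.id_comp _, id := by simp [S] }
    have hS : S.ShortExact := sp.shortExact
    obtain ⟨w₁, e₁⟩ := exact_connP₁ (Scheme.Modules.pushforward f) hS G (good_pushforward f) (q + 1)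
    haveI : IsIso ((NatTrans.rightDerived (preP (Scheme.Modules.pushforward f) S.f) (q + 1)).app G) := by
      obtain ⟨w, e⟩ := exact_preP (Scheme.Modules.pushforward f) hS G (good_pushforward f) (q + 1)
      haveI : Mono ((NatTrans.rightDerived (preP (Scheme.Modules.pushforward f) S.f) (q + 1)).app G) :=
        e.mono_g ((hD q).eq_of_src _ _)
      haveI : Epi ((NatTrans.rightDerived (preP (Scheme.Modules.pushforward f) S.f) (q + 1)).app G) :=
        e₁.epi_f ((hD (q + 1)).eq_of_tgt _ _)
      exact isIso_of_mono_of_epi _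
    exact (hD q).of_iso (asIso ((NatTrans.rightDerived (preP (Scheme.Modules.pushforward f) S.f) (q + 1)).app G)).symm
  | succ r ih =>
    intro q
    let a : (∐ fun _ : Fin r => D) ⟶ (∐ fun _ : Fin (r + 1) => D) :=
      Sigma.desc fun i => Sigma.ι (fun _ : Fin (r + 1) => D) i.succ
    let b : (∐ fun _ : Fin (r + 1) => D) ⟶ D := Sigma.desc (Fin.cons (𝟙 D) fun _ => 0)
    have w : a ≫ b = 0 := Sigma.hom_ext _ _ fun i => by simp [a, b]
    let S : ShortComplex X.Modules := ShortComplex.mk a b w
    let sp : S.Splitting :=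
      { r := Sigma.desc (Fin.cons 0 fun i => Sigma.ι (fun _ : Fin r => D) i)
        s := Sigma.ι (fun _ : Fin (r + 1) => D) 0
        f_r := Sigma.hom_ext _ _ fun i => by simp [S, a]
        s_g := by simp [S, b]
        id := Sigma.hom_ext _ _ fun i => by
          refine Fin.cases ?_ (fun j => ?_) i
          · simp [S, a, b]
          · simp [S, a, b] }
    obtain ⟨w', e⟩ := exact_preP (Scheme.Modules.pushforward f) sp.shortExact G (good_pushforward f) (q + 1)
    exact e.isZero_X₂ ((hD q).eq_of_src _ _) ((ih q).eq_of_tgt _ _)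

theorem isZero_of_toAb {M : Y.Modules} (h : IsZero (Coh.toAb M)) : IsZero M := by
  rw [IsZero.iff_id_eq_zero]
  exact (SheafOfModules.toSheaf Y.ringCatSheaf).map_injective (h.eq_of_src _ _)

/-- Vanishing for a twist. -/
theorem isZero_RP_dual [IsAffine Y] [QuasiCompact f] [QuasiSeparated f] [PreservesFiniteLimits (Scheme.Modules.pushforward f)]
    {P : X.Modules} (hP : PicF.IsInvertible P) (G : X.Modules) (hG : Coh.IsQCoh G)
    (h : ∀ p, Subsingleton (Coh.HH X (CohB1.tensorMod G P) (p + 1))) (q : ℕ) :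
    IsZero ((RP (Scheme.Modules.pushforward f) (RefHull.dual P) (q + 1)).obj G) := by
  have hPf := ResDesc.isFinLocFree_of_isInvertible hP
  have hD := ResDesc.isFinLocFree_dual hPf
  obtain ⟨hh, hi⟩ := exact_sheafHom_locFree hD
  haveI := hh
  haveI := hi
  haveI : HasInjectiveResolutions X.Modules := RPushQC.hasInjectiveResolutions X
  obtain ⟨d⟩ := nonempty_homDual hD G
  haveI := isIso_bidualMap hPf
  let e₁ : (DCoh.sheafHom (RefHull.dual P)).obj G ≅ CohB1.tensorMod G P :=
    d ≪≫ PicGrp.tensorModIso (Iso.refl G)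
      ((W7Hull.sheafHomIso (RefHull.dual P)).app (Coh.structureModule X) ≪≫ (asIso (RefHull.bidualMap P)).symm)
  have hq : Coh.IsQCoh (CohB1.tensorMod G P) := haveI : G.IsQuasicoherent := hG; TMul.isQCoh_tensor hP
  have hab : IsZero ((Coh.RpushAb f (q + 1)).obj (Coh.toAb (CohB1.tensorMod G P))) := by
    refine W7Hull.isZero_rpushAb_of_cover f _ hq (q + 1) fun y => ⟨⊤, isAffineOpen_top Y, trivial, ?_⟩
    exact (SiteCoh.huTerminalEquiv (Opens.grothendieckTopology X) isTerminalTop (Coh.toAb _) (q + 1)).toEquiv.subsingleton_congr.1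
      (h q)
  obtain ⟨t⟩ := CohQC.toAb_rpush_iso f (CohB1.tensorMod G P) (q + 1)
  have hz : IsZero ((Coh.Rpush f (q + 1)).obj (CohB1.tensorMod G P)) := isZero_of_toAb (hab.of_iso t)
  exact (hz.of_iso (((Scheme.Modules.pushforward f).rightDerived (q + 1)).mapIso e₁)).of_iso
    ((DerExt.rightDerivedCompIso (DCoh.sheafHom (RefHull.dual P)) (Scheme.Modules.pushforward f) (q + 1)).app G)

/-- Coherence of relative Ext sheaves. -/
theorem isCoh_RP_affine [IsAffine Y] [IsLocallyNoetherian Y] [IsProper f]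
    [PreservesFiniteLimits (Scheme.Modules.pushforward f)] {L : X.Modules} (hL : CohB1.IsAmple L)
    (G : X.Modules) (hG : Coh.IsCoh G) : ∀ (p : ℕ) (F : X.Modules), Coh.IsCoh F →
      Coh.IsCoh ((RP (Scheme.Modules.pushforward f) F p).obj G) := by
  haveI : IsLocallyNoetherian X := LocallyOfFiniteType.isLocallyNoetherian f
  haveI : HasInjectiveResolutions X.Modules := RPushQC.hasInjectiveResolutions X
  let P' := Scheme.Modules.pushforward f
  haveI : IsNoetherianRing Γ(Y, ⊤) := IsLocallyNoetherian.component_noetherian ⟨⊤, isAffineOpen_top Y⟩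
  obtain ⟨v, hv⟩ := CohFinite.vanish_ample (R := Γ(Y, ⊤)) (f ≫ Y.isoSpec.hom) hL hG
  have h0 : ∀ F : X.Modules, Coh.IsCoh F → Coh.IsCoh ((DCoh.sheafHom F ⋙ P').obj G) := fun F hF =>
    CohFinite.isCoh_of_iso (P'.rightDerivedZeroIsoSelf.app ((DCoh.sheafHom F).obj G))
      (CohFinite.isCoh_rpush f _ (CohFinite.isCoh_of_iso (zeroIso F G) (isCoh_R_loc F G hF hG 0)) 0)
  intro p
  induction p with
  | zero =>
    intro F hF
    exact CohFinite.isCoh_of_iso ((DCoh.sheafHom F ⋙ P').rightDerivedZeroIsoSelf.app G).symm (h0 F hF)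
  | succ p ih =>
    intro F hF
    obtain ⟨n₀, hn⟩ := exists_cover_twists hL F hF.1 hF.2
    obtain ⟨r, π, hπ⟩ := hn (max n₀ v) (le_max_left _ _)
    let E := ∐ fun _ : Fin r => RefHull.dual (CohB1.tensorPow L (max n₀ v))
    have hP := TMul.isInvertible_tensorPow hL.1 (max n₀ v)
    have hE : FlatMod.IsFinLocFree E := DerPerf.isFinLocFree_of_isColimit Finset.univ (coproductIsCoproduct _)
      (fun i h => absurd (Finset.mem_univ i) h) fun _ _ => ResDesc.isFinLocFree_dual (ResDesc.isFinLocFree_of_isInvertible hP)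
    have hEc : Coh.IsCoh E := ⟨LocFree.isQCoh_of_isFinLocFree hE, LocFree.isFT_of_isFinLocFree hE⟩
    let S : ShortComplex X.Modules := ShortComplex.mk (kernel.ι π) π (kernel.condition π)
    have hS : S.ShortExact := { exact := ShortComplex.exact_kernel π }
    have hK : Coh.IsCoh S.X₁ := Groth.Agent.QC.isCoh_kernel hEc hF.1 π
    have hmid : ∀ q, IsZero ((RP P' S.X₂ (q + 1)).obj G) :=
      isZero_RP_sum f _ G (isZero_RP_dual f hP G hG.1 fun j => hv _ (le_max_right _ _) j) r
    rcases p with _ | q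
    · obtain ⟨e⟩ := nonempty_firstOneP P' hS G (good_pushforward f) hmid
      exact CohFinite.isCoh_of_iso e.symm (Groth.Agent.QC.isCoh_cokernel (h0 E hEc).1 (h0 _ hK) _)
    · obtain ⟨e⟩ := nonempty_firstShiftP P' hS G (good_pushforward f) hmid q
      exact CohFinite.isCoh_of_iso e.symm (ih _ hK)

end Groth.Agent.ExtShX
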