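import Groth.Agent.GrothSS.Ext
import Groth.Agent.DerExt.Comp
import Groth.Agent.ModSiteExt.Consequences
import Groth.Agent.ModSiteFlat.PushColim
import Groth.Prelude.Def_ModSite2

/-!
Ext sheaves commute with restriction on a ringed site.
-/

set_option autoImplicit false
set_option linter.style.haveILetI false
set_option linter.unusedSectionVars false
set_option backward.isDefEq.respectTransparency false
set_option backward.isDefEq.respectTransparency.types false

universe v v' v'' u u' u''

open CategoryTheory Category Limits Opposite

noncomputable section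

namespace Groth.Agent.ExtShX

variable {C : Type u} [Category.{v} C] [Abelian C] [HasInjectiveResolutions C]
  {D : Type u'} [Category.{v'} D] [Abelian D] {E : Type u''} [Category.{v''} E] [Abelian E]

/-- Post-composition with an exact functor, naturally. -/
def postCompIso (F : C ⥤ D) [F.Additive] (G : D ⥤ E) [G.Additive] [G.PreservesHomology] (n : ℕ) :
    (F ⋙ G).rightDerived n ≅ F.rightDerived n ⋙ G :=
  NatIso.ofComponents
    (fun X => (injectiveResolution X).isoRightDerivedObj (F ⋙ G) n ≪≫
      ((injectiveResolution X).cocomplex |> fun K => (((F.mapHomologicalComplex _).obj K).sc n).mapHomologyIso G) ≪≫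
      G.mapIso ((injectiveResolution X).isoRightDerivedObj F n).symm)
    (fun {X Y} f => by
      let φ := InjectiveResolution.desc f (injectiveResolution Y) (injectiveResolution X)
      have hφ : (injectiveResolution X).ι.f 0 ≫ φ.f 0 = f ≫ (injectiveResolution Y).ι.f 0 :=
        InjectiveResolution.desc_commutes_zero f _ _
      have h1 := InjectiveResolution.isoRightDerivedObj_hom_naturality f (injectiveResolution X)
        (injectiveResolution Y) φ hφ (F ⋙ G) n
      have h2 := InjectiveResolution.isoRightDerivedObj_inv_naturality f (injectiveResolution X)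
        (injectiveResolution Y) φ hφ F n
      have h3 := ShortComplex.mapHomologyIso_hom_naturality
        ((HomologicalComplex.shortComplexFunctor D (ComplexShape.up ℕ) n).map ((F.mapHomologicalComplex _).map φ)) G
      refine ((reassoc_of% h1) _).trans (Eq.trans ?_ (Category.assoc _ _ _).symm)
      refine congrArg (((injectiveResolution X).isoRightDerivedObj (F ⋙ G) n).hom ≫ ·) ?_
      refine ((reassoc_of% h3) _).trans (Eq.trans ?_ (Category.assoc _ _ _).symm)
      refine congrArg ((ShortComplex.mapHomologyIso _ G).hom ≫ ·) ?_
      refine (G.map_comp _ _).symm.trans (Eq.trans ?_ (G.map_comp _ _))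
      exact congrArg G.map h2.symm)

section Site

universe w

variable {C : Type w} [SmallCategory C] {J : GrothendieckTopology C} (O : Sheaf J CommRingCat.{w}) (X : C)

/-- `ℰxt^q(M, -)|_X ≅ ℰxt^q(M|_X, -|_X)`. -/
theorem nonempty_extSh_restr (M : ModSite.Mod O) [ModSite.HasSheafHom M]
    [ModSite.HasSheafHom ((ModSite.restr O X).obj M)]
    [HasInjectiveResolutions (ModSite.Mod O)] [HasInjectiveResolutions (ModSite.Mod (O.over X))] (q : ℕ) :
    Nonempty (ModSite.extSh M q ⋙ ModSite.restr O X ≅
      ModSite.restr O X ⋙ ModSite.extSh ((ModSite.restr O X).obj M) q) := by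
  haveI : PreservesColimitsOfSize.{w, w} (ModSite.restr O X) :=
    ModSiteFlat.preservesColimits_pushforward (F := Over.forget X) _
  haveI : PreservesColimitsOfSize.{0, 0} (ModSite.restr O X) := preservesSmallestColimits_of_preservesColimits _
  haveI : PreservesLimitsOfSize.{0, 0} (ModSite.restr O X) :=
    (ModSite.extZeroAdj O X).rightAdjoint_preservesLimits
  haveI := preservesBinaryBiproducts_of_preservesBinaryProducts (ModSite.restr O X)
  haveI : (ModSite.restr O X).Additive := Functor.additive_of_preservesBinaryBiproducts _
  haveI : (ModSite.restr O X).PreservesHomology := Functor.preservesHomologyOfExact _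
  haveI := ModSiteExt.preservesFiniteLimits_extZero O X
  haveI : (ModSite.restr O X).PreservesInjectiveObjects :=
    ⟨fun {I} hI => @Injective.injective_of_adjoint _ _ _ _ _ _ inferInstance (ModSite.extZeroAdj O X) I hI⟩
  obtain ⟨e⟩ := ModSiteExt.nonempty_restrSheafHomIso O X M
  exact ⟨(postCompIso (ModSite.sheafHom M) (ModSite.restr O X) q).symm ≪≫ GrothSS.rightDerivedMapIso e q ≪≫
    DerExt.rightDerivedCompIso (ModSite.restr O X) (ModSite.sheafHom ((ModSite.restr O X).obj M)) q⟩

end Site

end Groth.Agent.ExtShX
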