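import Groth.Agent.ExtShX.Twist
import Groth.Agent.ExtShX.SiteRestr
import Groth.Agent.RHomCx.Restrict
import Groth.Agent.W7ExtZero.Basic

/-!
Ext sheaves commute with restriction to open subschemes.
-/

set_option autoImplicit false
set_option linter.style.haveILetI false
set_option linter.unusedSectionVars false
set_option backward.isDefEq.respectTransparency false
set_option backward.isDefEq.respectTransparency.types false

universe u

open CategoryTheory CategoryTheory.Limits AlgebraicGeometry TopologicalSpace Opposite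
open Groth.Agent.KFlat

noncomputable section

namespace Groth.Agent.ExtShX

variable {X : Scheme.{u}} (U : X.Opens)

/-- `j_! ⊣ j^*` with `j^*` the pullback. -/
def adjE : CxOX.extZero U.ι ⊣ Scheme.Modules.pullback U.ι :=
  (CxOX.extZeroAdj U.ι).ofNatIsoRight (Scheme.Modules.restrictFunctorIsoPullback U.ι)

lemma isIso_adjE_unit (A : (U : Scheme.{u}).Modules) : IsIso ((adjE U).unit.app A) := by
  haveI := ProjForm.isIso_extZero_unit U.ι
  have h : (adjE U).unit.app A = (CxOX.extZeroAdj U.ι).unit.app A ≫
      (Scheme.Modules.restrictFunctorIsoPullback U.ι).hom.app _ := by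
    rw [← Adjunction.homEquiv_id, Adjunction.homEquiv_unit]
    simp [adjE, Adjunction.ofNatIsoRight]
  rw [h]
  infer_instance

variable (M : X.Modules)

/-- `j_!(A ⊗ M|_U) ⟶ j_!A ⊗ M`. -/
def thetaM (A : (U : Scheme.{u}).Modules) :
    (CxOX.extZero U.ι).obj (((schB (U : Scheme.{u})).obj A).obj ((Scheme.Modules.pullback U.ι).obj M)) ⟶
      ((schB X).obj ((CxOX.extZero U.ι).obj A)).obj M :=
  ((adjE U).homEquiv _ _).symm
    (((schB (U : Scheme.{u})).map ((adjE U).unit.app A)).app _ ≫ (pullTensorIso U.ι _ M).hom)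

lemma thetaM_natural {A A' : (U : Scheme.{u}).Modules} (a : A ⟶ A') :
    (CxOX.extZero U.ι).map (((schB (U : Scheme.{u})).map a).app _) ≫ thetaM U M A' =
      thetaM U M A ≫ ((schB X).map ((CxOX.extZero U.ι).map a)).app M := by
  refine ((adjE U).homEquiv _ _).injective ?_
  rw [(adjE U).homEquiv_naturality_left, (adjE U).homEquiv_naturality_right, thetaM, thetaM, Equiv.apply_symm_apply,
    Equiv.apply_symm_apply, Category.assoc, ← Category.assoc (((schB (U : Scheme.{u})).map a).app _),
    ← NatTrans.comp_app, ← Functor.map_comp]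
  have hn : a ≫ (adjE U).unit.app A' = (adjE U).unit.app A ≫
      (Scheme.Modules.pullback U.ι).map ((CxOX.extZero U.ι).map a) :=
    (adjE U).unit.naturality a
  rw [hn, Functor.map_comp, NatTrans.comp_app, Category.assoc]
  exact congrArg (_ ≫ ·) (pullTensorIso_natural_left U.ι ((CxOX.extZero U.ι).map a) M)

lemma isIso_thetaM (A : (U : Scheme.{u}).Modules) : IsIso (thetaM U M A) := by
  haveI := isIso_adjE_unit U A
  let B := ((schB (U : Scheme.{u})).obj A).obj ((Scheme.Modules.pullback U.ι).obj M)
  haveI := isIso_adjE_unit U B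
  have h : (adjE U).unit.app B ≫ (Scheme.Modules.pullback U.ι).map (thetaM U M A) =
      ((schB (U : Scheme.{u})).map ((adjE U).unit.app A)).app _ ≫ (pullTensorIso U.ι _ M).hom :=
    ((adjE U).homEquiv_unit _ _ _).symm.trans (Equiv.apply_symm_apply _ _)
  haveI : IsIso ((adjE U).unit.app B ≫ (Scheme.Modules.pullback U.ι).map (thetaM U M A)) := by
    rw [h]; infer_instance
  haveI hP : IsIso ((Scheme.Modules.pullback U.ι).map (thetaM U M A)) :=
    IsIso.of_isIso_comp_left ((adjE U).unit.app B) _
  refine isIso_of_stalks _ fun y => ?_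
  by_cases hy : y ∈ U
  · have h2 := (NatIso.isIso_map_iff (Scheme.Modules.restrictFunctorIsoPullback U.ι) _).2 hP
    exact (ProjForm.isIso_restrictJ_iff U.ι _).1 h2 y (by rw [Scheme.Opens.opensRange_ι]; exact hy)
  · refine (RHomCx.isZero_stalk_extZero U _ y hy).isIso (f := _) ?_
    exact IsZero.of_iso (((MonoidalCategory.curriedTensor _).flip.obj _).map_isZero
      (RHomCx.isZero_stalk_extZero U A y hy)) (stTensorIso _ M y).symm

/-- `j_!(- ⊗ M|_U) ≅ j_!(-) ⊗ M`. -/
def projIsoM : (schB (U : Scheme.{u})).flip.obj ((Scheme.Modules.pullback U.ι).obj M) ⋙ CxOX.extZero U.ι ≅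
    CxOX.extZero U.ι ⋙ (schB X).flip.obj M :=
  haveI := isIso_thetaM U M
  NatIso.ofComponents (fun A => asIso (thetaM U M A)) fun a => thetaM_natural U M a

/-- `ℋom` commutes with restriction. -/
theorem nonempty_homRestrict : Nonempty (DCoh.sheafHom M ⋙ Scheme.Modules.pullback U.ι ≅
    Scheme.Modules.pullback U.ι ⋙ DCoh.sheafHom ((Scheme.Modules.pullback U.ι).obj M)) := by
  let a := (DCoh.sheafHomAdj M).ofNatIsoLeft ((KFlat.braid X.sheaf).app M)
  let b := (DCoh.sheafHomAdj ((Scheme.Modules.pullback U.ι).obj M)).ofNatIsoLeft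
    ((KFlat.braid (U : Scheme.{u}).sheaf).app ((Scheme.Modules.pullback U.ι).obj M))
  exact ⟨(((adjE U).comp a).ofNatIsoLeft (projIsoM U M).symm).rightAdjointUniq (b.comp (adjE U))⟩

/-- `ℰxt` commutes with restriction. -/
theorem nonempty_R_restrict (q : ℕ) : Nonempty (R M q ⋙ Scheme.Modules.pullback U.ι ≅
    Scheme.Modules.pullback U.ι ⋙ R ((Scheme.Modules.pullback U.ι).obj M) q) := by
  let P := Scheme.Modules.pullback U.ι
  haveI := DQPush.preservesFiniteLimits_extZero U
  haveI : PreservesLimitsOfSize.{0, 0} P := (adjE U).rightAdjoint_preservesLimits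
  haveI : PreservesColimitsOfSize.{u, u} P :=
    (Scheme.Modules.pullbackPushforwardAdjunction U.ι).leftAdjoint_preservesColimits
  haveI : PreservesColimitsOfSize.{0, 0} P := preservesSmallestColimits_of_preservesColimits _
  haveI := preservesBinaryBiproducts_of_preservesBinaryProducts P
  haveI : P.Additive := Functor.additive_of_preservesBinaryBiproducts _
  haveI : P.PreservesHomology := Functor.preservesHomologyOfExact _
  haveI : P.PreservesInjectiveObjects :=
    ⟨fun {I} hI => @Injective.injective_of_adjoint _ _ _ _ _ _ inferInstance (adjE U) I hI⟩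
  obtain ⟨e⟩ := nonempty_homRestrict U M
  exact ⟨(postCompIso (DCoh.sheafHom M) P q).symm ≪≫ GrothSS.rightDerivedMapIso e q ≪≫
    DerExt.rightDerivedCompIso P (DCoh.sheafHom (P.obj M)) q⟩

end Groth.Agent.ExtShX
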