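import Groth.Agent.ExtShX.Rel
import Groth.Agent.ExtShX.Restrict
import Groth.Agent.RelPCS.Push

/-!
Relative Ext sheaves commute with restriction to open subsets of the base.
-/

set_option autoImplicit false
set_option linter.style.haveILetI false
set_option linter.unusedSectionVars false
set_option backward.isDefEq.respectTransparency false
set_option backward.isDefEq.respectTransparency.types false

universe u

open CategoryTheory CategoryTheory.Limits AlgebraicGeometry TopologicalSpace Opposite

noncomputable section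

namespace Groth.Agent.ExtShX

variable {X Y : Scheme.{u}}

theorem preservesFiniteLimits_pushforward (f : X ⟶ Y) : PreservesFiniteLimits (Scheme.Modules.pushforward f) := by
  haveI : PreservesLimitsOfSize.{0, 0} (Scheme.Modules.pushforward f) :=
    (Scheme.Modules.pullbackPushforwardAdjunction f).rightAdjoint_preservesLimits
  infer_instance

/-- Restriction to an open subscheme preserves finite limits, colimits and injectives. -/
theorem restrict_props (U : X.Opens) : PreservesFiniteLimits (Scheme.Modules.restrictFunctor U.ι) ∧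
    PreservesFiniteColimits (Scheme.Modules.restrictFunctor U.ι) ∧
      (Scheme.Modules.restrictFunctor U.ι).PreservesInjectiveObjects := by
  let P := Scheme.Modules.pullback U.ι
  haveI := DQPush.preservesFiniteLimits_extZero U
  haveI : PreservesLimitsOfSize.{0, 0} P := (adjE U).rightAdjoint_preservesLimits
  haveI : PreservesColimitsOfSize.{u, u} P :=
    (Scheme.Modules.pullbackPushforwardAdjunction U.ι).leftAdjoint_preservesColimits
  haveI : PreservesColimitsOfSize.{0, 0} P := preservesSmallestColimits_of_preservesColimits _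
  exact ⟨preservesFiniteLimits_of_natIso (Scheme.Modules.restrictFunctorIsoPullback U.ι).symm,
    preservesFiniteColimits_of_natIso (Scheme.Modules.restrictFunctorIsoPullback U.ι).symm,
    ⟨fun {I} hI => Injective.of_iso ((Scheme.Modules.restrictFunctorIsoPullback U.ι).app I).symm
      (@Injective.injective_of_adjoint _ _ _ _ _ _ inferInstance (adjE U) I hI)⟩⟩

/-- Relative Ext sheaves and open subsets of the base. -/
theorem nonempty_RP_restrict (f : X ⟶ Y) (W : Y.Opens) (F G : X.Modules)
    [PreservesFiniteLimits (Scheme.Modules.pushforward f)] (p : ℕ) :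
    Nonempty ((Scheme.Modules.restrictFunctor W.ι).obj ((RP (Scheme.Modules.pushforward f) F p).obj G) ≅
      (RP (Scheme.Modules.pushforward (f ∣_ W)) (F.restrict (f ⁻¹ᵁ W).ι) p).obj (G.restrict (f ⁻¹ᵁ W).ι)) := by
  let V := f ⁻¹ᵁ W
  let RW := Scheme.Modules.restrictFunctor W.ι
  let RV := Scheme.Modules.restrictFunctor V.ι
  obtain ⟨hW1, hW2, -⟩ := restrict_props W
  obtain ⟨hV1, hV2, hV3⟩ := restrict_props V
  haveI := hW1
  haveI := hW2
  haveI := hV1
  haveI := hV2
  haveI := hV3
  haveI := preservesFiniteLimits_pushforward (f ∣_ W)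
  haveI : RW.Additive := inferInstance
  haveI : RV.Additive := inferInstance
  haveI : RV.PreservesHomology := Functor.preservesHomologyOfExact _
  obtain ⟨e⟩ := nonempty_homRestrict V F
  let i := (Scheme.Modules.restrictFunctorIsoPullback V.ι)
  let h : DCoh.sheafHom F ⋙ RV ≅ RV ⋙ DCoh.sheafHom (F.restrict V.ι) :=
    Functor.isoWhiskerLeft _ i ≪≫ e ≪≫ Functor.isoWhiskerRight i.symm _ ≪≫
      Functor.isoWhiskerLeft _ (conjugateIsoEquiv (DCoh.sheafHomAdj _) (DCoh.sheafHomAdj _) ((DCoh.tensorBi (X := (V : Scheme.{u}))).mapIso (i.app F)))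
  let φ : (DCoh.sheafHom F ⋙ Scheme.Modules.pushforward f) ⋙ RW ≅
      RV ⋙ (DCoh.sheafHom (F.restrict V.ι) ⋙ Scheme.Modules.pushforward (f ∣_ W)) :=
    Functor.associator _ _ _ ≪≫ Functor.isoWhiskerLeft _ (RelPCS.pushRestrIso f W) ≪≫
      (Functor.associator _ _ _).symm ≪≫ Functor.isoWhiskerRight h _ ≪≫ Functor.associator _ _ _
  obtain ⟨j⟩ := GrothSS.nonempty_rightDerived_comp_exact (DCoh.sheafHom F ⋙ Scheme.Modules.pushforward f) RW p G
  exact ⟨j.symm ≪≫ (GrothSS.rightDerivedMapIso φ p).app G ≪≫
    (DerExt.rightDerivedCompIso RV (DCoh.sheafHom (F.restrict V.ι) ⋙ Scheme.Modules.pushforward (f ∣_ W)) p).app G⟩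

end Groth.Agent.ExtShX
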