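import Groth.Agent.ExtShX.Divisor
import Groth.Prelude.Def_ExtSupp

/-!
`ℰxt` sheaves from a finite locally free resolution of the first argument.
-/

set_option autoImplicit false
set_option linter.style.haveILetI false
set_option linter.unusedSectionVars false
set_option backward.isDefEq.respectTransparency false
set_option backward.isDefEq.respectTransparency.types false

universe v u

open CategoryTheory CategoryTheory.Limits AlgebraicGeometry TopologicalSpace Opposite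

noncomputable section

namespace Groth.Agent.ExtShX

section Adj

variable {C D : Type*} [Category C] [Category D]

lemma homEquiv_conjugate {L L' : C ⥤ D} {R R' : D ⥤ C} (a : L ⊣ R) (b : L' ⊣ R') (α : L' ⟶ L)
    {Y : C} {N : D} (g : L.obj Y ⟶ N) :
    a.homEquiv Y N g ≫ (conjugateEquiv a b α).app N = b.homEquiv Y N (α.app Y ≫ g) := by
  rw [Adjunction.homEquiv_unit, Adjunction.homEquiv_unit, Category.assoc,
    (conjugateEquiv a b α).naturality g, ← Category.assoc, Functor.map_comp, ← Category.assoc]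
  exact congrArg (· ≫ R'.map g) (unit_conjugateEquiv a b α Y)

lemma homEquiv_uniq {L L' : C ⥤ D} {R R' : D ⥤ C} (a : L ⊣ R) (b : L' ⊣ R') (t : L' ≅ L)
    {Y : C} {N : D} (g : L.obj Y ⟶ N) :
    a.homEquiv Y N g ≫ (a.rightAdjointUniq (b.ofNatIsoLeft t)).hom.app N =
      b.homEquiv Y N (t.hom.app Y ≫ g) := by
  refine (homEquiv_conjugate a (b.ofNatIsoLeft t) (𝟙 L) g).trans ?_
  rw [NatTrans.id_app, Category.id_comp, Adjunction.homEquiv_unit, Adjunction.homEquiv_unit]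
  simp [Adjunction.ofNatIsoLeft]

lemma conjugate_uniq {L₁ L₁' L₂ L₂' : C ⥤ D} {R₁ R₁' R₂ R₂' : D ⥤ C} (a₁ : L₁ ⊣ R₁) (b₁ : L₁' ⊣ R₁')
    (t₁ : L₁' ≅ L₁) (a₂ : L₂ ⊣ R₂) (b₂ : L₂' ⊣ R₂') (t₂ : L₂' ≅ L₂) (α : L₂ ⟶ L₁) (β : L₂' ⟶ L₁')
    (h : ∀ Y, t₂.hom.app Y ≫ α.app Y = β.app Y ≫ t₁.hom.app Y) (N : D) :
    (conjugateEquiv a₁ a₂ α).app N ≫ (a₂.rightAdjointUniq (b₂.ofNatIsoLeft t₂)).hom.app N =
      (a₁.rightAdjointUniq (b₁.ofNatIsoLeft t₁)).hom.app N ≫ (conjugateEquiv b₁ b₂ β).app N := by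
  obtain ⟨g, hg⟩ := (a₁.homEquiv (R₁.obj N) N).surjective (𝟙 _)
  rw [← Category.id_comp ((conjugateEquiv a₁ a₂ α).app N),
    ← Category.id_comp ((a₁.rightAdjointUniq (b₁.ofNatIsoLeft t₁)).hom.app N), ← hg,
    homEquiv_conjugate, homEquiv_uniq, homEquiv_uniq, homEquiv_conjugate, ← Category.assoc,
    h, Category.assoc]

end Adj

variable {X : Scheme.{u}}

lemma tensorIso_natural {M M' : X.Modules} (φ : M ⟶ M') (Y : X.Modules) :
    (W7Flasque.tensorIso M).inv.app Y ≫ ((ModSite.tensorBi X.sheaf).flip.map φ).app Y =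
      ((DCoh.tensorBi (X := X)).map φ).app Y ≫ (W7Flasque.tensorIso M').inv.app Y := by
  show DCoh.shP.map (β_ (DCoh.toP.obj M) (DCoh.toP.obj Y)).hom ≫
      DCoh.shP.map (MonoidalCategory.whiskerLeft (DCoh.toP.obj Y) (DCoh.toP.map φ)) =
    DCoh.shP.map (MonoidalCategory.whiskerRight (DCoh.toP.map φ) (DCoh.toP.obj Y)) ≫
      DCoh.shP.map (β_ (DCoh.toP.obj M') (DCoh.toP.obj Y)).hom
  rw [← Functor.map_comp, ← Functor.map_comp, BraidedCategory.braiding_naturality_left]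

/-- The internal Hom of the prelude is that of `DCoh`. -/
def homIso (M : X.Modules) [ModSite.HasSheafHom (O := X.sheaf) M] :
    @Iso (X.Modules ⥤ X.Modules) _ (ModSite.sheafHom (O := X.sheaf) M) (DCoh.sheafHom M) :=
  (ModSite.sheafHomAdj (O := X.sheaf) M).rightAdjointUniq
    ((DCoh.sheafHomAdj M).ofNatIsoLeft (W7Flasque.tensorIso M).symm)

lemma sheafHomMap_homIso {M M' : X.Modules} [ModSite.HasSheafHom (O := X.sheaf) M]
    [ModSite.HasSheafHom (O := X.sheaf) M'] (φ : M' ⟶ M) (N : X.Modules) :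
    (ExtSupp.sheafHomMap (O := X.sheaf) φ).app N ≫ (homIso M').hom.app N =
      (homIso M).hom.app N ≫ (pre φ).app N :=
  conjugate_uniq (C := X.Modules) (D := X.Modules) (ModSite.sheafHomAdj (O := X.sheaf) M) (DCoh.sheafHomAdj M)
    (W7Flasque.tensorIso M).symm (ModSite.sheafHomAdj (O := X.sheaf) M') (DCoh.sheafHomAdj M')
    (W7Flasque.tensorIso M').symm _ _ (fun Y => tensorIso_natural φ Y) N

lemma pre_comp {A B C : X.Modules} (a : A ⟶ B) (b : B ⟶ C) : pre (a ≫ b) = pre b ≫ pre a := by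
  unfold pre
  rw [conjugateEquiv_comp, ← Functor.map_comp]

lemma pre_zero_app {A B : X.Modules} (N : X.Modules) : (pre (0 : A ⟶ B)).app N = 0 := by
  obtain ⟨g, hg⟩ := ((DCoh.sheafHomAdj B).homEquiv _ N).surjective (𝟙 _)
  rw [← Category.id_comp ((pre (0 : A ⟶ B)).app N), ← hg, homEquiv_pre, Functor.map_zero]
  exact (congrArg _ (show (0 : ((DCoh.tensorBi (X := X)).obj A) ⟶ ((DCoh.tensorBi (X := X)).obj B)).app _ ≫ g = 0
    from zero_comp)).trans ((DCoh.sheafHomAdj A).homAddEquiv _ N).map_zero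

lemma pre_comp_pre {A B C : X.Modules} (a : A ⟶ B) (b : B ⟶ C) (h : a ≫ b = 0) (N : X.Modules) :
    (pre b).app N ≫ (pre a).app N = 0 := by
  rw [← NatTrans.comp_app, ← pre_comp, h, pre_zero_app]

/-- Left exactness in the first variable. -/
theorem pre_kernel (S : ShortComplex X.Modules) (hS : S.Exact) [Epi S.g] (I : X.Modules) :
    ∃ w, Mono ((pre S.g).app I) ∧ (ShortComplex.mk ((pre S.g).app I) ((pre S.f).app I) w).Exact := by
  have hT : ∀ Y : X.Modules, ∃ w, (ShortComplex.mk (((DCoh.tensorBi (X := X)).map S.f).app Y)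
      (((DCoh.tensorBi (X := X)).map S.g).app Y) w).Exact ∧ Epi (((DCoh.tensorBi (X := X)).map S.g).app Y) := fun Y => by
    let G := (DCoh.tensorBi (X := X)).flip.obj Y
    haveI : PreservesColimitsOfSize.{u, u} G := ModSiteTensor.preservesColimits_tensorBi_flip_obj X.sheaf Y
    haveI : PreservesColimitsOfSize.{0, 0} G := preservesSmallestColimits_of_preservesColimits _
    haveI := preservesBinaryBiproducts_of_preservesBinaryCoproducts G
    haveI := Functor.additive_of_preservesBinaryBiproducts G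
    exact ⟨_, ShortComplex.exact_of_g_is_cokernel (S.map G) (CokernelCofork.mapIsColimit _ hS.gIsCokernel G),
      inferInstanceAs (Epi (G.map S.g))⟩
  refine ⟨pre_comp_pre S.f S.g S.zero I, ?_, ?_⟩
  · refine Preadditive.mono_of_cancel_zero _ fun {Y} y hy => ?_
    obtain ⟨g, rfl⟩ := ((DCoh.sheafHomAdj S.X₃).homEquiv Y I).surjective y
    rw [homEquiv_pre] at hy
    have h0 := ((DCoh.sheafHomAdj S.X₂).homAddEquiv Y I).injective (hy.trans (map_zero _).symm)
    obtain ⟨w, -, he⟩ := hT Y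
    rw [(cancel_epi (((DCoh.tensorBi (X := X)).map S.g).app Y)).1 (h0.trans comp_zero.symm)]
    exact ((DCoh.sheafHomAdj S.X₃).homAddEquiv Y I).map_zero
  · rw [ShortComplex.exact_iff_exact_up_to_refinements]
    intro Y y hy
    obtain ⟨g, rfl⟩ := ((DCoh.sheafHomAdj S.X₂).homEquiv Y I).surjective y
    rw [homEquiv_pre] at hy
    have h0 := ((DCoh.sheafHomAdj S.X₁).homAddEquiv Y I).injective (hy.trans (map_zero _).symm)
    obtain ⟨w, hex, he⟩ := hT Y
    haveI : Epi (ShortComplex.mk _ _ w).g := he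
    refine ⟨Y, 𝟙 Y, inferInstance, (DCoh.sheafHomAdj S.X₃).homEquiv Y I (hex.desc g h0), ?_⟩
    rw [Category.id_comp, homEquiv_pre]
    exact congrArg _ (hex.g_desc g h0).symm

/-- Degree one. -/
theorem nonempty_resolution_one {F E₀ E₁ E₂ : X.Modules} (d₂ : E₂ ⟶ E₁) (d₁ : E₁ ⟶ E₀) (π : E₀ ⟶ F) [Epi π]
    (h₁ : d₁ ≫ π = 0) (e₀ : (ShortComplex.mk d₁ π h₁).Exact) (h₂ : d₂ ≫ d₁ = 0)
    (e₁ : (ShortComplex.mk d₂ d₁ h₂).Exact) (hE : FlatMod.IsFinLocFree E₀) (N : X.Modules) :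
    Nonempty ((ShortComplex.mk ((pre d₁).app N) ((pre d₂).app N) (pre_comp_pre d₂ d₁ h₂ N)).homology ≅
      (R F 1).obj N) := by
  let p : E₁ ⟶ kernel π := kernel.lift π d₁ h₁
  haveI : Epi p := e₀.epi_kernelLift
  let S : ShortComplex X.Modules := ShortComplex.mk (kernel.ι π) π (kernel.condition π)
  have hS : S.ShortExact := { exact := ShortComplex.exact_kernel π }
  obtain ⟨e⟩ := nonempty_firstOne hS N fun q => isZero_of_finLocFree E₀ hE q N
  have w' : d₂ ≫ p = 0 := by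
    rw [← cancel_mono (kernel.ι π), Category.assoc, kernel.lift_ι, h₂, zero_comp]
  haveI : Epi (ShortComplex.mk d₂ p w').g := ‹Epi p›
  obtain ⟨w, hm, hk⟩ := pre_kernel (ShortComplex.mk d₂ p w')
    ((ShortComplex.exact_iff_of_epi_of_isIso_of_mono
      (S₁ := ShortComplex.mk d₂ p w') (S₂ := ShortComplex.mk d₂ d₁ h₂)
      { τ₁ := 𝟙 _, τ₂ := 𝟙 _, τ₃ := kernel.ι π
        comm₁₂ := by simp
        comm₂₃ := by simp [p] }).2 e₁) N
  let T := ShortComplex.mk ((pre d₁).app N) ((pre d₂).app N) (pre_comp_pre d₂ d₁ h₂ N)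
  haveI : Mono ((pre p).app N) := hm
  have hi : IsLimit (KernelFork.ofι ((pre p).app N) (show (pre p).app N ≫ T.g = 0 from w)) := hk.fIsKernel
  have hf : hi.lift (KernelFork.ofι T.f T.zero) = (pre (kernel.ι π)).app N := by
    rw [← cancel_mono ((pre p).app N)]
    refine (hi.fac _ WalkingParallelPair.zero).trans ?_
    refine Eq.trans ?_ (congrArg (fun t => NatTrans.app t N) (pre_comp p (kernel.ι π)))
    exact congrArg (fun t => (pre t).app N) (kernel.lift_ι _ _ _).symm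
  let h : T.LeftHomologyData :=
    { K := _, H := cokernel ((pre (kernel.ι π)).app N), i := (pre p).app N, π := cokernel.π _, wi := w
      hi := hi
      wπ := by rw [hf]; exact cokernel.condition _
      hπ := CokernelCofork.IsColimit.ofπ _ _
        (fun g hg => cokernel.desc _ g (by rw [← hf]; exact hg))
        (fun g hg => cokernel.π_desc _ _ _)
        (fun g hg m hm => coequalizer.hom_ext (hm.trans (cokernel.π_desc _ _ _).symm)) }
  exact ⟨h.homologyIso ≪≫ e.symm⟩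

/-- Positive degrees. -/
theorem nonempty_resolution_succ (N : X.Modules) (q : ℕ) :
    ∀ {F : X.Modules} (E : ℕ → X.Modules) (d : ∀ j, E (j + 1) ⟶ E j) (π : E 0 ⟶ F), Epi π →
      ∀ (hπ : d 0 ≫ π = 0), (ShortComplex.mk (d 0) π hπ).Exact →
      ∀ (hd : ∀ j, d (j + 1) ≫ d j = 0), (∀ j, (ShortComplex.mk (d (j + 1)) (d j) (hd j)).Exact) →
      (∀ j, FlatMod.IsFinLocFree (E j)) →
      Nonempty ((ShortComplex.mk ((pre (d q)).app N) ((pre (d (q + 1))).app N)
        (pre_comp_pre _ _ (hd q) N)).homology ≅ (R F (q + 1)).obj N) := by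
  induction q with
  | zero =>
    intro F E d π hπe hπ e₀ hd ed hE
    haveI := hπe
    exact nonempty_resolution_one (d 1) (d 0) π hπ e₀ (hd 0) (ed 0) (hE 0) N
  | succ q ih =>
    intro F E d π hπe hπ e₀ hd ed hE
    haveI := hπe
    let S : ShortComplex X.Modules := ShortComplex.mk (kernel.ι π) π (kernel.condition π)
    have hS : S.ShortExact := { exact := ShortComplex.exact_kernel π }
    have w' : d 1 ≫ kernel.lift π (d 0) hπ = 0 := by
      rw [← cancel_mono (kernel.ι π), Category.assoc, kernel.lift_ι, hd 0, zero_comp]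
    obtain ⟨e⟩ := ih (fun j => E (j + 1)) (fun j => d (j + 1)) (kernel.lift π (d 0) hπ) e₀.epi_kernelLift w'
      ((ShortComplex.exact_iff_of_epi_of_isIso_of_mono
        (S₁ := ShortComplex.mk (d 1) (kernel.lift π (d 0) hπ) w') (S₂ := ShortComplex.mk (d 1) (d 0) (hd 0))
        { τ₁ := 𝟙 _, τ₂ := 𝟙 _, τ₃ := kernel.ι π
          comm₁₂ := by simp
          comm₂₃ := by simp }).2 (ed 0))
      (fun j => hd (j + 1)) (fun j => ed (j + 1)) (fun j => hE (j + 1))
    obtain ⟨e'⟩ := nonempty_firstShift hS N (fun r => isZero_of_finLocFree (E 0) (hE 0) r N) q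
    exact ⟨e ≪≫ e'.symm⟩

/-- The cohomology of `Hom(E, N)` is `ℰxt(F, N)`. -/
theorem nonempty_homology_resolution {F : X.Modules} (E : ChainComplex X.Modules ℕ) (π : E.X 0 ⟶ F) [Epi π]
    (hπ : E.d 1 0 ≫ π = 0) (e₀ : (ShortComplex.mk (E.d 1 0) π hπ).Exact) (hex : ∀ j : ℕ, E.ExactAt (j + 1))
    (hE : ∀ j, FlatMod.IsFinLocFree (E.X j)) (N : X.Modules) (C : CochainComplex X.Modules ℕ)
    (e : ∀ j : ℕ, C.X j ≅ (DCoh.sheafHom (E.X j)).obj N)
    (hC : ∀ j : ℕ, C.d j (j + 1) ≫ (e (j + 1)).hom = (e j).hom ≫ (pre (E.d (j + 1) j)).app N) (i : ℕ) :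
    Nonempty (C.homology i ≅ (R F i).obj N) := by
  rcases i with _ | q
  · haveI : Epi (ShortComplex.mk (E.d 1 0) π hπ).g := ‹Epi π›
    obtain ⟨w, hm, hk⟩ := pre_kernel (ShortComplex.mk (E.d 1 0) π hπ) e₀ N
    haveI := hm
    let k : (DCoh.sheafHom F).obj N ⟶ C.X 0 := (pre π).app N ≫ (e 0).inv
    have hk0 : k ≫ C.d 0 1 = 0 := by
      rw [← cancel_mono (e 1).hom, zero_comp, Category.assoc, hC 0, Category.assoc, Iso.inv_hom_id_assoc]
      exact w
    have hlim : IsLimit (KernelFork.ofι k hk0) :=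
      KernelFork.IsLimit.ofι' _ _ fun {Y} y hy => ⟨hk.lift (y ≫ (e 0).hom) (by
          show (y ≫ (e 0).hom) ≫ (pre (E.d 1 0)).app N = 0
          rw [Category.assoc, ← hC 0, ← Category.assoc, hy, zero_comp]), by
        show _ ≫ (pre π).app N ≫ (e 0).inv = y
        rw [← Category.assoc, Iso.comp_inv_eq]
        exact hk.lift_f _ _⟩
    exact ⟨(CochainComplex.isoHomologyπ₀ C).symm ≪≫
      (C.cyclesIsKernel 0 1 (by simp)).conePointUniqueUpToIso hlim ≪≫ (zeroIso F N).symm⟩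
  · have hd : ∀ j, E.d (j + 2) (j + 1) ≫ E.d (j + 1) j = 0 := fun j => E.d_comp_d _ _ _
    obtain ⟨a⟩ := nonempty_resolution_succ N q E.X (fun j => E.d (j + 1) j) π ‹Epi π› hπ e₀ hd
      (fun j => (E.exactAt_iff' (j + 2) (j + 1) j (by simp) (by simp)).1 (hex j)) hE
    let b : C.sc' q (q + 1) (q + 2) ≅ ShortComplex.mk ((pre (E.d (q + 1) q)).app N)
        ((pre (E.d (q + 2) (q + 1))).app N) (pre_comp_pre _ _ (hd q) N) :=
      ShortComplex.isoMk (e q) (e (q + 1)) (e (q + 2)) (hC q).symm (hC (q + 1)).symm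
    exact ⟨ShortComplex.homologyMapIso (C.isoSc' q (q + 1) (q + 2) (by simp) (by simp) ≪≫ b) ≪≫ a⟩

end Groth.Agent.ExtShX
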