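import Groth.Agent.ExtShX.Basic
import Groth.Agent.W7InjStalk.Basic
import Groth.Agent.RefStalk.Refl
import Groth.Agent.W7Hull.SheafHomExact
import Groth.Agent.KFlat.SchemeStalk
import Mathlib.Algebra.Category.ModuleCat.Ext.HasExt

/-!
Stalks of Ext sheaves out of coherent modules are Ext modules of stalks.
-/

set_option autoImplicit false
set_option linter.style.haveILetI false
set_option linter.unusedSectionVars false
set_option backward.isDefEq.respectTransparency false
set_option backward.isDefEq.respectTransparency.types false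

universe u

open CategoryTheory CategoryTheory.Limits AlgebraicGeometry TopologicalSpace Opposite Abelian

noncomputable section

namespace Groth.Agent.ExtShX

section Mod

variable {A : Type u} [CommRing A]

/-- Morphisms `P → S₃` to `Ext¹(P, S₁)`. -/
def conn {S : ShortComplex (ModuleCat.{u} A)} (hS : S.ShortExact) (P : ModuleCat.{u} A) :
    (P →ₗ[A] S.X₃) →ₗ[A] Ext P S.X₁ 1 :=
  (hS.extClass.postcompOfLinear A P rfl).comp
    ((Ext.linearEquiv₀ (R := A)).symm.toLinearMap.comp (ModuleCat.homLinearEquiv (S := A)).symm.toLinearMap)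

lemma conn_apply {S : ShortComplex (ModuleCat.{u} A)} (hS : S.ShortExact) (P : ModuleCat.{u} A) (φ : P →ₗ[A] S.X₃) :
    conn hS P φ = (Ext.mk₀ (ModuleCat.ofHom φ)).comp hS.extClass rfl := rfl

theorem nonempty_ext_one_cokernel {S : ShortComplex (ModuleCat.{u} A)} (hS : S.ShortExact) [Injective S.X₂]
    (P : ModuleCat.{u} A) : Nonempty (cokernel (ModuleCat.ofHom (X := P →ₗ[A] S.X₂) (Y := P →ₗ[A] S.X₃)
      (S.g.hom.compRight A)) ≅ ModuleCat.of A (Ext P S.X₁ 1)) := by
  have hc : Function.Surjective (conn hS P) := fun x => by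
    obtain ⟨y, rfl⟩ := Ext.covariant_sequence_exact₁ P hS x (Ext.eq_zero_of_injective _) (zero_add 1)
    obtain ⟨φ, rfl⟩ := (Ext.mk₀_bijective _ _).2 y
    exact ⟨φ.hom, rfl⟩
  have hker : LinearMap.ker (conn hS P) = LinearMap.range (S.g.hom.compRight A : (P →ₗ[A] S.X₂) →ₗ[A] (P →ₗ[A] S.X₃)) := by
    ext φ
    rw [LinearMap.mem_ker, conn_apply, LinearMap.mem_range]
    constructor
    · intro h
      obtain ⟨x, hx⟩ := Ext.covariant_sequence_exact₃ P hS (Ext.mk₀ (ModuleCat.ofHom φ)) rfl h
      obtain ⟨ψ, rfl⟩ := (Ext.mk₀_bijective _ _).2 x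
      rw [Ext.mk₀_comp_mk₀] at hx
      exact ⟨ψ.hom, congrArg (fun m => m.hom) ((Ext.mk₀_bijective _ _).1 hx)⟩
    · rintro ⟨ψ, rfl⟩
      rw [show ModuleCat.ofHom (S.g.hom.compRight A ψ) = ModuleCat.ofHom ψ ≫ S.g from rfl, ← Ext.mk₀_comp_mk₀,
        Ext.comp_assoc_of_second_deg_zero, hS.comp_extClass, Ext.comp_zero]
  exact ⟨ModuleCat.cokernelIsoRangeQuotient _ ≪≫
    ((Submodule.quotEquivOfEq _ _ hker.symm).trans (LinearMap.quotKerEquivOfSurjective _ hc)).toModuleIso⟩

theorem nonempty_ext_shift {S : ShortComplex (ModuleCat.{u} A)} (hS : S.ShortExact) [Injective S.X₂]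
    (P : ModuleCat.{u} A) (q : ℕ) :
    Nonempty (ModuleCat.of A (Ext P S.X₃ (q + 1)) ≅ ModuleCat.of A (Ext P S.X₁ (q + 2))) := by
  let f := hS.extClass.postcompOfLinear A P (rfl : q + 1 + 1 = q + 2)
  have hf : Function.Bijective f := by
    refine ⟨(injective_iff_map_eq_zero f).2 fun x hx => ?_, fun y => ?_⟩
    · obtain ⟨z, rfl⟩ := Ext.covariant_sequence_exact₃ P hS x rfl hx
      rw [Ext.eq_zero_of_injective z, Ext.zero_comp]
    · exact Ext.covariant_sequence_exact₁ P hS y (Ext.eq_zero_of_injective _) rfl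
  exact ⟨(LinearEquiv.ofBijective f hf).toModuleIso⟩

end Mod

variable {X : Scheme.{u}} [IsLocallyNoetherian X] (F : X.Modules) (hF : Coh.IsCoh F) (x : X)

/-- The stalk of the internal Hom out of a coherent module. -/
def evalIso (G : X.Modules) : (DerSch.stalkFunctor X x).obj ((DCoh.sheafHom F).obj G) ≅
    ModuleCat.of (X.presheaf.stalk x) (((DerSch.stalkFunctor X x).obj F) →ₗ[X.presheaf.stalk x] ((DerSch.stalkFunctor X x).obj G)) :=
  (DerSch.stalkFunctor X x).mapIso ((W7Hull.sheafHomIso F).app G) ≪≫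
    (LinearEquiv.ofBijective (RefHull.evalStalk F G x) (RefStalk.bijective_evalStalk_of_isCoh hF x)).toModuleIso

lemma evalIso_natural {G G' : X.Modules} (φ : G ⟶ G') :
    (DerSch.stalkFunctor X x).map ((DCoh.sheafHom F).map φ) ≫ (evalIso F hF x G').hom =
      (evalIso F hF x G).hom ≫ ModuleCat.ofHom (((DerSch.stalkFunctor X x).map φ).hom.compRight (X.presheaf.stalk x)) := by
  have h := congrArg (fun t => (DerSch.stalkFunctor X x).map t) ((W7Hull.sheafHomIso F).hom.naturality φ)
  simp only [Functor.map_comp] at h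
  simp only [evalIso, Iso.trans_hom, Functor.mapIso_hom, Iso.app_hom, Category.assoc]
  rw [← Category.assoc, h, Category.assoc]
  congr 1
  ext θ : 2
  exact W7Hull.evalStalk_homMap φ x θ

include hF in
/-- `ℰxt^i(F, G)_x = Ext^i(F_x, G_x)`. -/
theorem nonempty_stalk_R (i : ℕ) : ∀ G : X.Modules,
    Nonempty ((DerSch.stalkFunctor X x).obj ((R F i).obj G) ≅
      ModuleCat.of (X.presheaf.stalk x) (Ext ((DerSch.stalkFunctor X x).obj F) ((DerSch.stalkFunctor X x).obj G) i)) := by
  haveI hinj : ∀ I : X.Modules, Injective I → Injective ((DerSch.stalkFunctor X x).obj I) := fun I hI =>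
    haveI : Module.Injective (X.presheaf.stalk x) (I.presheaf.stalk x) :=
      haveI := hI
      W7InjStalk.injective_stalk I x
    Module.injective_object_of_injective_module (X.presheaf.stalk x) (I.presheaf.stalk x)
  induction i with
  | zero =>
    exact fun G => ⟨(DerSch.stalkFunctor X x).mapIso (zeroIso F G) ≪≫ evalIso F hF x G ≪≫
      ((ModuleCat.homLinearEquiv (S := X.presheaf.stalk x)).symm.trans
        (Ext.linearEquiv₀ (R := X.presheaf.stalk x)).symm).toModuleIso⟩
  | succ i ih =>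
    intro G
    let S := injSeq G
    have hS : (S.map (DerSch.stalkFunctor X x)).ShortExact := (injSeq_shortExact G).map_of_exact (DerSch.stalkFunctor X x)
    haveI : Injective (S.map (DerSch.stalkFunctor X x)).X₂ := hinj S.X₂ inferInstance
    rcases i with _ | i
    · obtain ⟨e⟩ := nonempty_oneIso F G
      obtain ⟨e'⟩ := nonempty_ext_one_cokernel hS ((DerSch.stalkFunctor X x).obj F)
      exact ⟨(DerSch.stalkFunctor X x).mapIso e ≪≫ PreservesCokernel.iso (DerSch.stalkFunctor X x) _ ≪≫
        cokernel.mapIso _ _ (evalIso F hF x S.X₂) (evalIso F hF x S.X₃) (evalIso_natural F hF x S.g) ≪≫ e'⟩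
    · obtain ⟨e⟩ := nonempty_shiftIso F G i
      obtain ⟨e'⟩ := nonempty_ext_shift hS ((DerSch.stalkFunctor X x).obj F) i
      obtain ⟨j⟩ := ih S.X₃
      exact ⟨(DerSch.stalkFunctor X x).mapIso e ≪≫ j ≪≫ e'⟩

end Groth.Agent.ExtShX
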